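import Cfsg.Agent.Spor.C3M.T

set_option autoImplicit false
set_option maxRecDepth 100000000
set_option Elab.async false

namespace Cfsg.Agent.Spor.C3M

theorem ok0 : Net.okb 18 n0 = true := by decide +kernel

theorem ok1 : Net.okb 18 n1 = true := by decide +kernel

theorem ok2 : Net.okb 18 n2 = true := by decide +kernel

theorem ok3 : Net.okb 18 n3 = true := by decide +kernel

theorem ok4 : Net.okb 18 n4 = true := by decide +kernel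

theorem rel0 : T.rel 18 [1, 1] 0 18 = true := by decide +kernel

theorem rel1 : T.rel 18 [2, 2] 0 18 = true := by decide +kernel

theorem rel2 : T.rel 18 [3, 3] 0 18 = true := by decide +kernel

theorem rel3 : T.rel 18 [4, 4] 0 18 = true := by decide +kernel

theorem rel4 : T.rel 18 [5, 5] 0 18 = true := by decide +kernel

theorem rel5 : T.rel 18 [3, 2, 3, 2, 3, 2, 3, 2] 0 18 = true := by decide +kernel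

theorem rel6_0 : T.rel 18 [5, 2, 5, 2, 5, 2, 5, 2, 5, 2, 5, 2] 0 14 = true := by decide +kernel

theorem rel6_14 : T.rel 18 [5, 2, 5, 2, 5, 2, 5, 2, 5, 2, 5, 2] 14 4 = true := by decide +kernel

theorem rel7 : T.rel 18 [5, 3, 5, 3, 5, 3, 5, 3] 0 18 = true := by decide +kernel

theorem rel8_0 : T.rel 18 [2, 3, 2, 3, 5, 2, 3, 2, 3, 5, 3, 2, 3, 2, 5] 0 11 = true := by decide +kernel

theorem rel8_11 : T.rel 18 [2, 3, 2, 3, 5, 2, 3, 2, 3, 5, 3, 2, 3, 2, 5] 11 7 = true := by decide +kernel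

theorem rel9_0 : T.rel 18 [2, 3, 5, 2, 3, 5, 3, 5, 2, 5, 2, 3, 5, 3, 5, 2, 5, 3, 2, 5, 3, 5] 0 7 = true := by decide +kernel

theorem rel9_7 : T.rel 18 [2, 3, 5, 2, 3, 5, 3, 5, 2, 5, 2, 3, 5, 3, 5, 2, 5, 3, 2, 5, 3, 5] 7 7 = true := by decide +kernel

theorem rel9_14 : T.rel 18 [2, 3, 5, 2, 3, 5, 3, 5, 2, 5, 2, 3, 5, 3, 5, 2, 5, 3, 2, 5, 3, 5] 14 4 = true := by decide +kernel

theorem rel10_0 : T.rel 18 [2, 3, 2, 5, 2, 5, 2, 3, 5, 2, 3, 5, 2, 3, 5, 2, 3, 5, 2, 3, 5, 3, 2, 3, 5] 0 6 = true := by decide +kernel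

theorem rel10_6 : T.rel 18 [2, 3, 2, 5, 2, 5, 2, 3, 5, 2, 3, 5, 2, 3, 5, 2, 3, 5, 2, 3, 5, 3, 2, 3, 5] 6 6 = true := by decide +kernel

theorem rel10_12 : T.rel 18 [2, 3, 2, 5, 2, 5, 2, 3, 5, 2, 3, 5, 2, 3, 5, 2, 3, 5, 2, 3, 5, 3, 2, 3, 5] 12 6 = true := by decide +kernel

theorem rel11_0 : T.rel 18 [4, 2, 4, 2, 4, 2, 4, 2, 4, 2, 4, 2] 0 14 = true := by decide +kernel

theorem rel11_14 : T.rel 18 [4, 2, 4, 2, 4, 2, 4, 2, 4, 2, 4, 2] 14 4 = true := by decide +kernel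

theorem rel12 : T.rel 18 [5, 4, 5, 4, 5, 4, 5, 4] 0 18 = true := by decide +kernel

theorem rel13_0 : T.rel 18 [2, 4, 2, 4, 2, 4, 5, 4, 2, 5, 4, 5, 4, 2, 4, 2, 5, 2, 5] 0 9 = true := by decide +kernel

theorem rel13_9 : T.rel 18 [2, 4, 2, 4, 2, 4, 5, 4, 2, 5, 4, 5, 4, 2, 4, 2, 5, 2, 5] 9 9 = true := by decide +kernel

theorem rel14_0 : T.rel 18 [2, 4, 2, 4, 5, 2, 4, 2, 5, 2, 4, 2, 4, 5, 2, 4, 2, 5] 0 9 = true := by decide +kernel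

theorem rel14_9 : T.rel 18 [2, 4, 2, 4, 5, 2, 4, 2, 5, 2, 4, 2, 4, 5, 2, 4, 2, 5] 9 9 = true := by decide +kernel

theorem rel15_0 : T.rel 18 [4, 3, 4, 3, 4, 3, 4, 3, 4, 3, 4, 3] 0 14 = true := by decide +kernel

theorem rel15_14 : T.rel 18 [4, 3, 4, 3, 4, 3, 4, 3, 4, 3, 4, 3] 14 4 = true := by decide +kernel

theorem rel16 : T.rel 18 [4, 5, 3, 5, 3, 4, 5] 0 18 = true := by decide +kernel

theorem rel17_0 : T.rel 18 [4, 2, 4, 2, 4, 3, 5, 2, 3, 2, 5, 2, 3, 5, 2, 5, 3, 2, 3] 0 9 = true := by decide +kernel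

theorem rel17_9 : T.rel 18 [4, 2, 4, 2, 4, 3, 5, 2, 3, 2, 5, 2, 3, 5, 2, 5, 3, 2, 3] 9 9 = true := by decide +kernel

theorem rel18_0 : T.rel 18 [4, 3, 2, 3, 4, 2, 3, 4, 3, 4, 3, 2, 4, 3, 2, 3, 4, 2, 5, 2] 0 8 = true := by decide +kernel

theorem rel18_8 : T.rel 18 [4, 3, 2, 3, 4, 2, 3, 4, 3, 4, 3, 2, 4, 3, 2, 3, 4, 2, 5, 2] 8 8 = true := by decide +kernel

theorem rel18_16 : T.rel 18 [4, 3, 2, 3, 4, 2, 3, 4, 3, 4, 3, 2, 4, 3, 2, 3, 4, 2, 5, 2] 16 2 = true := by decide +kernel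

theorem rel19 : T.rel 18 [2, 1, 2, 1, 2, 1, 2, 1] 0 18 = true := by decide +kernel

theorem rel20_0 : T.rel 18 [5, 1, 5, 1, 5, 1, 5, 1, 5, 1, 5, 1] 0 14 = true := by decide +kernel

theorem rel20_14 : T.rel 18 [5, 1, 5, 1, 5, 1, 5, 1, 5, 1, 5, 1] 14 4 = true := by decide +kernel

theorem rel21_0 : T.rel 18 [1, 2, 1, 2, 5, 1, 5, 2, 1, 2, 1, 5, 1, 5] 0 12 = true := by decide +kernel

theorem rel21_12 : T.rel 18 [1, 2, 1, 2, 5, 1, 5, 2, 1, 2, 1, 5, 1, 5] 12 6 = true := by decide +kernel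

theorem rel22_0 : T.rel 18 [1, 2, 1, 5, 1, 2, 5, 2, 1, 5, 2, 5, 1, 5, 2, 5, 1, 2, 5, 1, 5, 2, 5] 0 7 = true := by decide +kernel

theorem rel22_7 : T.rel 18 [1, 2, 1, 5, 1, 2, 5, 2, 1, 5, 2, 5, 1, 5, 2, 5, 1, 2, 5, 1, 5, 2, 5] 7 7 = true := by decide +kernel

theorem rel22_14 : T.rel 18 [1, 2, 1, 5, 1, 2, 5, 2, 1, 5, 2, 5, 1, 5, 2, 5, 1, 2, 5, 1, 5, 2, 5] 14 4 = true := by decide +kernel

theorem rel23_0 : T.rel 18 [1, 2, 5, 1, 2, 5, 1, 2, 5, 1, 2, 5, 1, 2, 5, 1, 2, 5] 0 9 = true := by decide +kernel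

theorem rel23_9 : T.rel 18 [1, 2, 5, 1, 2, 5, 1, 2, 5, 1, 2, 5, 1, 2, 5, 1, 2, 5] 9 9 = true := by decide +kernel

theorem rel24 : T.rel 18 [4, 1, 4, 1, 4, 1] 0 18 = true := by decide +kernel

theorem rel25_0 : T.rel 18 [1, 4, 5, 1, 2, 4, 2, 5, 4, 5, 2, 4, 2, 4, 5, 2, 5] 0 10 = true := by decide +kernel

theorem rel25_10 : T.rel 18 [1, 4, 5, 1, 2, 4, 2, 5, 4, 5, 2, 4, 2, 4, 5, 2, 5] 10 8 = true := by decide +kernel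

theorem rel26_0 : T.rel 18 [1, 4, 2, 4, 1, 4, 2, 5, 2, 5, 4, 5, 2, 5, 4, 5, 4, 2, 4] 0 9 = true := by decide +kernel

theorem rel26_9 : T.rel 18 [1, 4, 2, 4, 1, 4, 2, 5, 2, 5, 4, 5, 2, 5, 4, 5, 4, 2, 4] 9 9 = true := by decide +kernel

theorem rel27_0 : T.rel 18 [3, 1, 3, 1, 3, 1, 3, 1, 3, 1, 3, 1] 0 14 = true := by decide +kernel

theorem rel27_14 : T.rel 18 [3, 1, 3, 1, 3, 1, 3, 1, 3, 1, 3, 1] 14 4 = true := by decide +kernel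

theorem rel28_0 : T.rel 18 [1, 3, 5, 3, 1, 3, 5, 2, 3, 5, 2, 3, 2, 5, 3, 2, 5, 3] 0 9 = true := by decide +kernel

theorem rel28_9 : T.rel 18 [1, 3, 5, 3, 1, 3, 5, 2, 3, 5, 2, 3, 2, 5, 3, 2, 5, 3] 9 9 = true := by decide +kernel

theorem rel29_0 : T.rel 18 [1, 3, 2, 3, 5, 2, 5, 1, 3, 5, 1, 5, 2, 5, 3, 2, 3, 5, 3, 2, 5, 3, 5, 3, 2, 3, 5] 0 6 = true := by decide +kernel

theorem rel29_6 : T.rel 18 [1, 3, 2, 3, 5, 2, 5, 1, 3, 5, 1, 5, 2, 5, 3, 2, 3, 5, 3, 2, 5, 3, 5, 3, 2, 3, 5] 6 6 = true := by decide +kernel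

theorem rel29_12 : T.rel 18 [1, 3, 2, 3, 5, 2, 5, 1, 3, 5, 1, 5, 2, 5, 3, 2, 3, 5, 3, 2, 5, 3, 5, 3, 2, 3, 5] 12 6 = true := by decide +kernel

theorem rel30_0 : T.rel 18 [1, 3, 2, 3, 5, 3, 2, 1, 3, 5, 1, 2, 5, 2, 3, 5, 3, 2, 3, 5, 3, 2, 5, 2, 3] 0 6 = true := by decide +kernel

theorem rel30_6 : T.rel 18 [1, 3, 2, 3, 5, 3, 2, 1, 3, 5, 1, 2, 5, 2, 3, 5, 3, 2, 3, 5, 3, 2, 5, 2, 3] 6 6 = true := by decide +kernel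

theorem rel30_12 : T.rel 18 [1, 3, 2, 3, 5, 3, 2, 1, 3, 5, 1, 2, 5, 2, 3, 5, 3, 2, 3, 5, 3, 2, 5, 2, 3] 12 6 = true := by decide +kernel

theorem rel31_0 : T.rel 18 [1, 3, 2, 5, 2, 5, 2, 3, 1, 3, 2, 5, 2, 5, 2, 3] 0 10 = true := by decide +kernel

theorem rel31_10 : T.rel 18 [1, 3, 2, 5, 2, 5, 2, 3, 1, 3, 2, 5, 2, 5, 2, 3] 10 8 = true := by decide +kernel

theorem rel32_0 : T.rel 18 [1, 5, 2, 5, 1, 5, 2, 5, 3, 5, 2, 5, 2, 3, 5, 2, 3, 2, 5, 2] 0 8 = true := by decide +kernel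

theorem rel32_8 : T.rel 18 [1, 5, 2, 5, 1, 5, 2, 5, 3, 5, 2, 5, 2, 3, 5, 2, 3, 2, 5, 2] 8 8 = true := by decide +kernel

theorem rel32_16 : T.rel 18 [1, 5, 2, 5, 1, 5, 2, 5, 3, 5, 2, 5, 2, 3, 5, 2, 3, 2, 5, 2] 16 2 = true := by decide +kernel

theorem hcov : T.treeCov (ones 170775) L 1 = true := by decide +kernel

theorem hg : lall (fun z => band (memL L z) (band (sub (ones 170775) (T.let z).cl) (T.closed (ones 170775) z))) gs = true := by decide +kernel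

theorem rot1_1 : T.rot 1 [1] (sel (ones 170775) ip1 1) = true := by decide +kernel

theorem rot1_1r : band (Rule.ok (2 * 5) EX RL ⟨1 :: [1], [], 28, false⟩) (lall (memL L) [1]) = true := by decide +kernel

theorem rot1_2 : T.rot 1 [4, 1, 4, 1, 4] (sel (ones 170775) ip1 2) = true := by decide +kernel

theorem rot1_2r : band (Rule.ok (2 * 5) EX RL ⟨1 :: [4, 1, 4, 1, 4], [], 19, false⟩) (lall (memL L) [4, 1, 4, 1, 4]) = true := by decide +kernel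

theorem rot1_3 : T.rot 1 [2, 1, 2, 1, 2, 1, 2] (sel (ones 170775) ip1 3) = true := by decide +kernel

theorem rot1_3r : band (Rule.ok (2 * 5) EX RL ⟨1 :: [2, 1, 2, 1, 2, 1, 2], [], 14, false⟩) (lall (memL L) [2, 1, 2, 1, 2, 1, 2]) = true := by decide +kernel

theorem rot1_4 : T.rot 1 [5, 1, 5, 1, 5, 1, 5, 1, 5, 1, 5] (sel (ones 170775) ip1 4) = true := by decide +kernel

theorem rot1_4r : band (Rule.ok (2 * 5) EX RL ⟨1 :: [5, 1, 5, 1, 5, 1, 5, 1, 5, 1, 5], [], 15, false⟩) (lall (memL L) [5, 1, 5, 1, 5, 1, 5, 1, 5, 1, 5]) = true := by decide +kernel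

theorem rot1_5 : T.rot 1 [3, 1, 3, 1, 3, 1, 3, 1, 3, 1, 3] (sel (ones 170775) ip1 5) = true := by decide +kernel

theorem rot1_5r : band (Rule.ok (2 * 5) EX RL ⟨1 :: [3, 1, 3, 1, 3, 1, 3, 1, 3, 1, 3], [], 22, false⟩) (lall (memL L) [3, 1, 3, 1, 3, 1, 3, 1, 3, 1, 3]) = true := by decide +kernel

theorem rot1_6 : T.rot 1 [2, 1, 2, 5, 1, 5, 2, 1, 2, 1, 5, 1, 5] (sel (ones 170775) ip1 6) = true := by decide +kernel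

theorem rot1_6r : band (Rule.ok (2 * 5) EX RL ⟨1 :: [2, 1, 2, 5, 1, 5, 2, 1, 2, 1, 5, 1, 5], [], 16, true⟩) (lall (memL L) [2, 1, 2, 5, 1, 5, 2, 1, 2, 1, 5, 1, 5]) = true := by decide +kernel

theorem rot1_7 : T.rot 1 [2, 5, 1, 5, 2, 1, 2, 1, 5, 1, 5, 1, 2] (sel (ones 170775) ip1 7) = true := by decide +kernel

theorem rot1_7r : band (Rule.ok (2 * 5) EX RL ⟨1 :: [2, 5, 1, 5, 2, 1, 2, 1, 5, 1, 5, 1, 2], [0, 2], 16, true⟩) (lall (memL L) [2, 5, 1, 5, 2, 1, 2, 1, 5, 1, 5, 1, 2]) = true := by decide +kernel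

theorem rot1_8 : T.rot 1 [5, 2, 1, 2, 1, 5, 1, 5, 1, 2, 1, 2, 5] (sel (ones 170775) ip1 8) = true := by decide +kernel

theorem rot1_8r : band (Rule.ok (2 * 5) EX RL ⟨1 :: [5, 2, 1, 2, 1, 5, 1, 5, 1, 2, 1, 2, 5], [0, 2, 0, 2, 8], 16, true⟩) (lall (memL L) [5, 2, 1, 2, 1, 5, 1, 5, 1, 2, 1, 2, 5]) = true := by decide +kernel

theorem rot1_9 : T.rot 1 [2, 1, 5, 1, 5, 1, 2, 1, 2, 5, 1, 5, 2] (sel (ones 170775) ip1 9) = true := by decide +kernel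

theorem rot1_9r : band (Rule.ok (2 * 5) EX RL ⟨1 :: [2, 1, 5, 1, 5, 1, 2, 1, 2, 5, 1, 5, 2], [0, 2, 0], 16, false⟩) (lall (memL L) [2, 1, 5, 1, 5, 1, 2, 1, 2, 5, 1, 5, 2]) = true := by decide +kernel

theorem rot1_10 : T.rot 1 [5, 1, 5, 1, 2, 1, 2, 5, 1, 5, 2, 1, 2] (sel (ones 170775) ip1 10) = true := by decide +kernel

theorem rot1_10r : band (Rule.ok (2 * 5) EX RL ⟨1 :: [5, 1, 5, 1, 2, 1, 2, 5, 1, 5, 2, 1, 2], [0], 16, false⟩) (lall (memL L) [5, 1, 5, 1, 2, 1, 2, 5, 1, 5, 2, 1, 2]) = true := by decide +kernel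

theorem rot1_11 : T.rot 1 [5, 1, 2, 1, 2, 5, 1, 5, 2, 1, 2, 1, 5] (sel (ones 170775) ip1 11) = true := by decide +kernel

theorem rot1_11r : band (Rule.ok (2 * 5) EX RL ⟨1 :: [5, 1, 2, 1, 2, 5, 1, 5, 2, 1, 2, 1, 5], [8], 16, false⟩) (lall (memL L) [5, 1, 2, 1, 2, 5, 1, 5, 2, 1, 2, 1, 5]) = true := by decide +kernel

theorem rot1_12 : T.rot 1 [3, 2, 5, 2, 5, 2, 3, 1, 3, 2, 5, 2, 5, 2, 3] (sel (ones 170775) ip1 12) = true := by decide +kernel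

theorem rot1_12r : band (Rule.ok (2 * 5) EX RL ⟨1 :: [3, 2, 5, 2, 5, 2, 3, 1, 3, 2, 5, 2, 5, 2, 3], [], 26, true⟩) (lall (memL L) [3, 2, 5, 2, 5, 2, 3, 1, 3, 2, 5, 2, 5, 2, 3]) = true := by decide +kernel

theorem rot1_13 : T.rot 1 [4, 5, 1, 2, 4, 2, 5, 4, 5, 2, 4, 2, 4, 5, 2, 5] (sel (ones 170775) ip1 13) = true := by decide +kernel

theorem rot1_13r : band (Rule.ok (2 * 5) EX RL ⟨1 :: [4, 5, 1, 2, 4, 2, 5, 4, 5, 2, 4, 2, 4, 5, 2, 5], [], 20, true⟩) (lall (memL L) [4, 5, 1, 2, 4, 2, 5, 4, 5, 2, 4, 2, 4, 5, 2, 5]) = true := by decide +kernel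

theorem rot1_14 : T.rot 1 [2, 4, 2, 5, 4, 5, 2, 4, 2, 4, 5, 2, 5, 1, 4, 5] (sel (ones 170775) ip1 14) = true := by decide +kernel

theorem rot1_14r : band (Rule.ok (2 * 5) EX RL ⟨1 :: [2, 4, 2, 5, 4, 5, 2, 4, 2, 4, 5, 2, 5, 1, 4, 5], [0, 6, 8], 20, true⟩) (lall (memL L) [2, 4, 2, 5, 4, 5, 2, 4, 2, 4, 5, 2, 5, 1, 4, 5]) = true := by decide +kernel

theorem rot1_15 : T.rot 1 [5, 4, 1, 5, 2, 5, 4, 2, 4, 2, 5, 4, 5, 2, 4, 2] (sel (ones 170775) ip1 15) = true := by decide +kernel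

theorem rot1_15r : band (Rule.ok (2 * 5) EX RL ⟨1 :: [5, 4, 1, 5, 2, 5, 4, 2, 4, 2, 5, 4, 5, 2, 4, 2], [0, 6, 8, 0], 20, false⟩) (lall (memL L) [5, 4, 1, 5, 2, 5, 4, 2, 4, 2, 5, 4, 5, 2, 4, 2]) = true := by decide +kernel

theorem rot1_16 : T.rot 1 [5, 2, 5, 4, 2, 4, 2, 5, 4, 5, 2, 4, 2, 1, 5, 4] (sel (ones 170775) ip1 16) = true := by decide +kernel

theorem rot1_16r : band (Rule.ok (2 * 5) EX RL ⟨1 :: [5, 2, 5, 4, 2, 4, 2, 5, 4, 5, 2, 4, 2, 1, 5, 4], [0], 20, false⟩) (lall (memL L) [5, 2, 5, 4, 2, 4, 2, 5, 4, 5, 2, 4, 2, 1, 5, 4]) = true := by decide +kernel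

theorem rot1_17 : T.rot 1 [2, 5, 1, 2, 5, 1, 2, 5, 1, 2, 5, 1, 2, 5, 1, 2, 5] (sel (ones 170775) ip1 17) = true := by decide +kernel

theorem rot1_17r : band (Rule.ok (2 * 5) EX RL ⟨1 :: [2, 5, 1, 2, 5, 1, 2, 5, 1, 2, 5, 1, 2, 5, 1, 2, 5], [], 18, true⟩) (lall (memL L) [2, 5, 1, 2, 5, 1, 2, 5, 1, 2, 5, 1, 2, 5, 1, 2, 5]) = true := by decide +kernel

theorem rot1_18 : T.rot 1 [5, 2, 1, 5, 2, 1, 5, 2, 1, 5, 2, 1, 5, 2, 1, 5, 2] (sel (ones 170775) ip1 18) = true := by decide +kernel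

theorem rot1_18r : band (Rule.ok (2 * 5) EX RL ⟨1 :: [5, 2, 1, 5, 2, 1, 5, 2, 1, 5, 2, 1, 5, 2, 1, 5, 2], [0], 18, false⟩) (lall (memL L) [5, 2, 1, 5, 2, 1, 5, 2, 1, 5, 2, 1, 5, 2, 1, 5, 2]) = true := by decide +kernel

theorem rot1_19 : T.rot 1 [3, 5, 3, 1, 3, 5, 2, 3, 5, 2, 3, 2, 5, 3, 2, 5, 3] (sel (ones 170775) ip1 19) = true := by decide +kernel

theorem rot1_19r : band (Rule.ok (2 * 5) EX RL ⟨1 :: [3, 5, 3, 1, 3, 5, 2, 3, 5, 2, 3, 2, 5, 3, 2, 5, 3], [], 23, true⟩) (lall (memL L) [3, 5, 3, 1, 3, 5, 2, 3, 5, 2, 3, 2, 5, 3, 2, 5, 3]) = true := by decide +kernel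

theorem rot1_20 : T.rot 1 [3, 5, 2, 3, 5, 2, 3, 2, 5, 3, 2, 5, 3, 1, 3, 5, 3] (sel (ones 170775) ip1 20) = true := by decide +kernel

theorem rot1_20r : band (Rule.ok (2 * 5) EX RL ⟨1 :: [3, 5, 2, 3, 5, 2, 3, 2, 5, 3, 2, 5, 3, 1, 3, 5, 3], [0], 23, false⟩) (lall (memL L) [3, 5, 2, 3, 5, 2, 3, 2, 5, 3, 2, 5, 3, 1, 3, 5, 3]) = true := by decide +kernel

theorem rot1_21 : T.rot 1 [4, 2, 4, 1, 4, 2, 5, 2, 5, 4, 5, 2, 5, 4, 5, 4, 2, 4] (sel (ones 170775) ip1 21) = true := by decide +kernel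

theorem rot1_21r : band (Rule.ok (2 * 5) EX RL ⟨1 :: [4, 2, 4, 1, 4, 2, 5, 2, 5, 4, 5, 2, 5, 4, 5, 4, 2, 4], [], 21, true⟩) (lall (memL L) [4, 2, 4, 1, 4, 2, 5, 2, 5, 4, 5, 2, 5, 4, 5, 4, 2, 4]) = true := by decide +kernel

theorem rot1_22 : T.rot 1 [4, 2, 5, 2, 5, 4, 5, 2, 5, 4, 5, 4, 2, 4, 1, 4, 2, 4] (sel (ones 170775) ip1 22) = true := by decide +kernel

theorem rot1_22r : band (Rule.ok (2 * 5) EX RL ⟨1 :: [4, 2, 5, 2, 5, 4, 5, 2, 5, 4, 5, 4, 2, 4, 1, 4, 2, 4], [0, 6, 2, 6], 21, true⟩) (lall (memL L) [4, 2, 5, 2, 5, 4, 5, 2, 5, 4, 5, 4, 2, 4, 1, 4, 2, 4]) = true := by decide +kernel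

theorem rot1_23 : T.rot 1 [4, 2, 4, 1, 4, 2, 4, 5, 4, 5, 2, 5, 4, 5, 2, 5, 2, 4] (sel (ones 170775) ip1 23) = true := by decide +kernel

theorem rot1_23r : band (Rule.ok (2 * 5) EX RL ⟨1 :: [4, 2, 4, 1, 4, 2, 4, 5, 4, 5, 2, 5, 4, 5, 2, 5, 2, 4], [0, 6, 2, 6, 0], 21, false⟩) (lall (memL L) [4, 2, 4, 1, 4, 2, 4, 5, 4, 5, 2, 5, 4, 5, 2, 5, 2, 4]) = true := by decide +kernel

theorem rot1_24 : T.rot 1 [4, 2, 4, 5, 4, 5, 2, 5, 4, 5, 2, 5, 2, 4, 1, 4, 2, 4] (sel (ones 170775) ip1 24) = true := by decide +kernel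

theorem rot1_24r : band (Rule.ok (2 * 5) EX RL ⟨1 :: [4, 2, 4, 5, 4, 5, 2, 5, 4, 5, 2, 5, 2, 4, 1, 4, 2, 4], [0], 21, false⟩) (lall (memL L) [4, 2, 4, 5, 4, 5, 2, 5, 4, 5, 2, 5, 2, 4, 1, 4, 2, 4]) = true := by decide +kernel

theorem rot1_25 : T.rot 1 [5, 2, 5, 1, 5, 2, 5, 3, 5, 2, 5, 2, 3, 5, 2, 3, 2, 5, 2] (sel (ones 170775) ip1 25) = true := by decide +kernel

theorem rot1_25r : band (Rule.ok (2 * 5) EX RL ⟨1 :: [5, 2, 5, 1, 5, 2, 5, 3, 5, 2, 5, 2, 3, 5, 2, 3, 2, 5, 2], [], 27, true⟩) (lall (memL L) [5, 2, 5, 1, 5, 2, 5, 3, 5, 2, 5, 2, 3, 5, 2, 3, 2, 5, 2]) = true := by decide +kernel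

theorem rot1_26 : T.rot 1 [5, 2, 5, 3, 5, 2, 5, 2, 3, 5, 2, 3, 2, 5, 2, 1, 5, 2, 5] (sel (ones 170775) ip1 26) = true := by decide +kernel

theorem rot1_26r : band (Rule.ok (2 * 5) EX RL ⟨1 :: [5, 2, 5, 3, 5, 2, 5, 2, 3, 5, 2, 3, 2, 5, 2, 1, 5, 2, 5], [0, 8, 2, 8], 27, true⟩) (lall (memL L) [5, 2, 5, 3, 5, 2, 5, 2, 3, 5, 2, 3, 2, 5, 2, 1, 5, 2, 5]) = true := by decide +kernel

theorem rot1_27 : T.rot 1 [5, 2, 5, 1, 2, 5, 2, 3, 2, 5, 3, 2, 5, 2, 5, 3, 5, 2, 5] (sel (ones 170775) ip1 27) = true := by decide +kernel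

theorem rot1_27r : band (Rule.ok (2 * 5) EX RL ⟨1 :: [5, 2, 5, 1, 2, 5, 2, 3, 2, 5, 3, 2, 5, 2, 5, 3, 5, 2, 5], [0, 8, 2, 8, 0], 27, false⟩) (lall (memL L) [5, 2, 5, 1, 2, 5, 2, 3, 2, 5, 3, 2, 5, 2, 5, 3, 5, 2, 5]) = true := by decide +kernel

theorem rot1_28 : T.rot 1 [2, 5, 2, 3, 2, 5, 3, 2, 5, 2, 5, 3, 5, 2, 5, 1, 5, 2, 5] (sel (ones 170775) ip1 28) = true := by decide +kernel

theorem rot1_28r : band (Rule.ok (2 * 5) EX RL ⟨1 :: [2, 5, 2, 3, 2, 5, 3, 2, 5, 2, 5, 3, 5, 2, 5, 1, 5, 2, 5], [0], 27, false⟩) (lall (memL L) [2, 5, 2, 3, 2, 5, 3, 2, 5, 2, 5, 3, 5, 2, 5, 1, 5, 2, 5]) = true := by decide +kernel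

theorem rot1_29 : T.rot 1 [2, 1, 5, 1, 2, 5, 2, 1, 5, 2, 5, 1, 5, 2, 5, 1, 2, 5, 1, 5, 2, 5] (sel (ones 170775) ip1 29) = true := by decide +kernel

theorem rot1_29r : band (Rule.ok (2 * 5) EX RL ⟨1 :: [2, 1, 5, 1, 2, 5, 2, 1, 5, 2, 5, 1, 5, 2, 5, 1, 2, 5, 1, 5, 2, 5], [], 17, true⟩) (lall (memL L) [2, 1, 5, 1, 2, 5, 2, 1, 5, 2, 5, 1, 5, 2, 5, 1, 2, 5, 1, 5, 2, 5]) = true := by decide +kernel

theorem rot1_30 : T.rot 1 [5, 1, 2, 5, 2, 1, 5, 2, 5, 1, 5, 2, 5, 1, 2, 5, 1, 5, 2, 5, 1, 2] (sel (ones 170775) ip1 30) = true := by decide +kernel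

theorem rot1_30r : band (Rule.ok (2 * 5) EX RL ⟨1 :: [5, 1, 2, 5, 2, 1, 5, 2, 5, 1, 5, 2, 5, 1, 2, 5, 1, 5, 2, 5, 1, 2], [0, 2], 17, true⟩) (lall (memL L) [5, 1, 2, 5, 2, 1, 5, 2, 5, 1, 5, 2, 5, 1, 2, 5, 1, 5, 2, 5, 1, 2]) = true := by decide +kernel

theorem rot1_31 : T.rot 1 [2, 5, 2, 1, 5, 2, 5, 1, 5, 2, 5, 1, 2, 5, 1, 5, 2, 5, 1, 2, 1, 5] (sel (ones 170775) ip1 31) = true := by decide +kernel

theorem rot1_31r : band (Rule.ok (2 * 5) EX RL ⟨1 :: [2, 5, 2, 1, 5, 2, 5, 1, 5, 2, 5, 1, 2, 5, 1, 5, 2, 5, 1, 2, 1, 5], [0, 2, 0, 8], 17, true⟩) (lall (memL L) [2, 5, 2, 1, 5, 2, 5, 1, 5, 2, 5, 1, 2, 5, 1, 5, 2, 5, 1, 2, 1, 5]) = true := by decide +kernel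

theorem rot1_32 : T.rot 1 [5, 2, 5, 1, 5, 2, 5, 1, 2, 5, 1, 5, 2, 5, 1, 2, 1, 5, 1, 2, 5, 2] (sel (ones 170775) ip1 32) = true := by decide +kernel

theorem rot1_32r : band (Rule.ok (2 * 5) EX RL ⟨1 :: [5, 2, 5, 1, 5, 2, 5, 1, 2, 5, 1, 5, 2, 5, 1, 2, 1, 5, 1, 2, 5, 2], [0, 2, 0, 8, 0, 2, 8, 2], 17, true⟩) (lall (memL L) [5, 2, 5, 1, 5, 2, 5, 1, 2, 5, 1, 5, 2, 5, 1, 2, 1, 5, 1, 2, 5, 2]) = true := by decide +kernel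

theorem rot1_33 : T.rot 1 [5, 2, 5, 1, 2, 5, 1, 5, 2, 5, 1, 2, 1, 5, 1, 2, 5, 2, 1, 5, 2, 5] (sel (ones 170775) ip1 33) = true := by decide +kernel

theorem rot1_33r : band (Rule.ok (2 * 5) EX RL ⟨1 :: [5, 2, 5, 1, 2, 5, 1, 5, 2, 5, 1, 2, 1, 5, 1, 2, 5, 2, 1, 5, 2, 5], [8, 2, 8, 0, 8, 2, 0, 8, 2, 8, 0], 17, true⟩) (lall (memL L) [5, 2, 5, 1, 2, 5, 1, 5, 2, 5, 1, 2, 1, 5, 1, 2, 5, 2, 1, 5, 2, 5]) = true := by decide +kernel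

theorem rot1_34 : T.rot 1 [2, 5, 1, 5, 2, 5, 1, 2, 1, 5, 1, 2, 5, 2, 1, 5, 2, 5, 1, 5, 2, 5] (sel (ones 170775) ip1 34) = true := by decide +kernel

theorem rot1_34r : band (Rule.ok (2 * 5) EX RL ⟨1 :: [2, 5, 1, 5, 2, 5, 1, 2, 1, 5, 1, 2, 5, 2, 1, 5, 2, 5, 1, 5, 2, 5], [8, 2, 8, 0, 8, 2, 0], 17, true⟩) (lall (memL L) [2, 5, 1, 5, 2, 5, 1, 2, 1, 5, 1, 2, 5, 2, 1, 5, 2, 5, 1, 5, 2, 5]) = true := by decide +kernel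

theorem rot1_35 : T.rot 1 [5, 2, 5, 1, 2, 1, 5, 1, 2, 5, 2, 1, 5, 2, 5, 1, 5, 2, 5, 1, 2, 5] (sel (ones 170775) ip1 35) = true := by decide +kernel

theorem rot1_35r : band (Rule.ok (2 * 5) EX RL ⟨1 :: [5, 2, 5, 1, 2, 1, 5, 1, 2, 5, 2, 1, 5, 2, 5, 1, 5, 2, 5, 1, 2, 5], [8, 2, 8, 0], 17, true⟩) (lall (memL L) [5, 2, 5, 1, 2, 1, 5, 1, 2, 5, 2, 1, 5, 2, 5, 1, 5, 2, 5, 1, 2, 5]) = true := by decide +kernel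

theorem rot1_36 : T.rot 1 [5, 2, 1, 5, 2, 5, 1, 5, 2, 5, 1, 2, 5, 2, 1, 5, 1, 2, 1, 5, 2, 5] (sel (ones 170775) ip1 36) = true := by decide +kernel

theorem rot1_36r : band (Rule.ok (2 * 5) EX RL ⟨1 :: [5, 2, 1, 5, 2, 5, 1, 5, 2, 5, 1, 2, 5, 2, 1, 5, 1, 2, 1, 5, 2, 5], [8, 2, 8], 17, false⟩) (lall (memL L) [5, 2, 1, 5, 2, 5, 1, 5, 2, 5, 1, 2, 5, 2, 1, 5, 1, 2, 1, 5, 2, 5]) = true := by decide +kernel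

theorem rot1_37 : T.rot 1 [5, 2, 5, 1, 5, 2, 5, 1, 2, 5, 2, 1, 5, 1, 2, 1, 5, 2, 5, 1, 5, 2] (sel (ones 170775) ip1 37) = true := by decide +kernel

theorem rot1_37r : band (Rule.ok (2 * 5) EX RL ⟨1 :: [5, 2, 5, 1, 5, 2, 5, 1, 2, 5, 2, 1, 5, 1, 2, 1, 5, 2, 5, 1, 5, 2], [8, 2, 8, 0, 8, 2], 17, false⟩) (lall (memL L) [5, 2, 5, 1, 5, 2, 5, 1, 2, 5, 2, 1, 5, 1, 2, 1, 5, 2, 5, 1, 5, 2]) = true := by decide +kernel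

theorem rot1_38 : T.rot 1 [5, 2, 5, 1, 2, 5, 2, 1, 5, 1, 2, 1, 5, 2, 5, 1, 5, 2, 1, 5, 2, 5] (sel (ones 170775) ip1 38) = true := by decide +kernel

theorem rot1_38r : band (Rule.ok (2 * 5) EX RL ⟨1 :: [5, 2, 5, 1, 2, 5, 2, 1, 5, 1, 2, 1, 5, 2, 5, 1, 5, 2, 1, 5, 2, 5], [8, 2, 8, 0, 8, 2, 0, 8, 2, 8], 17, false⟩) (lall (memL L) [5, 2, 5, 1, 2, 5, 2, 1, 5, 1, 2, 1, 5, 2, 5, 1, 5, 2, 1, 5, 2, 5]) = true := by decide +kernel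

theorem rot1_39 : T.rot 1 [2, 5, 2, 1, 5, 1, 2, 1, 5, 2, 5, 1, 5, 2, 1, 5, 2, 5, 1, 5, 2, 5] (sel (ones 170775) ip1 39) = true := by decide +kernel

theorem rot1_39r : band (Rule.ok (2 * 5) EX RL ⟨1 :: [2, 5, 2, 1, 5, 1, 2, 1, 5, 2, 5, 1, 5, 2, 1, 5, 2, 5, 1, 5, 2, 5], [0, 2, 0, 8, 0, 2, 8, 2, 0], 17, false⟩) (lall (memL L) [2, 5, 2, 1, 5, 1, 2, 1, 5, 2, 5, 1, 5, 2, 1, 5, 2, 5, 1, 5, 2, 5]) = true := by decide +kernel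

theorem rot1_40 : T.rot 1 [5, 1, 2, 1, 5, 2, 5, 1, 5, 2, 1, 5, 2, 5, 1, 5, 2, 5, 1, 2, 5, 2] (sel (ones 170775) ip1 40) = true := by decide +kernel

theorem rot1_40r : band (Rule.ok (2 * 5) EX RL ⟨1 :: [5, 1, 2, 1, 5, 2, 5, 1, 5, 2, 1, 5, 2, 5, 1, 5, 2, 5, 1, 2, 5, 2], [0, 2, 0, 8, 0], 17, false⟩) (lall (memL L) [5, 1, 2, 1, 5, 2, 5, 1, 5, 2, 1, 5, 2, 5, 1, 5, 2, 5, 1, 2, 5, 2]) = true := by decide +kernel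

theorem rot1_41 : T.rot 1 [2, 1, 5, 2, 5, 1, 5, 2, 1, 5, 2, 5, 1, 5, 2, 5, 1, 2, 5, 2, 1, 5] (sel (ones 170775) ip1 41) = true := by decide +kernel

theorem rot1_41r : band (Rule.ok (2 * 5) EX RL ⟨1 :: [2, 1, 5, 2, 5, 1, 5, 2, 1, 5, 2, 5, 1, 5, 2, 5, 1, 2, 5, 2, 1, 5], [0, 2, 0], 17, false⟩) (lall (memL L) [2, 1, 5, 2, 5, 1, 5, 2, 1, 5, 2, 5, 1, 5, 2, 5, 1, 2, 5, 2, 1, 5]) = true := by decide +kernel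

theorem rot1_42 : T.rot 1 [5, 2, 5, 1, 5, 2, 1, 5, 2, 5, 1, 5, 2, 5, 1, 2, 5, 2, 1, 5, 1, 2] (sel (ones 170775) ip1 42) = true := by decide +kernel

theorem rot1_42r : band (Rule.ok (2 * 5) EX RL ⟨1 :: [5, 2, 5, 1, 5, 2, 1, 5, 2, 5, 1, 5, 2, 5, 1, 2, 5, 2, 1, 5, 1, 2], [0], 17, false⟩) (lall (memL L) [5, 2, 5, 1, 5, 2, 1, 5, 2, 5, 1, 5, 2, 5, 1, 2, 5, 2, 1, 5, 1, 2]) = true := by decide +kernel

theorem rot1_43 : T.rot 1 [3, 2, 3, 5, 3, 2, 1, 3, 5, 1, 2, 5, 2, 3, 5, 3, 2, 3, 5, 3, 2, 5, 2, 3] (sel (ones 170775) ip1 43) = true := by decide +kernel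

theorem rot1_43r : band (Rule.ok (2 * 5) EX RL ⟨1 :: [3, 2, 3, 5, 3, 2, 1, 3, 5, 1, 2, 5, 2, 3, 5, 3, 2, 3, 5, 3, 2, 5, 2, 3], [], 25, true⟩) (lall (memL L) [3, 2, 3, 5, 3, 2, 1, 3, 5, 1, 2, 5, 2, 3, 5, 3, 2, 3, 5, 3, 2, 5, 2, 3]) = true := by decide +kernel

theorem rot1_44 : T.rot 1 [3, 5, 1, 2, 5, 2, 3, 5, 3, 2, 3, 5, 3, 2, 5, 2, 3, 1, 3, 2, 3, 5, 3, 2] (sel (ones 170775) ip1 44) = true := by decide +kernel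

theorem rot1_44r : band (Rule.ok (2 * 5) EX RL ⟨1 :: [3, 5, 1, 2, 5, 2, 3, 5, 3, 2, 3, 5, 3, 2, 5, 2, 3, 1, 3, 2, 3, 5, 3, 2], [0, 4, 2, 4, 8, 4, 2], 25, true⟩) (lall (memL L) [3, 5, 1, 2, 5, 2, 3, 5, 3, 2, 3, 5, 3, 2, 5, 2, 3, 1, 3, 2, 3, 5, 3, 2]) = true := by decide +kernel

theorem rot1_45 : T.rot 1 [2, 5, 2, 3, 5, 3, 2, 3, 5, 3, 2, 5, 2, 3, 1, 3, 2, 3, 5, 3, 2, 1, 3, 5] (sel (ones 170775) ip1 45) = true := by decide +kernel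

theorem rot1_45r : band (Rule.ok (2 * 5) EX RL ⟨1 :: [2, 5, 2, 3, 5, 3, 2, 3, 5, 3, 2, 5, 2, 3, 1, 3, 2, 3, 5, 3, 2, 1, 3, 5], [0, 4, 2, 4, 8, 4, 2, 0, 4, 8], 25, true⟩) (lall (memL L) [2, 5, 2, 3, 5, 3, 2, 3, 5, 3, 2, 5, 2, 3, 1, 3, 2, 3, 5, 3, 2, 1, 3, 5]) = true := by decide +kernel

theorem rot1_46 : T.rot 1 [5, 3, 1, 2, 3, 5, 3, 2, 3, 1, 3, 2, 5, 2, 3, 5, 3, 2, 3, 5, 3, 2, 5, 2] (sel (ones 170775) ip1 46) = true := by decide +kernel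

theorem rot1_46r : band (Rule.ok (2 * 5) EX RL ⟨1 :: [5, 3, 1, 2, 3, 5, 3, 2, 3, 1, 3, 2, 5, 2, 3, 5, 3, 2, 3, 5, 3, 2, 5, 2], [0, 4, 2, 4, 8, 4, 2, 0, 4, 8, 0], 25, false⟩) (lall (memL L) [5, 3, 1, 2, 3, 5, 3, 2, 3, 1, 3, 2, 5, 2, 3, 5, 3, 2, 3, 5, 3, 2, 5, 2]) = true := by decide +kernel

theorem rot1_47 : T.rot 1 [2, 3, 5, 3, 2, 3, 1, 3, 2, 5, 2, 3, 5, 3, 2, 3, 5, 3, 2, 5, 2, 1, 5, 3] (sel (ones 170775) ip1 47) = true := by decide +kernel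

theorem rot1_47r : band (Rule.ok (2 * 5) EX RL ⟨1 :: [2, 3, 5, 3, 2, 3, 1, 3, 2, 5, 2, 3, 5, 3, 2, 3, 5, 3, 2, 5, 2, 1, 5, 3], [0, 4, 2, 4, 8, 4, 2, 0], 25, false⟩) (lall (memL L) [2, 3, 5, 3, 2, 3, 1, 3, 2, 5, 2, 3, 5, 3, 2, 3, 5, 3, 2, 5, 2, 1, 5, 3]) = true := by decide +kernel

theorem rot1_48 : T.rot 1 [3, 2, 5, 2, 3, 5, 3, 2, 3, 5, 3, 2, 5, 2, 1, 5, 3, 1, 2, 3, 5, 3, 2, 3] (sel (ones 170775) ip1 48) = true := by decide +kernel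

theorem rot1_48r : band (Rule.ok (2 * 5) EX RL ⟨1 :: [3, 2, 5, 2, 3, 5, 3, 2, 3, 5, 3, 2, 5, 2, 1, 5, 3, 1, 2, 3, 5, 3, 2, 3], [0], 25, false⟩) (lall (memL L) [3, 2, 5, 2, 3, 5, 3, 2, 3, 5, 3, 2, 5, 2, 1, 5, 3, 1, 2, 3, 5, 3, 2, 3]) = true := by decide +kernel

theorem rot1_49 : T.rot 1 [3, 2, 3, 5, 2, 5, 1, 3, 5, 1, 5, 2, 5, 3, 2, 3, 5, 3, 2, 5, 3, 5, 3, 2, 3, 5] (sel (ones 170775) ip1 49) = true := by decide +kernel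

theorem rot1_49r : band (Rule.ok (2 * 5) EX RL ⟨1 :: [3, 2, 3, 5, 2, 5, 1, 3, 5, 1, 5, 2, 5, 3, 2, 3, 5, 3, 2, 5, 3, 5, 3, 2, 3, 5], [], 24, true⟩) (lall (memL L) [3, 2, 3, 5, 2, 5, 1, 3, 5, 1, 5, 2, 5, 3, 2, 3, 5, 3, 2, 5, 3, 5, 3, 2, 3, 5]) = true := by decide +kernel

theorem rot1_50 : T.rot 1 [3, 5, 1, 5, 2, 5, 3, 2, 3, 5, 3, 2, 5, 3, 5, 3, 2, 3, 5, 1, 3, 2, 3, 5, 2, 5] (sel (ones 170775) ip1 50) = true := by decide +kernel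

theorem rot1_50r : band (Rule.ok (2 * 5) EX RL ⟨1 :: [3, 5, 1, 5, 2, 5, 3, 2, 3, 5, 3, 2, 5, 3, 5, 3, 2, 3, 5, 1, 3, 2, 3, 5, 2, 5], [0, 4, 2, 4, 8, 2, 8], 24, true⟩) (lall (memL L) [3, 5, 1, 5, 2, 5, 3, 2, 3, 5, 3, 2, 5, 3, 5, 3, 2, 3, 5, 1, 3, 2, 3, 5, 2, 5]) = true := by decide +kernel

theorem rot1_51 : T.rot 1 [5, 2, 5, 3, 2, 3, 5, 3, 2, 5, 3, 5, 3, 2, 3, 5, 1, 3, 2, 3, 5, 2, 5, 1, 3, 5] (sel (ones 170775) ip1 51) = true := by decide +kernel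

theorem rot1_51r : band (Rule.ok (2 * 5) EX RL ⟨1 :: [5, 2, 5, 3, 2, 3, 5, 3, 2, 5, 3, 5, 3, 2, 3, 5, 1, 3, 2, 3, 5, 2, 5, 1, 3, 5], [0, 4, 2, 4, 8, 2, 8, 0, 4, 8], 24, true⟩) (lall (memL L) [5, 2, 5, 3, 2, 3, 5, 3, 2, 5, 3, 5, 3, 2, 3, 5, 1, 3, 2, 3, 5, 2, 5, 1, 3, 5]) = true := by decide +kernel

theorem rot1_52 : T.rot 1 [5, 3, 1, 5, 2, 5, 3, 2, 3, 1, 5, 3, 2, 3, 5, 3, 5, 2, 3, 5, 3, 2, 3, 5, 2, 5] (sel (ones 170775) ip1 52) = true := by decide +kernel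

theorem rot1_52r : band (Rule.ok (2 * 5) EX RL ⟨1 :: [5, 3, 1, 5, 2, 5, 3, 2, 3, 1, 5, 3, 2, 3, 5, 3, 5, 2, 3, 5, 3, 2, 3, 5, 2, 5], [0, 4, 2, 4, 8, 2, 8, 0, 4, 8, 0], 24, false⟩) (lall (memL L) [5, 3, 1, 5, 2, 5, 3, 2, 3, 1, 5, 3, 2, 3, 5, 3, 5, 2, 3, 5, 3, 2, 3, 5, 2, 5]) = true := by decide +kernel

theorem rot1_53 : T.rot 1 [5, 2, 5, 3, 2, 3, 1, 5, 3, 2, 3, 5, 3, 5, 2, 3, 5, 3, 2, 3, 5, 2, 5, 1, 5, 3] (sel (ones 170775) ip1 53) = true := by decide +kernel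

theorem rot1_53r : band (Rule.ok (2 * 5) EX RL ⟨1 :: [5, 2, 5, 3, 2, 3, 1, 5, 3, 2, 3, 5, 3, 5, 2, 3, 5, 3, 2, 3, 5, 2, 5, 1, 5, 3], [0, 4, 2, 4, 8, 2, 8, 0], 24, false⟩) (lall (memL L) [5, 2, 5, 3, 2, 3, 1, 5, 3, 2, 3, 5, 3, 5, 2, 3, 5, 3, 2, 3, 5, 2, 5, 1, 5, 3]) = true := by decide +kernel

theorem rot1_54 : T.rot 1 [5, 3, 2, 3, 5, 3, 5, 2, 3, 5, 3, 2, 3, 5, 2, 5, 1, 5, 3, 1, 5, 2, 5, 3, 2, 3] (sel (ones 170775) ip1 54) = true := by decide +kernel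

theorem rot1_54r : band (Rule.ok (2 * 5) EX RL ⟨1 :: [5, 3, 2, 3, 5, 3, 5, 2, 3, 5, 3, 2, 3, 5, 2, 5, 1, 5, 3, 1, 5, 2, 5, 3, 2, 3], [0], 24, false⟩) (lall (memL L) [5, 3, 2, 3, 5, 3, 5, 2, 3, 5, 3, 2, 3, 5, 2, 5, 1, 5, 3, 1, 5, 2, 5, 3, 2, 3]) = true := by decide +kernel

theorem cov1 : T.cover 1 [(sel (ones 170775) ip1 1), (sel (ones 170775) ip1 2), (sel (ones 170775) ip1 3), (sel (ones 170775) ip1 4), (sel (ones 170775) ip1 5), (sel (ones 170775) ip1 6), (sel (ones 170775) ip1 7), (sel (ones 170775) ip1 8), (sel (ones 170775) ip1 9), (sel (ones 170775) ip1 10), (sel (ones 170775) ip1 11), (sel (ones 170775) ip1 12), (sel (ones 170775) ip1 13), (sel (ones 170775) ip1 14), (sel (ones 170775) ip1 15), (sel (ones 170775) ip1 16), (sel (ones 170775) ip1 17), (sel (ones 170775) ip1 18), (sel (ones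 170775) ip1 19), (sel (ones 170775) ip1 20), (sel (ones 170775) ip1 21), (sel (ones 170775) ip1 22), (sel (ones 170775) ip1 23), (sel (ones 170775) ip1 24), (sel (ones 170775) ip1 25), (sel (ones 170775) ip1 26), (sel (ones 170775) ip1 27), (sel (ones 170775) ip1 28), (sel (ones 170775) ip1 29), (sel (ones 170775) ip1 30), (sel (ones 170775) ip1 31), (sel (ones 170775) ip1 32), (sel (ones 170775) ip1 33), (sel (ones 170775) ip1 34), (sel (ones 170775) ip1 35), (sel (ones 170775) ip1 36), (sel (ones 170775) ip1 37), (sel (ones 170775) ip1 38), (sel (ones 170775) ip1 39), (sel (ones 170775) ip1 40), (sel (ones 170775) ip1 41), (sel (ones 170775) ip1 42), (sel (ones 170775) ip1 43), (sel (ones 170775) ip1 44), (sel (ones 170775) ip1 45), (sel (ones 170775) ip1 46), (sel (ones 170775) ip1 47), (sel (ones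 170775) ip1 48), (sel (ones 170775) ip1 49), (sel (ones 170775) ip1 50), (sel (ones 170775) ip1 51), (sel (ones 170775) ip1 52), (sel (ones 170775) ip1 53), (sel (ones 170775) ip1 54)] = true := by decide +kernel

theorem tl1 : T.treeLt 18 1 = true := by decide +kernel

theorem rot2_1 : T.rot 2 [2] (sel (ones 170775) ip2 1) = true := by decide +kernel

theorem rot2_1r : band (Rule.ok (2 * 5) EX RL ⟨2 :: [2], [], 28, false⟩) (lall (memL L) [2]) = true := by decide +kernel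

theorem rot2_2 : T.rot 2 [3, 2, 3, 2, 3, 2, 3] (sel (ones 170775) ip2 2) = true := by decide +kernel

theorem rot2_2r : band (Rule.ok (2 * 5) EX RL ⟨2 :: [3, 2, 3, 2, 3, 2, 3], [], 0, false⟩) (lall (memL L) [3, 2, 3, 2, 3, 2, 3]) = true := by decide +kernel

theorem rot2_3 : T.rot 2 [1, 2, 1, 2, 1, 2, 1] (sel (ones 170775) ip2 3) = true := by decide +kernel

theorem rot2_3r : band (Rule.ok (2 * 5) EX RL ⟨2 :: [1, 2, 1, 2, 1, 2, 1], [], 14, true⟩) (lall (memL L) [1, 2, 1, 2, 1, 2, 1]) = true := by decide +kernel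

theorem rot2_4 : T.rot 2 [5, 2, 5, 2, 5, 2, 5, 2, 5, 2, 5] (sel (ones 170775) ip2 4) = true := by decide +kernel

theorem rot2_4r : band (Rule.ok (2 * 5) EX RL ⟨2 :: [5, 2, 5, 2, 5, 2, 5, 2, 5, 2, 5], [], 1, false⟩) (lall (memL L) [5, 2, 5, 2, 5, 2, 5, 2, 5, 2, 5]) = true := by decide +kernel

theorem rot2_5 : T.rot 2 [4, 2, 4, 2, 4, 2, 4, 2, 4, 2, 4] (sel (ones 170775) ip2 5) = true := by decide +kernel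

theorem rot2_5r : band (Rule.ok (2 * 5) EX RL ⟨2 :: [4, 2, 4, 2, 4, 2, 4, 2, 4, 2, 4], [], 6, false⟩) (lall (memL L) [4, 2, 4, 2, 4, 2, 4, 2, 4, 2, 4]) = true := by decide +kernel

theorem rot2_6 : T.rot 2 [1, 2, 5, 1, 5, 2, 1, 2, 1, 5, 1, 5, 1] (sel (ones 170775) ip2 6) = true := by decide +kernel

theorem rot2_6r : band (Rule.ok (2 * 5) EX RL ⟨2 :: [1, 2, 5, 1, 5, 2, 1, 2, 1, 5, 1, 5, 1], [0], 16, true⟩) (lall (memL L) [1, 2, 5, 1, 5, 2, 1, 2, 1, 5, 1, 5, 1]) = true := by decide +kernel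

theorem rot2_7 : T.rot 2 [5, 1, 5, 2, 1, 2, 1, 5, 1, 5, 1, 2, 1] (sel (ones 170775) ip2 7) = true := by decide +kernel

theorem rot2_7r : band (Rule.ok (2 * 5) EX RL ⟨2 :: [5, 1, 5, 2, 1, 2, 1, 5, 1, 5, 1, 2, 1], [0, 2, 0], 16, true⟩) (lall (memL L) [5, 1, 5, 2, 1, 2, 1, 5, 1, 5, 1, 2, 1]) = true := by decide +kernel

theorem rot2_8 : T.rot 2 [1, 2, 1, 5, 1, 5, 1, 2, 1, 2, 5, 1, 5] (sel (ones 170775) ip2 8) = true := by decide +kernel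

theorem rot2_8r : band (Rule.ok (2 * 5) EX RL ⟨2 :: [1, 2, 1, 5, 1, 5, 1, 2, 1, 2, 5, 1, 5], [0, 2, 0, 2], 16, false⟩) (lall (memL L) [1, 2, 1, 5, 1, 5, 1, 2, 1, 2, 5, 1, 5]) = true := by decide +kernel

theorem rot2_9 : T.rot 2 [1, 5, 1, 5, 1, 2, 1, 2, 5, 1, 5, 2, 1] (sel (ones 170775) ip2 9) = true := by decide +kernel

theorem rot2_9r : band (Rule.ok (2 * 5) EX RL ⟨2 :: [1, 5, 1, 5, 1, 2, 1, 2, 5, 1, 5, 2, 1], [0, 2], 16, false⟩) (lall (memL L) [1, 5, 1, 5, 1, 2, 1, 2, 5, 1, 5, 2, 1]) = true := by decide +kernel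

theorem rot2_10 : T.rot 2 [3, 2, 3, 5, 2, 3, 2, 3, 5, 3, 2, 3, 2, 5] (sel (ones 170775) ip2 10) = true := by decide +kernel

theorem rot2_10r : band (Rule.ok (2 * 5) EX RL ⟨2 :: [3, 2, 3, 5, 2, 3, 2, 3, 5, 3, 2, 3, 2, 5], [], 3, true⟩) (lall (memL L) [3, 2, 3, 5, 2, 3, 2, 3, 5, 3, 2, 3, 2, 5]) = true := by decide +kernel

theorem rot2_11 : T.rot 2 [3, 5, 2, 3, 2, 3, 5, 3, 2, 3, 2, 5, 2, 3] (sel (ones 170775) ip2 11) = true := by decide +kernel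

theorem rot2_11r : band (Rule.ok (2 * 5) EX RL ⟨2 :: [3, 5, 2, 3, 2, 3, 5, 3, 2, 3, 2, 5, 2, 3], [2, 4], 3, true⟩) (lall (memL L) [3, 5, 2, 3, 2, 3, 5, 3, 2, 3, 2, 5, 2, 3]) = true := by decide +kernel

theorem rot2_12 : T.rot 2 [3, 2, 3, 5, 3, 2, 3, 2, 5, 2, 3, 2, 3, 5] (sel (ones 170775) ip2 12) = true := by decide +kernel

theorem rot2_12r : band (Rule.ok (2 * 5) EX RL ⟨2 :: [3, 2, 3, 5, 3, 2, 3, 2, 5, 2, 3, 2, 3, 5], [2, 4, 2, 4, 8], 3, true⟩) (lall (memL L) [3, 2, 3, 5, 3, 2, 3, 2, 5, 2, 3, 2, 3, 5]) = true := by decide +kernel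

theorem rot2_13 : T.rot 2 [3, 5, 3, 2, 3, 2, 5, 2, 3, 2, 3, 5, 2, 3] (sel (ones 170775) ip2 13) = true := by decide +kernel

theorem rot2_13r : band (Rule.ok (2 * 5) EX RL ⟨2 :: [3, 5, 3, 2, 3, 2, 5, 2, 3, 2, 3, 5, 2, 3], [2, 4, 2, 4, 8, 2, 4], 3, true⟩) (lall (memL L) [3, 5, 3, 2, 3, 2, 5, 2, 3, 2, 3, 5, 2, 3]) = true := by decide +kernel

theorem rot2_14 : T.rot 2 [3, 2, 5, 2, 3, 2, 3, 5, 2, 3, 2, 3, 5, 3] (sel (ones 170775) ip2 14) = true := by decide +kernel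

theorem rot2_14r : band (Rule.ok (2 * 5) EX RL ⟨2 :: [3, 2, 5, 2, 3, 2, 3, 5, 2, 3, 2, 3, 5, 3], [8, 2, 4, 2], 3, true⟩) (lall (memL L) [3, 2, 5, 2, 3, 2, 3, 5, 2, 3, 2, 3, 5, 3]) = true := by decide +kernel

theorem rot2_15 : T.rot 2 [5, 2, 3, 2, 3, 5, 2, 3, 2, 3, 5, 3, 2, 3] (sel (ones 170775) ip2 15) = true := by decide +kernel

theorem rot2_15r : band (Rule.ok (2 * 5) EX RL ⟨2 :: [5, 2, 3, 2, 3, 5, 2, 3, 2, 3, 5, 3, 2, 3], [8, 2], 3, true⟩) (lall (memL L) [5, 2, 3, 2, 3, 5, 2, 3, 2, 3, 5, 3, 2, 3]) = true := by decide +kernel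

theorem rot2_16 : T.rot 2 [3, 2, 3, 5, 3, 2, 3, 2, 5, 3, 2, 3, 2, 5] (sel (ones 170775) ip2 16) = true := by decide +kernel

theorem rot2_16r : band (Rule.ok (2 * 5) EX RL ⟨2 :: [3, 2, 3, 5, 3, 2, 3, 2, 5, 3, 2, 3, 2, 5], [8], 3, false⟩) (lall (memL L) [3, 2, 3, 5, 3, 2, 3, 2, 5, 3, 2, 3, 2, 5]) = true := by decide +kernel

theorem rot2_17 : T.rot 2 [3, 5, 3, 2, 3, 2, 5, 3, 2, 3, 2, 5, 2, 3] (sel (ones 170775) ip2 17) = true := by decide +kernel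

theorem rot2_17r : band (Rule.ok (2 * 5) EX RL ⟨2 :: [3, 5, 3, 2, 3, 2, 5, 3, 2, 3, 2, 5, 2, 3], [8, 2, 4], 3, false⟩) (lall (memL L) [3, 5, 3, 2, 3, 2, 5, 3, 2, 3, 2, 5, 2, 3]) = true := by decide +kernel

theorem rot2_18 : T.rot 2 [3, 2, 5, 3, 2, 3, 2, 5, 2, 3, 2, 3, 5, 3] (sel (ones 170775) ip2 18) = true := by decide +kernel

theorem rot2_18r : band (Rule.ok (2 * 5) EX RL ⟨2 :: [3, 2, 5, 3, 2, 3, 2, 5, 2, 3, 2, 3, 5, 3], [8, 2, 4, 2, 4, 8, 4], 3, false⟩) (lall (memL L) [3, 2, 5, 3, 2, 3, 2, 5, 2, 3, 2, 3, 5, 3]) = true := by decide +kernel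

theorem rot2_19 : T.rot 2 [5, 3, 2, 3, 2, 5, 2, 3, 2, 3, 5, 3, 2, 3] (sel (ones 170775) ip2 19) = true := by decide +kernel

theorem rot2_19r : band (Rule.ok (2 * 5) EX RL ⟨2 :: [5, 3, 2, 3, 2, 5, 2, 3, 2, 3, 5, 3, 2, 3], [2, 4, 2, 4, 8, 2], 3, false⟩) (lall (memL L) [5, 3, 2, 3, 2, 5, 2, 3, 2, 3, 5, 3, 2, 3]) = true := by decide +kernel

theorem rot2_20 : T.rot 2 [3, 2, 5, 2, 3, 2, 3, 5, 3, 2, 3, 2, 5, 3] (sel (ones 170775) ip2 20) = true := by decide +kernel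

theorem rot2_20r : band (Rule.ok (2 * 5) EX RL ⟨2 :: [3, 2, 5, 2, 3, 2, 3, 5, 3, 2, 3, 2, 5, 3], [2, 4, 2], 3, false⟩) (lall (memL L) [3, 2, 5, 2, 3, 2, 3, 5, 3, 2, 3, 2, 5, 3]) = true := by decide +kernel

theorem rot2_21 : T.rot 2 [5, 2, 3, 2, 3, 5, 3, 2, 3, 2, 5, 3, 2, 3] (sel (ones 170775) ip2 21) = true := by decide +kernel

theorem rot2_21r : band (Rule.ok (2 * 5) EX RL ⟨2 :: [5, 2, 3, 2, 3, 5, 3, 2, 3, 2, 5, 3, 2, 3], [2], 3, false⟩) (lall (memL L) [5, 2, 3, 2, 3, 5, 3, 2, 3, 2, 5, 3, 2, 3]) = true := by decide +kernel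

theorem rot2_22 : T.rot 2 [5, 2, 5, 2, 3, 1, 3, 2, 5, 2, 5, 2, 3, 1, 3] (sel (ones 170775) ip2 22) = true := by decide +kernel

theorem rot2_22r : band (Rule.ok (2 * 5) EX RL ⟨2 :: [5, 2, 5, 2, 3, 1, 3, 2, 5, 2, 5, 2, 3, 1, 3], [4], 26, false⟩) (lall (memL L) [5, 2, 5, 2, 3, 1, 3, 2, 5, 2, 5, 2, 3, 1, 3]) = true := by decide +kernel

theorem rot2_23 : T.rot 2 [5, 2, 3, 1, 3, 2, 5, 2, 5, 2, 3, 1, 3, 2, 5] (sel (ones 170775) ip2 23) = true := by decide +kernel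

theorem rot2_23r : band (Rule.ok (2 * 5) EX RL ⟨2 :: [5, 2, 3, 1, 3, 2, 5, 2, 5, 2, 3, 1, 3, 2, 5], [4, 2, 8], 26, false⟩) (lall (memL L) [5, 2, 3, 1, 3, 2, 5, 2, 5, 2, 3, 1, 3, 2, 5]) = true := by decide +kernel

theorem rot2_24 : T.rot 2 [3, 1, 3, 2, 5, 2, 5, 2, 3, 1, 3, 2, 5, 2, 5] (sel (ones 170775) ip2 24) = true := by decide +kernel

theorem rot2_24r : band (Rule.ok (2 * 5) EX RL ⟨2 :: [3, 1, 3, 2, 5, 2, 5, 2, 3, 1, 3, 2, 5, 2, 5], [4, 2], 26, true⟩) (lall (memL L) [3, 1, 3, 2, 5, 2, 5, 2, 3, 1, 3, 2, 5, 2, 5]) = true := by decide +kernel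

theorem rot2_25 : T.rot 2 [4, 2, 5, 4, 5, 2, 4, 2, 4, 5, 2, 5, 1, 4, 5, 1] (sel (ones 170775) ip2 25) = true := by decide +kernel

theorem rot2_25r : band (Rule.ok (2 * 5) EX RL ⟨2 :: [4, 2, 5, 4, 5, 2, 4, 2, 4, 5, 2, 5, 1, 4, 5, 1], [0, 6, 8, 0], 20, true⟩) (lall (memL L) [4, 2, 5, 4, 5, 2, 4, 2, 4, 5, 2, 5, 1, 4, 5, 1]) = true := by decide +kernel

theorem rot2_26 : T.rot 2 [5, 4, 5, 2, 4, 2, 4, 5, 2, 5, 1, 4, 5, 1, 2, 4] (sel (ones 170775) ip2 26) = true := by decide +kernel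

theorem rot2_26r : band (Rule.ok (2 * 5) EX RL ⟨2 :: [5, 4, 5, 2, 4, 2, 4, 5, 2, 5, 1, 4, 5, 1, 2, 4], [0, 6, 8, 0, 2, 6], 20, true⟩) (lall (memL L) [5, 4, 5, 2, 4, 2, 4, 5, 2, 5, 1, 4, 5, 1, 2, 4]) = true := by decide +kernel

theorem rot2_27 : T.rot 2 [4, 2, 4, 5, 2, 5, 1, 4, 5, 1, 2, 4, 2, 5, 4, 5] (sel (ones 170775) ip2 27) = true := by decide +kernel

theorem rot2_27r : band (Rule.ok (2 * 5) EX RL ⟨2 :: [4, 2, 4, 5, 2, 5, 1, 4, 5, 1, 2, 4, 2, 5, 4, 5], [8, 2, 8, 6, 2, 6, 2], 20, true⟩) (lall (memL L) [4, 2, 4, 5, 2, 5, 1, 4, 5, 1, 2, 4, 2, 5, 4, 5]) = true := by decide +kernel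

theorem rot2_28 : T.rot 2 [4, 5, 2, 5, 1, 4, 5, 1, 2, 4, 2, 5, 4, 5, 2, 4] (sel (ones 170775) ip2 28) = true := by decide +kernel

theorem rot2_28r : band (Rule.ok (2 * 5) EX RL ⟨2 :: [4, 5, 2, 5, 1, 4, 5, 1, 2, 4, 2, 5, 4, 5, 2, 4], [8, 2, 8, 6, 2], 20, true⟩) (lall (memL L) [4, 5, 2, 5, 1, 4, 5, 1, 2, 4, 2, 5, 4, 5, 2, 4]) = true := by decide +kernel

theorem rot2_29 : T.rot 2 [5, 1, 4, 5, 1, 2, 4, 2, 5, 4, 5, 2, 4, 2, 4, 5] (sel (ones 170775) ip2 29) = true := by decide +kernel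

theorem rot2_29r : band (Rule.ok (2 * 5) EX RL ⟨2 :: [5, 1, 4, 5, 1, 2, 4, 2, 5, 4, 5, 2, 4, 2, 4, 5], [8, 2], 20, true⟩) (lall (memL L) [5, 1, 4, 5, 1, 2, 4, 2, 5, 4, 5, 2, 4, 2, 4, 5]) = true := by decide +kernel

theorem rot2_30 : T.rot 2 [5, 4, 2, 4, 2, 5, 4, 5, 2, 4, 2, 1, 5, 4, 1, 5] (sel (ones 170775) ip2 30) = true := by decide +kernel

theorem rot2_30r : band (Rule.ok (2 * 5) EX RL ⟨2 :: [5, 4, 2, 4, 2, 5, 4, 5, 2, 4, 2, 1, 5, 4, 1, 5], [8], 20, false⟩) (lall (memL L) [5, 4, 2, 4, 2, 5, 4, 5, 2, 4, 2, 1, 5, 4, 1, 5]) = true := by decide +kernel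

theorem rot2_31 : T.rot 2 [4, 2, 5, 4, 5, 2, 4, 2, 1, 5, 4, 1, 5, 2, 5, 4] (sel (ones 170775) ip2 31) = true := by decide +kernel

theorem rot2_31r : band (Rule.ok (2 * 5) EX RL ⟨2 :: [4, 2, 5, 4, 5, 2, 4, 2, 1, 5, 4, 1, 5, 2, 5, 4], [8, 2, 8, 6], 20, false⟩) (lall (memL L) [4, 2, 5, 4, 5, 2, 4, 2, 1, 5, 4, 1, 5, 2, 5, 4]) = true := by decide +kernel

theorem rot2_32 : T.rot 2 [5, 4, 5, 2, 4, 2, 1, 5, 4, 1, 5, 2, 5, 4, 2, 4] (sel (ones 170775) ip2 32) = true := by decide +kernel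

theorem rot2_32r : band (Rule.ok (2 * 5) EX RL ⟨2 :: [5, 4, 5, 2, 4, 2, 1, 5, 4, 1, 5, 2, 5, 4, 2, 4], [8, 2, 8, 6, 2, 6], 20, false⟩) (lall (memL L) [5, 4, 5, 2, 4, 2, 1, 5, 4, 1, 5, 2, 5, 4, 2, 4]) = true := by decide +kernel

theorem rot2_33 : T.rot 2 [4, 2, 1, 5, 4, 1, 5, 2, 5, 4, 2, 4, 2, 5, 4, 5] (sel (ones 170775) ip2 33) = true := by decide +kernel

theorem rot2_33r : band (Rule.ok (2 * 5) EX RL ⟨2 :: [4, 2, 1, 5, 4, 1, 5, 2, 5, 4, 2, 4, 2, 5, 4, 5], [0, 6, 8, 0, 2, 6, 2], 20, false⟩) (lall (memL L) [4, 2, 1, 5, 4, 1, 5, 2, 5, 4, 2, 4, 2, 5, 4, 5]) = true := by decide +kernel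

theorem rot2_34 : T.rot 2 [1, 5, 4, 1, 5, 2, 5, 4, 2, 4, 2, 5, 4, 5, 2, 4] (sel (ones 170775) ip2 34) = true := by decide +kernel

theorem rot2_34r : band (Rule.ok (2 * 5) EX RL ⟨2 :: [1, 5, 4, 1, 5, 2, 5, 4, 2, 4, 2, 5, 4, 5, 2, 4], [0, 6, 8, 0, 2], 20, false⟩) (lall (memL L) [1, 5, 4, 1, 5, 2, 5, 4, 2, 4, 2, 5, 4, 5, 2, 4]) = true := by decide +kernel

theorem rot2_35 : T.rot 2 [4, 2, 4, 5, 2, 4, 2, 5, 2, 4, 2, 4, 5, 2, 4, 2, 5] (sel (ones 170775) ip2 35) = true := by decide +kernel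

theorem rot2_35r : band (Rule.ok (2 * 5) EX RL ⟨2 :: [4, 2, 4, 5, 2, 4, 2, 5, 2, 4, 2, 4, 5, 2, 4, 2, 5], [], 9, true⟩) (lall (memL L) [4, 2, 4, 5, 2, 4, 2, 5, 2, 4, 2, 4, 5, 2, 4, 2, 5]) = true := by decide +kernel

theorem rot2_36 : T.rot 2 [4, 5, 2, 4, 2, 5, 2, 4, 2, 4, 5, 2, 4, 2, 5, 2, 4] (sel (ones 170775) ip2 36) = true := by decide +kernel

theorem rot2_36r : band (Rule.ok (2 * 5) EX RL ⟨2 :: [4, 5, 2, 4, 2, 5, 2, 4, 2, 4, 5, 2, 4, 2, 5, 2, 4], [2, 6], 9, true⟩) (lall (memL L) [4, 5, 2, 4, 2, 5, 2, 4, 2, 4, 5, 2, 4, 2, 5, 2, 4]) = true := by decide +kernel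

theorem rot2_37 : T.rot 2 [4, 2, 5, 2, 4, 2, 4, 5, 2, 4, 2, 5, 2, 4, 2, 4, 5] (sel (ones 170775) ip2 37) = true := by decide +kernel

theorem rot2_37r : band (Rule.ok (2 * 5) EX RL ⟨2 :: [4, 2, 5, 2, 4, 2, 4, 5, 2, 4, 2, 5, 2, 4, 2, 4, 5], [8, 2, 6, 2], 9, true⟩) (lall (memL L) [4, 2, 5, 2, 4, 2, 4, 5, 2, 4, 2, 5, 2, 4, 2, 4, 5]) = true := by decide +kernel

theorem rot2_38 : T.rot 2 [5, 2, 4, 2, 4, 5, 2, 4, 2, 5, 2, 4, 2, 4, 5, 2, 4] (sel (ones 170775) ip2 38) = true := by decide +kernel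

theorem rot2_38r : band (Rule.ok (2 * 5) EX RL ⟨2 :: [5, 2, 4, 2, 4, 5, 2, 4, 2, 5, 2, 4, 2, 4, 5, 2, 4], [8, 2], 9, true⟩) (lall (memL L) [5, 2, 4, 2, 4, 5, 2, 4, 2, 5, 2, 4, 2, 4, 5, 2, 4]) = true := by decide +kernel

theorem rot2_39 : T.rot 2 [4, 2, 5, 4, 2, 4, 2, 5, 2, 4, 2, 5, 4, 2, 4, 2, 5] (sel (ones 170775) ip2 39) = true := by decide +kernel

theorem rot2_39r : band (Rule.ok (2 * 5) EX RL ⟨2 :: [4, 2, 5, 4, 2, 4, 2, 5, 2, 4, 2, 5, 4, 2, 4, 2, 5], [8], 9, false⟩) (lall (memL L) [4, 2, 5, 4, 2, 4, 2, 5, 2, 4, 2, 5, 4, 2, 4, 2, 5]) = true := by decide +kernel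

theorem rot2_40 : T.rot 2 [5, 4, 2, 4, 2, 5, 2, 4, 2, 5, 4, 2, 4, 2, 5, 2, 4] (sel (ones 170775) ip2 40) = true := by decide +kernel

theorem rot2_40r : band (Rule.ok (2 * 5) EX RL ⟨2 :: [5, 4, 2, 4, 2, 5, 2, 4, 2, 5, 4, 2, 4, 2, 5, 2, 4], [8, 2, 6], 9, false⟩) (lall (memL L) [5, 4, 2, 4, 2, 5, 2, 4, 2, 5, 4, 2, 4, 2, 5, 2, 4]) = true := by decide +kernel

theorem rot2_41 : T.rot 2 [4, 2, 5, 2, 4, 2, 5, 4, 2, 4, 2, 5, 2, 4, 2, 5, 4] (sel (ones 170775) ip2 41) = true := by decide +kernel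

theorem rot2_41r : band (Rule.ok (2 * 5) EX RL ⟨2 :: [4, 2, 5, 2, 4, 2, 5, 4, 2, 4, 2, 5, 2, 4, 2, 5, 4], [2, 6, 2], 9, false⟩) (lall (memL L) [4, 2, 5, 2, 4, 2, 5, 4, 2, 4, 2, 5, 2, 4, 2, 5, 4]) = true := by decide +kernel

theorem rot2_42 : T.rot 2 [5, 2, 4, 2, 5, 4, 2, 4, 2, 5, 2, 4, 2, 5, 4, 2, 4] (sel (ones 170775) ip2 42) = true := by decide +kernel

theorem rot2_42r : band (Rule.ok (2 * 5) EX RL ⟨2 :: [5, 2, 4, 2, 5, 4, 2, 4, 2, 5, 2, 4, 2, 5, 4, 2, 4], [2], 9, false⟩) (lall (memL L) [5, 2, 4, 2, 5, 4, 2, 4, 2, 5, 2, 4, 2, 5, 4, 2, 4]) = true := by decide +kernel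

theorem rot2_43 : T.rot 2 [5, 1, 2, 5, 1, 2, 5, 1, 2, 5, 1, 2, 5, 1, 2, 5, 1] (sel (ones 170775) ip2 43) = true := by decide +kernel

theorem rot2_43r : band (Rule.ok (2 * 5) EX RL ⟨2 :: [5, 1, 2, 5, 1, 2, 5, 1, 2, 5, 1, 2, 5, 1, 2, 5, 1], [0], 18, true⟩) (lall (memL L) [5, 1, 2, 5, 1, 2, 5, 1, 2, 5, 1, 2, 5, 1, 2, 5, 1]) = true := by decide +kernel

theorem rot2_44 : T.rot 2 [1, 5, 2, 1, 5, 2, 1, 5, 2, 1, 5, 2, 1, 5, 2, 1, 5] (sel (ones 170775) ip2 44) = true := by decide +kernel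

theorem rot2_44r : band (Rule.ok (2 * 5) EX RL ⟨2 :: [1, 5, 2, 1, 5, 2, 1, 5, 2, 1, 5, 2, 1, 5, 2, 1, 5], [8], 18, false⟩) (lall (memL L) [1, 5, 2, 1, 5, 2, 1, 5, 2, 1, 5, 2, 1, 5, 2, 1, 5]) = true := by decide +kernel

theorem rot2_45 : T.rot 2 [3, 5, 2, 3, 2, 5, 3, 2, 5, 3, 1, 3, 5, 3, 1, 3, 5] (sel (ones 170775) ip2 45) = true := by decide +kernel

theorem rot2_45r : band (Rule.ok (2 * 5) EX RL ⟨2 :: [3, 5, 2, 3, 2, 5, 3, 2, 5, 3, 1, 3, 5, 3, 1, 3, 5], [4, 8], 23, false⟩) (lall (memL L) [3, 5, 2, 3, 2, 5, 3, 2, 5, 3, 1, 3, 5, 3, 1, 3, 5]) = true := by decide +kernel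

theorem rot2_46 : T.rot 2 [3, 2, 5, 3, 2, 5, 3, 1, 3, 5, 3, 1, 3, 5, 2, 3, 5] (sel (ones 170775) ip2 46) = true := by decide +kernel

theorem rot2_46r : band (Rule.ok (2 * 5) EX RL ⟨2 :: [3, 2, 5, 3, 2, 5, 3, 1, 3, 5, 3, 1, 3, 5, 2, 3, 5], [4, 8, 2, 4, 8], 23, false⟩) (lall (memL L) [3, 2, 5, 3, 2, 5, 3, 1, 3, 5, 3, 1, 3, 5, 2, 3, 5]) = true := by decide +kernel

theorem rot2_47 : T.rot 2 [5, 3, 2, 5, 3, 1, 3, 5, 3, 1, 3, 5, 2, 3, 5, 2, 3] (sel (ones 170775) ip2 47) = true := by decide +kernel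

theorem rot2_47r : band (Rule.ok (2 * 5) EX RL ⟨2 :: [5, 3, 2, 5, 3, 1, 3, 5, 3, 1, 3, 5, 2, 3, 5, 2, 3], [4, 8, 2, 4, 8, 2], 23, true⟩) (lall (memL L) [5, 3, 2, 5, 3, 1, 3, 5, 3, 1, 3, 5, 2, 3, 5, 2, 3]) = true := by decide +kernel

theorem rot2_48 : T.rot 2 [5, 3, 1, 3, 5, 3, 1, 3, 5, 2, 3, 5, 2, 3, 2, 5, 3] (sel (ones 170775) ip2 48) = true := by decide +kernel

theorem rot2_48r : band (Rule.ok (2 * 5) EX RL ⟨2 :: [5, 3, 1, 3, 5, 3, 1, 3, 5, 2, 3, 5, 2, 3, 2, 5, 3], [4, 8, 2], 23, true⟩) (lall (memL L) [5, 3, 1, 3, 5, 3, 1, 3, 5, 2, 3, 5, 2, 3, 2, 5, 3]) = true := by decide +kernel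

theorem rot2_49 : T.rot 2 [4, 2, 4, 2, 4, 5, 4, 2, 5, 4, 5, 4, 2, 4, 2, 5, 2, 5] (sel (ones 170775) ip2 49) = true := by decide +kernel

theorem rot2_49r : band (Rule.ok (2 * 5) EX RL ⟨2 :: [4, 2, 4, 2, 4, 5, 4, 2, 5, 4, 5, 4, 2, 4, 2, 5, 2, 5], [], 8, true⟩) (lall (memL L) [4, 2, 4, 2, 4, 5, 4, 2, 5, 4, 5, 4, 2, 4, 2, 5, 2, 5]) = true := by decide +kernel

theorem rot2_50 : T.rot 2 [4, 2, 4, 5, 4, 2, 5, 4, 5, 4, 2, 4, 2, 5, 2, 5, 2, 4] (sel (ones 170775) ip2 50) = true := by decide +kernel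

theorem rot2_50r : band (Rule.ok (2 * 5) EX RL ⟨2 :: [4, 2, 4, 5, 4, 2, 5, 4, 5, 4, 2, 4, 2, 5, 2, 5, 2, 4], [2, 6], 8, true⟩) (lall (memL L) [4, 2, 4, 5, 4, 2, 5, 4, 5, 4, 2, 4, 2, 5, 2, 5, 2, 4]) = true := by decide +kernel

theorem rot2_51 : T.rot 2 [4, 5, 4, 2, 5, 4, 5, 4, 2, 4, 2, 5, 2, 5, 2, 4, 2, 4] (sel (ones 170775) ip2 51) = true := by decide +kernel

theorem rot2_51r : band (Rule.ok (2 * 5) EX RL ⟨2 :: [4, 5, 4, 2, 5, 4, 5, 4, 2, 4, 2, 5, 2, 5, 2, 4, 2, 4], [2, 6, 2, 6], 8, true⟩) (lall (memL L) [4, 5, 4, 2, 5, 4, 5, 4, 2, 4, 2, 5, 2, 5, 2, 4, 2, 4]) = true := by decide +kernel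

theorem rot2_52 : T.rot 2 [5, 4, 5, 4, 2, 4, 2, 5, 2, 5, 2, 4, 2, 4, 2, 4, 5, 4] (sel (ones 170775) ip2 52) = true := by decide +kernel

theorem rot2_52r : band (Rule.ok (2 * 5) EX RL ⟨2 :: [5, 4, 5, 4, 2, 4, 2, 5, 2, 5, 2, 4, 2, 4, 2, 4, 5, 4], [2, 6, 2, 6, 2, 6, 8, 6], 8, true⟩) (lall (memL L) [5, 4, 5, 4, 2, 4, 2, 5, 2, 5, 2, 4, 2, 4, 2, 4, 5, 4]) = true := by decide +kernel

theorem rot2_53 : T.rot 2 [4, 2, 5, 2, 5, 2, 4, 2, 4, 2, 4, 5, 4, 2, 5, 4, 5, 4] (sel (ones 170775) ip2 53) = true := by decide +kernel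

theorem rot2_53r : band (Rule.ok (2 * 5) EX RL ⟨2 :: [4, 2, 5, 2, 5, 2, 4, 2, 4, 2, 4, 5, 4, 2, 5, 4, 5, 4], [8, 2, 8, 2, 6, 2], 8, true⟩) (lall (memL L) [4, 2, 5, 2, 5, 2, 4, 2, 4, 2, 4, 5, 4, 2, 5, 4, 5, 4]) = true := by decide +kernel

end Cfsg.Agent.Spor.C3M
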