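import Cfsg.Agent.Spor.C3M.T

set_option autoImplicit false
set_option maxRecDepth 100000000
set_option Elab.async false

namespace Cfsg.Agent.Spor.C3M

theorem rot2_54 : T.rot 2 [5, 2, 5, 2, 4, 2, 4, 2, 4, 5, 4, 2, 5, 4, 5, 4, 2, 4] (sel (ones 170775) ip2 54) = true := by decide +kernel

theorem rot2_54r : band (Rule.ok (2 * 5) EX RL ⟨2 :: [5, 2, 5, 2, 4, 2, 4, 2, 4, 5, 4, 2, 5, 4, 5, 4, 2, 4], [8, 2, 8, 2], 8, true⟩) (lall (memL L) [5, 2, 5, 2, 4, 2, 4, 2, 4, 5, 4, 2, 5, 4, 5, 4, 2, 4]) = true := by decide +kernel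

theorem rot2_55 : T.rot 2 [5, 2, 4, 2, 4, 2, 4, 5, 4, 2, 5, 4, 5, 4, 2, 4, 2, 5] (sel (ones 170775) ip2 55) = true := by decide +kernel

theorem rot2_55r : band (Rule.ok (2 * 5) EX RL ⟨2 :: [5, 2, 4, 2, 4, 2, 4, 5, 4, 2, 5, 4, 5, 4, 2, 4, 2, 5], [8, 2], 8, true⟩) (lall (memL L) [5, 2, 4, 2, 4, 2, 4, 5, 4, 2, 5, 4, 5, 4, 2, 4, 2, 5]) = true := by decide +kernel

theorem rot2_56 : T.rot 2 [5, 2, 4, 2, 4, 5, 4, 5, 2, 4, 5, 4, 2, 4, 2, 4, 2, 5] (sel (ones 170775) ip2 56) = true := by decide +kernel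

theorem rot2_56r : band (Rule.ok (2 * 5) EX RL ⟨2 :: [5, 2, 4, 2, 4, 5, 4, 5, 2, 4, 5, 4, 2, 4, 2, 4, 2, 5], [8], 8, false⟩) (lall (memL L) [5, 2, 4, 2, 4, 5, 4, 5, 2, 4, 5, 4, 2, 4, 2, 4, 2, 5]) = true := by decide +kernel

theorem rot2_57 : T.rot 2 [4, 2, 4, 5, 4, 5, 2, 4, 5, 4, 2, 4, 2, 4, 2, 5, 2, 5] (sel (ones 170775) ip2 57) = true := by decide +kernel

theorem rot2_57r : band (Rule.ok (2 * 5) EX RL ⟨2 :: [4, 2, 4, 5, 4, 5, 2, 4, 5, 4, 2, 4, 2, 4, 2, 5, 2, 5], [8, 2, 8], 8, false⟩) (lall (memL L) [4, 2, 4, 5, 4, 5, 2, 4, 5, 4, 2, 4, 2, 4, 2, 5, 2, 5]) = true := by decide +kernel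

theorem rot2_58 : T.rot 2 [4, 5, 4, 5, 2, 4, 5, 4, 2, 4, 2, 4, 2, 5, 2, 5, 2, 4] (sel (ones 170775) ip2 58) = true := by decide +kernel

theorem rot2_58r : band (Rule.ok (2 * 5) EX RL ⟨2 :: [4, 5, 4, 5, 2, 4, 5, 4, 2, 4, 2, 4, 2, 5, 2, 5, 2, 4], [8, 2, 8, 2, 6], 8, false⟩) (lall (memL L) [4, 5, 4, 5, 2, 4, 5, 4, 2, 4, 2, 4, 2, 5, 2, 5, 2, 4]) = true := by decide +kernel

theorem rot2_59 : T.rot 2 [4, 5, 4, 2, 4, 2, 4, 2, 5, 2, 5, 2, 4, 2, 4, 5, 4, 5] (sel (ones 170775) ip2 59) = true := by decide +kernel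

theorem rot2_59r : band (Rule.ok (2 * 5) EX RL ⟨2 :: [4, 5, 4, 2, 4, 2, 4, 2, 5, 2, 5, 2, 4, 2, 4, 5, 4, 5], [2, 6, 2, 6, 2, 6, 8, 6, 2], 8, false⟩) (lall (memL L) [4, 5, 4, 2, 4, 2, 4, 2, 5, 2, 5, 2, 4, 2, 4, 5, 4, 5]) = true := by decide +kernel

theorem rot2_60 : T.rot 2 [4, 2, 4, 2, 5, 2, 5, 2, 4, 2, 4, 5, 4, 5, 2, 4, 5, 4] (sel (ones 170775) ip2 60) = true := by decide +kernel

theorem rot2_60r : band (Rule.ok (2 * 5) EX RL ⟨2 :: [4, 2, 4, 2, 5, 2, 5, 2, 4, 2, 4, 5, 4, 5, 2, 4, 5, 4], [2, 6, 2, 6, 2], 8, false⟩) (lall (memL L) [4, 2, 4, 2, 5, 2, 5, 2, 4, 2, 4, 5, 4, 5, 2, 4, 5, 4]) = true := by decide +kernel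

theorem rot2_61 : T.rot 2 [4, 2, 5, 2, 5, 2, 4, 2, 4, 5, 4, 5, 2, 4, 5, 4, 2, 4] (sel (ones 170775) ip2 61) = true := by decide +kernel

theorem rot2_61r : band (Rule.ok (2 * 5) EX RL ⟨2 :: [4, 2, 5, 2, 5, 2, 4, 2, 4, 5, 4, 5, 2, 4, 5, 4, 2, 4], [2, 6, 2], 8, false⟩) (lall (memL L) [4, 2, 5, 2, 5, 2, 4, 2, 4, 5, 4, 5, 2, 4, 5, 4, 2, 4]) = true := by decide +kernel

theorem rot2_62 : T.rot 2 [5, 2, 5, 2, 4, 2, 4, 5, 4, 5, 2, 4, 5, 4, 2, 4, 2, 4] (sel (ones 170775) ip2 62) = true := by decide +kernel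

theorem rot2_62r : band (Rule.ok (2 * 5) EX RL ⟨2 :: [5, 2, 5, 2, 4, 2, 4, 5, 4, 5, 2, 4, 5, 4, 2, 4, 2, 4], [2], 8, false⟩) (lall (memL L) [5, 2, 5, 2, 4, 2, 4, 5, 4, 5, 2, 4, 5, 4, 2, 4, 2, 4]) = true := by decide +kernel

theorem rot2_63 : T.rot 2 [4, 2, 4, 3, 5, 2, 3, 2, 5, 2, 3, 5, 2, 5, 3, 2, 3, 4] (sel (ones 170775) ip2 63) = true := by decide +kernel

theorem rot2_63r : band (Rule.ok (2 * 5) EX RL ⟨2 :: [4, 2, 4, 3, 5, 2, 3, 2, 5, 2, 3, 5, 2, 5, 3, 2, 3, 4], [6], 12, true⟩) (lall (memL L) [4, 2, 4, 3, 5, 2, 3, 2, 5, 2, 3, 5, 2, 5, 3, 2, 3, 4]) = true := by decide +kernel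

theorem rot2_64 : T.rot 2 [4, 3, 5, 2, 3, 2, 5, 2, 3, 5, 2, 5, 3, 2, 3, 4, 2, 4] (sel (ones 170775) ip2 64) = true := by decide +kernel

theorem rot2_64r : band (Rule.ok (2 * 5) EX RL ⟨2 :: [4, 3, 5, 2, 3, 2, 5, 2, 3, 5, 2, 5, 3, 2, 3, 4, 2, 4], [6, 2, 6], 12, true⟩) (lall (memL L) [4, 3, 5, 2, 3, 2, 5, 2, 3, 5, 2, 5, 3, 2, 3, 4, 2, 4]) = true := by decide +kernel

theorem rot2_65 : T.rot 2 [3, 2, 5, 2, 3, 5, 2, 5, 3, 2, 3, 4, 2, 4, 2, 4, 3, 5] (sel (ones 170775) ip2 65) = true := by decide +kernel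

theorem rot2_65r : band (Rule.ok (2 * 5) EX RL ⟨2 :: [3, 2, 5, 2, 3, 5, 2, 5, 3, 2, 3, 4, 2, 4, 2, 4, 3, 5], [6, 2, 6, 2, 6, 4, 8], 12, true⟩) (lall (memL L) [3, 2, 5, 2, 3, 5, 2, 5, 3, 2, 3, 4, 2, 4, 2, 4, 3, 5]) = true := by decide +kernel

theorem rot2_66 : T.rot 2 [5, 2, 3, 5, 2, 5, 3, 2, 3, 4, 2, 4, 2, 4, 3, 5, 2, 3] (sel (ones 170775) ip2 66) = true := by decide +kernel

theorem rot2_66r : band (Rule.ok (2 * 5) EX RL ⟨2 :: [5, 2, 3, 5, 2, 5, 3, 2, 3, 4, 2, 4, 2, 4, 3, 5, 2, 3], [6, 2, 6, 2, 6, 4, 8, 2, 4], 12, true⟩) (lall (memL L) [5, 2, 3, 5, 2, 5, 3, 2, 3, 4, 2, 4, 2, 4, 3, 5, 2, 3]) = true := by decide +kernel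

theorem rot2_67 : T.rot 2 [3, 5, 2, 5, 3, 2, 3, 4, 2, 4, 2, 4, 3, 5, 2, 3, 2, 5] (sel (ones 170775) ip2 67) = true := by decide +kernel

theorem rot2_67r : band (Rule.ok (2 * 5) EX RL ⟨2 :: [3, 5, 2, 5, 3, 2, 3, 4, 2, 4, 2, 4, 3, 5, 2, 3, 2, 5], [4, 2, 4, 8, 2, 8, 4, 2], 12, true⟩) (lall (memL L) [3, 5, 2, 5, 3, 2, 3, 4, 2, 4, 2, 4, 3, 5, 2, 3, 2, 5]) = true := by decide +kernel

theorem rot2_68 : T.rot 2 [5, 3, 2, 3, 4, 2, 4, 2, 4, 3, 5, 2, 3, 2, 5, 2, 3, 5] (sel (ones 170775) ip2 68) = true := by decide +kernel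

theorem rot2_68r : band (Rule.ok (2 * 5) EX RL ⟨2 :: [5, 3, 2, 3, 4, 2, 4, 2, 4, 3, 5, 2, 3, 2, 5, 2, 3, 5], [4, 2, 4, 8, 2], 12, true⟩) (lall (memL L) [5, 3, 2, 3, 4, 2, 4, 2, 4, 3, 5, 2, 3, 2, 5, 2, 3, 5]) = true := by decide +kernel

theorem rot2_69 : T.rot 2 [3, 4, 2, 4, 2, 4, 3, 5, 2, 3, 2, 5, 2, 3, 5, 2, 5, 3] (sel (ones 170775) ip2 69) = true := by decide +kernel

theorem rot2_69r : band (Rule.ok (2 * 5) EX RL ⟨2 :: [3, 4, 2, 4, 2, 4, 3, 5, 2, 3, 2, 5, 2, 3, 5, 2, 5, 3], [4, 2], 12, true⟩) (lall (memL L) [3, 4, 2, 4, 2, 4, 3, 5, 2, 3, 2, 5, 2, 3, 5, 2, 5, 3]) = true := by decide +kernel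

theorem rot2_70 : T.rot 2 [3, 5, 2, 5, 3, 2, 5, 2, 3, 2, 5, 3, 4, 2, 4, 2, 4, 3] (sel (ones 170775) ip2 70) = true := by decide +kernel

theorem rot2_70r : band (Rule.ok (2 * 5) EX RL ⟨2 :: [3, 5, 2, 5, 3, 2, 5, 2, 3, 2, 5, 3, 4, 2, 4, 2, 4, 3], [4], 12, false⟩) (lall (memL L) [3, 5, 2, 5, 3, 2, 5, 2, 3, 2, 5, 3, 4, 2, 4, 2, 4, 3]) = true := by decide +kernel

theorem rot2_71 : T.rot 2 [5, 3, 2, 5, 2, 3, 2, 5, 3, 4, 2, 4, 2, 4, 3, 2, 3, 5] (sel (ones 170775) ip2 71) = true := by decide +kernel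

theorem rot2_71r : band (Rule.ok (2 * 5) EX RL ⟨2 :: [5, 3, 2, 5, 2, 3, 2, 5, 3, 4, 2, 4, 2, 4, 3, 2, 3, 5], [4, 2, 4, 8], 12, false⟩) (lall (memL L) [5, 3, 2, 5, 2, 3, 2, 5, 3, 4, 2, 4, 2, 4, 3, 2, 3, 5]) = true := by decide +kernel

theorem rot2_72 : T.rot 2 [5, 2, 3, 2, 5, 3, 4, 2, 4, 2, 4, 3, 2, 3, 5, 2, 5, 3] (sel (ones 170775) ip2 72) = true := by decide +kernel

theorem rot2_72r : band (Rule.ok (2 * 5) EX RL ⟨2 :: [5, 2, 3, 2, 5, 3, 4, 2, 4, 2, 4, 3, 2, 3, 5, 2, 5, 3], [4, 2, 4, 8, 2, 8, 4], 12, false⟩) (lall (memL L) [5, 2, 3, 2, 5, 3, 4, 2, 4, 2, 4, 3, 2, 3, 5, 2, 5, 3]) = true := by decide +kernel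

theorem rot2_73 : T.rot 2 [3, 2, 5, 3, 4, 2, 4, 2, 4, 3, 2, 3, 5, 2, 5, 3, 2, 5] (sel (ones 170775) ip2 73) = true := by decide +kernel

theorem rot2_73r : band (Rule.ok (2 * 5) EX RL ⟨2 :: [3, 2, 5, 3, 4, 2, 4, 2, 4, 3, 2, 3, 5, 2, 5, 3, 2, 5], [4, 2, 4, 8, 2, 8, 4, 2, 8], 12, false⟩) (lall (memL L) [3, 2, 5, 3, 4, 2, 4, 2, 4, 3, 2, 3, 5, 2, 5, 3, 2, 5]) = true := by decide +kernel

theorem rot2_74 : T.rot 2 [5, 3, 4, 2, 4, 2, 4, 3, 2, 3, 5, 2, 5, 3, 2, 5, 2, 3] (sel (ones 170775) ip2 74) = true := by decide +kernel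

theorem rot2_74r : band (Rule.ok (2 * 5) EX RL ⟨2 :: [5, 3, 4, 2, 4, 2, 4, 3, 2, 3, 5, 2, 5, 3, 2, 5, 2, 3], [6, 2, 6, 2, 6, 4, 8, 2], 12, false⟩) (lall (memL L) [5, 3, 4, 2, 4, 2, 4, 3, 2, 3, 5, 2, 5, 3, 2, 5, 2, 3]) = true := by decide +kernel

theorem rot2_75 : T.rot 2 [4, 2, 4, 3, 2, 3, 5, 2, 5, 3, 2, 5, 2, 3, 2, 5, 3, 4] (sel (ones 170775) ip2 75) = true := by decide +kernel

theorem rot2_75r : band (Rule.ok (2 * 5) EX RL ⟨2 :: [4, 2, 4, 3, 2, 3, 5, 2, 5, 3, 2, 5, 2, 3, 2, 5, 3, 4], [6, 2, 6, 2], 12, false⟩) (lall (memL L) [4, 2, 4, 3, 2, 3, 5, 2, 5, 3, 2, 5, 2, 3, 2, 5, 3, 4]) = true := by decide +kernel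

theorem rot2_76 : T.rot 2 [4, 3, 2, 3, 5, 2, 5, 3, 2, 5, 2, 3, 2, 5, 3, 4, 2, 4] (sel (ones 170775) ip2 76) = true := by decide +kernel

theorem rot2_76r : band (Rule.ok (2 * 5) EX RL ⟨2 :: [4, 3, 2, 3, 5, 2, 5, 3, 2, 5, 2, 3, 2, 5, 3, 4, 2, 4], [6, 2], 12, false⟩) (lall (memL L) [4, 3, 2, 3, 5, 2, 5, 3, 2, 5, 2, 3, 2, 5, 3, 4, 2, 4]) = true := by decide +kernel

theorem rot2_77 : T.rot 2 [4, 1, 4, 2, 5, 2, 5, 4, 5, 2, 5, 4, 5, 4, 2, 4, 1, 4] (sel (ones 170775) ip2 77) = true := by decide +kernel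

theorem rot2_77r : band (Rule.ok (2 * 5) EX RL ⟨2 :: [4, 1, 4, 2, 5, 2, 5, 4, 5, 2, 5, 4, 5, 4, 2, 4, 1, 4], [0, 6], 21, true⟩) (lall (memL L) [4, 1, 4, 2, 5, 2, 5, 4, 5, 2, 5, 4, 5, 4, 2, 4, 1, 4]) = true := by decide +kernel

theorem rot2_78 : T.rot 2 [5, 2, 5, 4, 5, 2, 5, 4, 5, 4, 2, 4, 1, 4, 2, 4, 1, 4] (sel (ones 170775) ip2 78) = true := by decide +kernel

theorem rot2_78r : band (Rule.ok (2 * 5) EX RL ⟨2 :: [5, 2, 5, 4, 5, 2, 5, 4, 5, 4, 2, 4, 1, 4, 2, 4, 1, 4], [0, 6, 2, 6, 0, 6], 21, true⟩) (lall (memL L) [5, 2, 5, 4, 5, 2, 5, 4, 5, 4, 2, 4, 1, 4, 2, 4, 1, 4]) = true := by decide +kernel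

theorem rot2_79 : T.rot 2 [5, 4, 5, 2, 5, 4, 5, 4, 2, 4, 1, 4, 2, 4, 1, 4, 2, 5] (sel (ones 170775) ip2 79) = true := by decide +kernel

theorem rot2_79r : band (Rule.ok (2 * 5) EX RL ⟨2 :: [5, 4, 5, 2, 5, 4, 5, 4, 2, 4, 1, 4, 2, 4, 1, 4, 2, 5], [0, 6, 2, 6, 0, 6, 2, 8], 21, true⟩) (lall (memL L) [5, 4, 5, 2, 5, 4, 5, 4, 2, 4, 1, 4, 2, 4, 1, 4, 2, 5]) = true := by decide +kernel

theorem rot2_80 : T.rot 2 [5, 4, 5, 4, 2, 4, 1, 4, 2, 4, 1, 4, 2, 5, 2, 5, 4, 5] (sel (ones 170775) ip2 80) = true := by decide +kernel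

theorem rot2_80r : band (Rule.ok (2 * 5) EX RL ⟨2 :: [5, 4, 5, 4, 2, 4, 1, 4, 2, 4, 1, 4, 2, 5, 2, 5, 4, 5], [6, 2, 6, 8, 6, 8, 2], 21, true⟩) (lall (memL L) [5, 4, 5, 4, 2, 4, 1, 4, 2, 4, 1, 4, 2, 5, 2, 5, 4, 5]) = true := by decide +kernel

theorem rot2_81 : T.rot 2 [4, 1, 4, 2, 4, 1, 4, 2, 5, 2, 5, 4, 5, 2, 5, 4, 5, 4] (sel (ones 170775) ip2 81) = true := by decide +kernel

theorem rot2_81r : band (Rule.ok (2 * 5) EX RL ⟨2 :: [4, 1, 4, 2, 4, 1, 4, 2, 5, 2, 5, 4, 5, 2, 5, 4, 5, 4], [6, 2], 21, true⟩) (lall (memL L) [4, 1, 4, 2, 4, 1, 4, 2, 5, 2, 5, 4, 5, 2, 5, 4, 5, 4]) = true := by decide +kernel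

theorem rot2_82 : T.rot 2 [4, 5, 4, 5, 2, 5, 4, 5, 2, 5, 2, 4, 1, 4, 2, 4, 1, 4] (sel (ones 170775) ip2 82) = true := by decide +kernel

theorem rot2_82r : band (Rule.ok (2 * 5) EX RL ⟨2 :: [4, 5, 4, 5, 2, 5, 4, 5, 2, 5, 2, 4, 1, 4, 2, 4, 1, 4], [6], 21, false⟩) (lall (memL L) [4, 5, 4, 5, 2, 5, 4, 5, 2, 5, 2, 4, 1, 4, 2, 4, 1, 4]) = true := by decide +kernel

theorem rot2_83 : T.rot 2 [5, 4, 5, 2, 5, 2, 4, 1, 4, 2, 4, 1, 4, 2, 4, 5, 4, 5] (sel (ones 170775) ip2 83) = true := by decide +kernel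

theorem rot2_83r : band (Rule.ok (2 * 5) EX RL ⟨2 :: [5, 4, 5, 2, 5, 2, 4, 1, 4, 2, 4, 1, 4, 2, 4, 5, 4, 5], [6, 2, 6, 8, 6, 8], 21, false⟩) (lall (memL L) [5, 4, 5, 2, 5, 2, 4, 1, 4, 2, 4, 1, 4, 2, 4, 5, 4, 5]) = true := by decide +kernel

theorem rot2_84 : T.rot 2 [5, 2, 4, 1, 4, 2, 4, 1, 4, 2, 4, 5, 4, 5, 2, 5, 4, 5] (sel (ones 170775) ip2 84) = true := by decide +kernel

theorem rot2_84r : band (Rule.ok (2 * 5) EX RL ⟨2 :: [5, 2, 4, 1, 4, 2, 4, 1, 4, 2, 4, 5, 4, 5, 2, 5, 4, 5], [0, 6, 2, 6, 0, 6, 2, 8, 2], 21, false⟩) (lall (memL L) [5, 2, 4, 1, 4, 2, 4, 1, 4, 2, 4, 5, 4, 5, 2, 5, 4, 5]) = true := by decide +kernel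

theorem rot2_85 : T.rot 2 [4, 1, 4, 2, 4, 1, 4, 2, 4, 5, 4, 5, 2, 5, 4, 5, 2, 5] (sel (ones 170775) ip2 85) = true := by decide +kernel

theorem rot2_85r : band (Rule.ok (2 * 5) EX RL ⟨2 :: [4, 1, 4, 2, 4, 1, 4, 2, 4, 5, 4, 5, 2, 5, 4, 5, 2, 5], [0, 6, 2, 6, 0, 6, 2], 21, false⟩) (lall (memL L) [4, 1, 4, 2, 4, 1, 4, 2, 4, 5, 4, 5, 2, 5, 4, 5, 2, 5]) = true := by decide +kernel

theorem rot2_86 : T.rot 2 [4, 1, 4, 2, 4, 5, 4, 5, 2, 5, 4, 5, 2, 5, 2, 4, 1, 4] (sel (ones 170775) ip2 86) = true := by decide +kernel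

theorem rot2_86r : band (Rule.ok (2 * 5) EX RL ⟨2 :: [4, 1, 4, 2, 4, 5, 4, 5, 2, 5, 4, 5, 2, 5, 2, 4, 1, 4], [0, 6, 2], 21, false⟩) (lall (memL L) [4, 1, 4, 2, 4, 5, 4, 5, 2, 5, 4, 5, 2, 5, 2, 4, 1, 4]) = true := by decide +kernel

theorem rot2_87 : T.rot 2 [3, 4, 2, 3, 4, 3, 4, 3, 2, 4, 3, 2, 3, 4, 2, 5, 2, 4, 3] (sel (ones 170775) ip2 87) = true := by decide +kernel

theorem rot2_87r : band (Rule.ok (2 * 5) EX RL ⟨2 :: [3, 4, 2, 3, 4, 3, 4, 3, 2, 4, 3, 2, 3, 4, 2, 5, 2, 4, 3], [6, 4], 13, true⟩) (lall (memL L) [3, 4, 2, 3, 4, 3, 4, 3, 2, 4, 3, 2, 3, 4, 2, 5, 2, 4, 3]) = true := by decide +kernel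

theorem rot2_88 : T.rot 2 [3, 4, 3, 4, 3, 2, 4, 3, 2, 3, 4, 2, 5, 2, 4, 3, 2, 3, 4] (sel (ones 170775) ip2 88) = true := by decide +kernel

theorem rot2_88r : band (Rule.ok (2 * 5) EX RL ⟨2 :: [3, 4, 3, 4, 3, 2, 4, 3, 2, 3, 4, 2, 5, 2, 4, 3, 2, 3, 4], [6, 4, 2, 4, 6], 13, true⟩) (lall (memL L) [3, 4, 3, 4, 3, 2, 4, 3, 2, 3, 4, 2, 5, 2, 4, 3, 2, 3, 4]) = true := by decide +kernel

theorem rot2_89 : T.rot 2 [4, 3, 2, 3, 4, 2, 5, 2, 4, 3, 2, 3, 4, 2, 3, 4, 3, 4, 3] (sel (ones 170775) ip2 89) = true := by decide +kernel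

theorem rot2_89r : band (Rule.ok (2 * 5) EX RL ⟨2 :: [4, 3, 2, 3, 4, 2, 5, 2, 4, 3, 2, 3, 4, 2, 3, 4, 3, 4, 3], [6, 4, 2, 4, 6, 2], 13, false⟩) (lall (memL L) [4, 3, 2, 3, 4, 2, 5, 2, 4, 3, 2, 3, 4, 2, 3, 4, 3, 4, 3]) = true := by decide +kernel

theorem rot2_90 : T.rot 2 [3, 4, 2, 5, 2, 4, 3, 2, 3, 4, 2, 3, 4, 3, 4, 3, 2, 4, 3] (sel (ones 170775) ip2 90) = true := by decide +kernel

theorem rot2_90r : band (Rule.ok (2 * 5) EX RL ⟨2 :: [3, 4, 2, 5, 2, 4, 3, 2, 3, 4, 2, 3, 4, 3, 4, 3, 2, 4, 3], [6, 4, 2], 13, false⟩) (lall (memL L) [3, 4, 2, 5, 2, 4, 3, 2, 3, 4, 2, 3, 4, 3, 4, 3, 2, 4, 3]) = true := by decide +kernel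

theorem rot2_91 : T.rot 2 [5, 2, 4, 3, 2, 3, 4, 2, 3, 4, 3, 4, 3, 2, 4, 3, 2, 3, 4] (sel (ones 170775) ip2 91) = true := by decide +kernel

theorem rot2_91r : band (Rule.ok (2 * 5) EX RL ⟨2 :: [5, 2, 4, 3, 2, 3, 4, 2, 3, 4, 3, 4, 3, 2, 4, 3, 2, 3, 4], [], 13, false⟩) (lall (memL L) [5, 2, 4, 3, 2, 3, 4, 2, 3, 4, 3, 4, 3, 2, 4, 3, 2, 3, 4]) = true := by decide +kernel

theorem rot2_92 : T.rot 2 [4, 3, 2, 3, 4, 2, 3, 4, 3, 4, 3, 2, 4, 3, 2, 3, 4, 2, 5] (sel (ones 170775) ip2 92) = true := by decide +kernel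

theorem rot2_92r : band (Rule.ok (2 * 5) EX RL ⟨2 :: [4, 3, 2, 3, 4, 2, 3, 4, 3, 4, 3, 2, 4, 3, 2, 3, 4, 2, 5], [2], 13, true⟩) (lall (memL L) [4, 3, 2, 3, 4, 2, 3, 4, 3, 4, 3, 2, 4, 3, 2, 3, 4, 2, 5]) = true := by decide +kernel

theorem rot2_93 : T.rot 2 [5, 1, 5, 2, 5, 3, 5, 2, 5, 2, 3, 5, 2, 3, 2, 5, 2, 1, 5] (sel (ones 170775) ip2 93) = true := by decide +kernel

theorem rot2_93r : band (Rule.ok (2 * 5) EX RL ⟨2 :: [5, 1, 5, 2, 5, 3, 5, 2, 5, 2, 3, 5, 2, 3, 2, 5, 2, 1, 5], [0, 8], 27, true⟩) (lall (memL L) [5, 1, 5, 2, 5, 3, 5, 2, 5, 2, 3, 5, 2, 3, 2, 5, 2, 1, 5]) = true := by decide +kernel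

theorem rot2_94 : T.rot 2 [5, 3, 5, 2, 5, 2, 3, 5, 2, 3, 2, 5, 2, 1, 5, 2, 5, 1, 5] (sel (ones 170775) ip2 94) = true := by decide +kernel

theorem rot2_94r : band (Rule.ok (2 * 5) EX RL ⟨2 :: [5, 3, 5, 2, 5, 2, 3, 5, 2, 3, 2, 5, 2, 1, 5, 2, 5, 1, 5], [0, 8, 2, 8, 0, 8], 27, true⟩) (lall (memL L) [5, 3, 5, 2, 5, 2, 3, 5, 2, 3, 2, 5, 2, 1, 5, 2, 5, 1, 5]) = true := by decide +kernel

theorem rot2_95 : T.rot 2 [5, 2, 3, 5, 2, 3, 2, 5, 2, 1, 5, 2, 5, 1, 5, 2, 5, 3, 5] (sel (ones 170775) ip2 95) = true := by decide +kernel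

theorem rot2_95r : band (Rule.ok (2 * 5) EX RL ⟨2 :: [5, 2, 3, 5, 2, 3, 2, 5, 2, 1, 5, 2, 5, 1, 5, 2, 5, 3, 5], [2, 8, 2, 4, 2, 8, 4, 2, 8, 2], 27, true⟩) (lall (memL L) [5, 2, 3, 5, 2, 3, 2, 5, 2, 1, 5, 2, 5, 1, 5, 2, 5, 3, 5]) = true := by decide +kernel

theorem rot2_96 : T.rot 2 [3, 5, 2, 3, 2, 5, 2, 1, 5, 2, 5, 1, 5, 2, 5, 3, 5, 2, 5] (sel (ones 170775) ip2 96) = true := by decide +kernel

theorem rot2_96r : band (Rule.ok (2 * 5) EX RL ⟨2 :: [3, 5, 2, 3, 2, 5, 2, 1, 5, 2, 5, 1, 5, 2, 5, 3, 5, 2, 5], [2, 8, 2, 4, 2, 8, 4, 2], 27, true⟩) (lall (memL L) [3, 5, 2, 3, 2, 5, 2, 1, 5, 2, 5, 1, 5, 2, 5, 3, 5, 2, 5]) = true := by decide +kernel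

theorem rot2_97 : T.rot 2 [3, 2, 5, 2, 1, 5, 2, 5, 1, 5, 2, 5, 3, 5, 2, 5, 2, 3, 5] (sel (ones 170775) ip2 97) = true := by decide +kernel

theorem rot2_97r : band (Rule.ok (2 * 5) EX RL ⟨2 :: [3, 2, 5, 2, 1, 5, 2, 5, 1, 5, 2, 5, 3, 5, 2, 5, 2, 3, 5], [2, 8, 2, 4, 2], 27, true⟩) (lall (memL L) [3, 2, 5, 2, 1, 5, 2, 5, 1, 5, 2, 5, 3, 5, 2, 5, 2, 3, 5]) = true := by decide +kernel

theorem rot2_98 : T.rot 2 [5, 2, 1, 5, 2, 5, 1, 5, 2, 5, 3, 5, 2, 5, 2, 3, 5, 2, 3] (sel (ones 170775) ip2 98) = true := by decide +kernel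

theorem rot2_98r : band (Rule.ok (2 * 5) EX RL ⟨2 :: [5, 2, 1, 5, 2, 5, 1, 5, 2, 5, 3, 5, 2, 5, 2, 3, 5, 2, 3], [2, 8, 2], 27, true⟩) (lall (memL L) [5, 2, 1, 5, 2, 5, 1, 5, 2, 5, 3, 5, 2, 5, 2, 3, 5, 2, 3]) = true := by decide +kernel

theorem rot2_99 : T.rot 2 [1, 5, 2, 5, 1, 5, 2, 5, 3, 5, 2, 5, 2, 3, 5, 2, 3, 2, 5] (sel (ones 170775) ip2 99) = true := by decide +kernel

theorem rot2_99r : band (Rule.ok (2 * 5) EX RL ⟨2 :: [1, 5, 2, 5, 1, 5, 2, 5, 3, 5, 2, 5, 2, 3, 5, 2, 3, 2, 5], [2], 27, true⟩) (lall (memL L) [1, 5, 2, 5, 1, 5, 2, 5, 3, 5, 2, 5, 2, 3, 5, 2, 3, 2, 5]) = true := by decide +kernel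

theorem rot2_100 : T.rot 2 [5, 2, 3, 2, 5, 3, 2, 5, 2, 5, 3, 5, 2, 5, 1, 5, 2, 5, 1] (sel (ones 170775) ip2 100) = true := by decide +kernel

theorem rot2_100r : band (Rule.ok (2 * 5) EX RL ⟨2 :: [5, 2, 3, 2, 5, 3, 2, 5, 2, 5, 3, 5, 2, 5, 1, 5, 2, 5, 1], [], 27, false⟩) (lall (memL L) [5, 2, 3, 2, 5, 3, 2, 5, 2, 5, 3, 5, 2, 5, 1, 5, 2, 5, 1]) = true := by decide +kernel

theorem rot2_101 : T.rot 2 [3, 2, 5, 3, 2, 5, 2, 5, 3, 5, 2, 5, 1, 5, 2, 5, 1, 2, 5] (sel (ones 170775) ip2 101) = true := by decide +kernel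

theorem rot2_101r : band (Rule.ok (2 * 5) EX RL ⟨2 :: [3, 2, 5, 3, 2, 5, 2, 5, 3, 5, 2, 5, 1, 5, 2, 5, 1, 2, 5], [2, 8], 27, false⟩) (lall (memL L) [3, 2, 5, 3, 2, 5, 2, 5, 3, 5, 2, 5, 1, 5, 2, 5, 1, 2, 5]) = true := by decide +kernel

theorem rot2_102 : T.rot 2 [5, 3, 2, 5, 2, 5, 3, 5, 2, 5, 1, 5, 2, 5, 1, 2, 5, 2, 3] (sel (ones 170775) ip2 102) = true := by decide +kernel

theorem rot2_102r : band (Rule.ok (2 * 5) EX RL ⟨2 :: [5, 3, 2, 5, 2, 5, 3, 5, 2, 5, 1, 5, 2, 5, 1, 2, 5, 2, 3], [2, 8, 2, 4], 27, false⟩) (lall (memL L) [5, 3, 2, 5, 2, 5, 3, 5, 2, 5, 1, 5, 2, 5, 1, 2, 5, 2, 3]) = true := by decide +kernel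

theorem rot2_103 : T.rot 2 [5, 2, 5, 3, 5, 2, 5, 1, 5, 2, 5, 1, 2, 5, 2, 3, 2, 5, 3] (sel (ones 170775) ip2 103) = true := by decide +kernel

theorem rot2_103r : band (Rule.ok (2 * 5) EX RL ⟨2 :: [5, 2, 5, 3, 5, 2, 5, 1, 5, 2, 5, 1, 2, 5, 2, 3, 2, 5, 3], [2, 8, 2, 4, 2, 8, 4], 27, false⟩) (lall (memL L) [5, 2, 5, 3, 5, 2, 5, 1, 5, 2, 5, 1, 2, 5, 2, 3, 2, 5, 3]) = true := by decide +kernel

theorem rot2_104 : T.rot 2 [5, 3, 5, 2, 5, 1, 5, 2, 5, 1, 2, 5, 2, 3, 2, 5, 3, 2, 5] (sel (ones 170775) ip2 104) = true := by decide +kernel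

theorem rot2_104r : band (Rule.ok (2 * 5) EX RL ⟨2 :: [5, 3, 5, 2, 5, 1, 5, 2, 5, 1, 2, 5, 2, 3, 2, 5, 3, 2, 5], [2, 8, 2, 4, 2, 8, 4, 2, 8], 27, false⟩) (lall (memL L) [5, 3, 5, 2, 5, 1, 5, 2, 5, 1, 2, 5, 2, 3, 2, 5, 3, 2, 5]) = true := by decide +kernel

theorem rot2_105 : T.rot 2 [5, 1, 5, 2, 5, 1, 2, 5, 2, 3, 2, 5, 3, 2, 5, 2, 5, 3, 5] (sel (ones 170775) ip2 105) = true := by decide +kernel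

theorem rot2_105r : band (Rule.ok (2 * 5) EX RL ⟨2 :: [5, 1, 5, 2, 5, 1, 2, 5, 2, 3, 2, 5, 3, 2, 5, 2, 5, 3, 5], [0, 8, 2, 8, 0, 8, 2], 27, false⟩) (lall (memL L) [5, 1, 5, 2, 5, 1, 2, 5, 2, 3, 2, 5, 3, 2, 5, 2, 5, 3, 5]) = true := by decide +kernel

theorem rot2_106 : T.rot 2 [5, 1, 2, 5, 2, 3, 2, 5, 3, 2, 5, 2, 5, 3, 5, 2, 5, 1, 5] (sel (ones 170775) ip2 106) = true := by decide +kernel

theorem rot2_106r : band (Rule.ok (2 * 5) EX RL ⟨2 :: [5, 1, 2, 5, 2, 3, 2, 5, 3, 2, 5, 2, 5, 3, 5, 2, 5, 1, 5], [0, 8, 2], 27, false⟩) (lall (memL L) [5, 1, 2, 5, 2, 3, 2, 5, 3, 2, 5, 2, 5, 3, 5, 2, 5, 1, 5]) = true := by decide +kernel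

theorem rot2_107 : T.rot 2 [3, 5, 2, 3, 5, 3, 5, 2, 5, 2, 3, 5, 3, 5, 2, 5, 3, 2, 5, 3, 5] (sel (ones 170775) ip2 107) = true := by decide +kernel

theorem rot2_107r : band (Rule.ok (2 * 5) EX RL ⟨2 :: [3, 5, 2, 3, 5, 3, 5, 2, 5, 2, 3, 5, 3, 5, 2, 5, 3, 2, 5, 3, 5], [], 4, true⟩) (lall (memL L) [3, 5, 2, 3, 5, 3, 5, 2, 5, 2, 3, 5, 3, 5, 2, 5, 3, 2, 5, 3, 5]) = true := by decide +kernel

theorem rot2_108 : T.rot 2 [3, 5, 3, 5, 2, 5, 2, 3, 5, 3, 5, 2, 5, 3, 2, 5, 3, 5, 2, 3, 5] (sel (ones 170775) ip2 108) = true := by decide +kernel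

theorem rot2_108r : band (Rule.ok (2 * 5) EX RL ⟨2 :: [3, 5, 3, 5, 2, 5, 2, 3, 5, 3, 5, 2, 5, 3, 2, 5, 3, 5, 2, 3, 5], [2, 4, 8], 4, true⟩) (lall (memL L) [3, 5, 3, 5, 2, 5, 2, 3, 5, 3, 5, 2, 5, 3, 2, 5, 3, 5, 2, 3, 5]) = true := by decide +kernel

theorem rot2_109 : T.rot 2 [5, 2, 3, 5, 3, 5, 2, 5, 3, 2, 5, 3, 5, 2, 3, 5, 2, 3, 5, 3, 5] (sel (ones 170775) ip2 109) = true := by decide +kernel

theorem rot2_109r : band (Rule.ok (2 * 5) EX RL ⟨2 :: [5, 2, 3, 5, 3, 5, 2, 5, 3, 2, 5, 3, 5, 2, 3, 5, 2, 3, 5, 3, 5], [2, 4, 8, 2, 4, 8, 4, 8], 4, true⟩) (lall (memL L) [5, 2, 3, 5, 3, 5, 2, 5, 3, 2, 5, 3, 5, 2, 3, 5, 2, 3, 5, 3, 5]) = true := by decide +kernel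

theorem rot2_110 : T.rot 2 [3, 5, 3, 5, 2, 5, 3, 2, 5, 3, 5, 2, 3, 5, 2, 3, 5, 3, 5, 2, 5] (sel (ones 170775) ip2 110) = true := by decide +kernel

theorem rot2_110r : band (Rule.ok (2 * 5) EX RL ⟨2 :: [3, 5, 3, 5, 2, 5, 3, 2, 5, 3, 5, 2, 3, 5, 2, 3, 5, 3, 5, 2, 5], [2, 4, 8, 2, 4, 8, 4, 8, 2, 8], 4, true⟩) (lall (memL L) [3, 5, 3, 5, 2, 5, 3, 2, 5, 3, 5, 2, 3, 5, 2, 3, 5, 3, 5, 2, 5]) = true := by decide +kernel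

theorem rot2_111 : T.rot 2 [5, 3, 2, 5, 3, 5, 2, 3, 5, 2, 3, 5, 3, 5, 2, 5, 2, 3, 5, 3, 5] (sel (ones 170775) ip2 111) = true := by decide +kernel

theorem rot2_111r : band (Rule.ok (2 * 5) EX RL ⟨2 :: [5, 3, 2, 5, 3, 5, 2, 3, 5, 2, 3, 5, 3, 5, 2, 5, 2, 3, 5, 3, 5], [8, 4, 8, 2, 4, 8, 2], 4, true⟩) (lall (memL L) [5, 3, 2, 5, 3, 5, 2, 3, 5, 2, 3, 5, 3, 5, 2, 5, 2, 3, 5, 3, 5]) = true := by decide +kernel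

theorem rot2_112 : T.rot 2 [5, 3, 5, 2, 3, 5, 2, 3, 5, 3, 5, 2, 5, 2, 3, 5, 3, 5, 2, 5, 3] (sel (ones 170775) ip2 112) = true := by decide +kernel

theorem rot2_112r : band (Rule.ok (2 * 5) EX RL ⟨2 :: [5, 3, 5, 2, 3, 5, 2, 3, 5, 3, 5, 2, 5, 2, 3, 5, 3, 5, 2, 5, 3], [8, 4, 8, 2], 4, true⟩) (lall (memL L) [5, 3, 5, 2, 3, 5, 2, 3, 5, 3, 5, 2, 5, 2, 3, 5, 3, 5, 2, 5, 3]) = true := by decide +kernel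

theorem rot2_113 : T.rot 2 [3, 5, 2, 5, 3, 5, 3, 2, 5, 2, 5, 3, 5, 3, 2, 5, 3, 2, 5, 3, 5] (sel (ones 170775) ip2 113) = true := by decide +kernel

theorem rot2_113r : band (Rule.ok (2 * 5) EX RL ⟨2 :: [3, 5, 2, 5, 3, 5, 3, 2, 5, 2, 5, 3, 5, 3, 2, 5, 3, 2, 5, 3, 5], [8, 4, 8], 4, false⟩) (lall (memL L) [3, 5, 2, 5, 3, 5, 3, 2, 5, 2, 5, 3, 5, 3, 2, 5, 3, 2, 5, 3, 5]) = true := by decide +kernel

theorem rot2_114 : T.rot 2 [5, 3, 5, 3, 2, 5, 2, 5, 3, 5, 3, 2, 5, 3, 2, 5, 3, 5, 2, 3, 5] (sel (ones 170775) ip2 114) = true := by decide +kernel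

theorem rot2_114r : band (Rule.ok (2 * 5) EX RL ⟨2 :: [5, 3, 5, 3, 2, 5, 2, 5, 3, 5, 3, 2, 5, 3, 2, 5, 3, 5, 2, 3, 5], [8, 4, 8, 2, 4, 8], 4, false⟩) (lall (memL L) [5, 3, 5, 3, 2, 5, 2, 5, 3, 5, 3, 2, 5, 3, 2, 5, 3, 5, 2, 3, 5]) = true := by decide +kernel

theorem rot2_115 : T.rot 2 [5, 2, 5, 3, 5, 3, 2, 5, 3, 2, 5, 3, 5, 2, 3, 5, 2, 5, 3, 5, 3] (sel (ones 170775) ip2 115) = true := by decide +kernel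

theorem rot2_115r : band (Rule.ok (2 * 5) EX RL ⟨2 :: [5, 2, 5, 3, 5, 3, 2, 5, 3, 2, 5, 3, 5, 2, 3, 5, 2, 5, 3, 5, 3], [2, 4, 8, 2, 4, 8, 4, 8, 2, 8, 2], 4, false⟩) (lall (memL L) [5, 2, 5, 3, 5, 3, 2, 5, 3, 2, 5, 3, 5, 2, 3, 5, 2, 5, 3, 5, 3]) = true := by decide +kernel

theorem rot2_116 : T.rot 2 [5, 3, 5, 3, 2, 5, 3, 2, 5, 3, 5, 2, 3, 5, 2, 5, 3, 5, 3, 2, 5] (sel (ones 170775) ip2 116) = true := by decide +kernel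

theorem rot2_116r : band (Rule.ok (2 * 5) EX RL ⟨2 :: [5, 3, 5, 3, 2, 5, 3, 2, 5, 3, 5, 2, 3, 5, 2, 5, 3, 5, 3, 2, 5], [2, 4, 8, 2, 4, 8, 4, 8, 2], 4, false⟩) (lall (memL L) [5, 3, 5, 3, 2, 5, 3, 2, 5, 3, 5, 2, 3, 5, 2, 5, 3, 5, 3, 2, 5]) = true := by decide +kernel

theorem rot2_117 : T.rot 2 [5, 3, 2, 5, 3, 5, 2, 3, 5, 2, 5, 3, 5, 3, 2, 5, 2, 5, 3, 5, 3] (sel (ones 170775) ip2 117) = true := by decide +kernel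

theorem rot2_117r : band (Rule.ok (2 * 5) EX RL ⟨2 :: [5, 3, 2, 5, 3, 5, 2, 3, 5, 2, 5, 3, 5, 3, 2, 5, 2, 5, 3, 5, 3], [2, 4, 8, 2], 4, false⟩) (lall (memL L) [5, 3, 2, 5, 3, 5, 2, 3, 5, 2, 5, 3, 5, 3, 2, 5, 2, 5, 3, 5, 3]) = true := by decide +kernel

theorem rot2_118 : T.rot 2 [5, 3, 5, 2, 3, 5, 2, 5, 3, 5, 3, 2, 5, 2, 5, 3, 5, 3, 2, 5, 3] (sel (ones 170775) ip2 118) = true := by decide +kernel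

theorem rot2_118r : band (Rule.ok (2 * 5) EX RL ⟨2 :: [5, 3, 5, 2, 3, 5, 2, 5, 3, 5, 3, 2, 5, 2, 5, 3, 5, 3, 2, 5, 3], [2], 4, false⟩) (lall (memL L) [5, 3, 5, 2, 3, 5, 2, 5, 3, 5, 3, 2, 5, 2, 5, 3, 5, 3, 2, 5, 3]) = true := by decide +kernel

theorem rot2_119 : T.rot 2 [1, 5, 1, 2, 5, 2, 1, 5, 2, 5, 1, 5, 2, 5, 1, 2, 5, 1, 5, 2, 5, 1] (sel (ones 170775) ip2 119) = true := by decide +kernel

theorem rot2_119r : band (Rule.ok (2 * 5) EX RL ⟨2 :: [1, 5, 1, 2, 5, 2, 1, 5, 2, 5, 1, 5, 2, 5, 1, 2, 5, 1, 5, 2, 5, 1], [0], 17, true⟩) (lall (memL L) [1, 5, 1, 2, 5, 2, 1, 5, 2, 5, 1, 5, 2, 5, 1, 2, 5, 1, 5, 2, 5, 1]) = true := by decide +kernel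

theorem rot2_120 : T.rot 2 [5, 2, 1, 5, 2, 5, 1, 5, 2, 5, 1, 2, 5, 1, 5, 2, 5, 1, 2, 1, 5, 1] (sel (ones 170775) ip2 120) = true := by decide +kernel

theorem rot2_120r : band (Rule.ok (2 * 5) EX RL ⟨2 :: [5, 2, 1, 5, 2, 5, 1, 5, 2, 5, 1, 2, 5, 1, 5, 2, 5, 1, 2, 1, 5, 1], [0, 2, 0, 8, 0], 17, true⟩) (lall (memL L) [5, 2, 1, 5, 2, 5, 1, 5, 2, 5, 1, 2, 5, 1, 5, 2, 5, 1, 2, 1, 5, 1]) = true := by decide +kernel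

theorem rot2_121 : T.rot 2 [1, 5, 2, 5, 1, 5, 2, 5, 1, 2, 5, 1, 5, 2, 5, 1, 2, 1, 5, 1, 2, 5] (sel (ones 170775) ip2 121) = true := by decide +kernel

theorem rot2_121r : band (Rule.ok (2 * 5) EX RL ⟨2 :: [1, 5, 2, 5, 1, 5, 2, 5, 1, 2, 5, 1, 5, 2, 5, 1, 2, 1, 5, 1, 2, 5], [0, 2, 0, 8, 0, 2, 8], 17, true⟩) (lall (memL L) [1, 5, 2, 5, 1, 5, 2, 5, 1, 2, 5, 1, 5, 2, 5, 1, 2, 1, 5, 1, 2, 5]) = true := by decide +kernel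

theorem rot2_122 : T.rot 2 [5, 1, 5, 2, 5, 1, 2, 5, 1, 5, 2, 5, 1, 2, 1, 5, 1, 2, 5, 2, 1, 5] (sel (ones 170775) ip2 122) = true := by decide +kernel

theorem rot2_122r : band (Rule.ok (2 * 5) EX RL ⟨2 :: [5, 1, 5, 2, 5, 1, 2, 5, 1, 5, 2, 5, 1, 2, 1, 5, 1, 2, 5, 2, 1, 5], [0, 2, 0, 8, 0, 2, 8, 2, 0, 8], 17, true⟩) (lall (memL L) [5, 1, 5, 2, 5, 1, 2, 5, 1, 5, 2, 5, 1, 2, 1, 5, 1, 2, 5, 2, 1, 5]) = true := by decide +kernel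

theorem rot2_123 : T.rot 2 [5, 1, 2, 5, 1, 5, 2, 5, 1, 2, 1, 5, 1, 2, 5, 2, 1, 5, 2, 5, 1, 5] (sel (ones 170775) ip2 123) = true := by decide +kernel

theorem rot2_123r : band (Rule.ok (2 * 5) EX RL ⟨2 :: [5, 1, 2, 5, 1, 5, 2, 5, 1, 2, 1, 5, 1, 2, 5, 2, 1, 5, 2, 5, 1, 5], [8, 2, 8, 0, 8, 2, 0, 8, 2], 17, true⟩) (lall (memL L) [5, 1, 2, 5, 1, 5, 2, 5, 1, 2, 1, 5, 1, 2, 5, 2, 1, 5, 2, 5, 1, 5]) = true := by decide +kernel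

theorem rot2_124 : T.rot 2 [5, 1, 5, 2, 5, 1, 2, 1, 5, 1, 2, 5, 2, 1, 5, 2, 5, 1, 5, 2, 5, 1] (sel (ones 170775) ip2 124) = true := by decide +kernel

theorem rot2_124r : band (Rule.ok (2 * 5) EX RL ⟨2 :: [5, 1, 5, 2, 5, 1, 2, 1, 5, 1, 2, 5, 2, 1, 5, 2, 5, 1, 5, 2, 5, 1], [8, 2, 8, 0, 8, 2], 17, true⟩) (lall (memL L) [5, 1, 5, 2, 5, 1, 2, 1, 5, 1, 2, 5, 2, 1, 5, 2, 5, 1, 5, 2, 5, 1]) = true := by decide +kernel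

theorem rot2_125 : T.rot 2 [5, 1, 2, 1, 5, 1, 2, 5, 2, 1, 5, 2, 5, 1, 5, 2, 5, 1, 2, 5, 1, 5] (sel (ones 170775) ip2 125) = true := by decide +kernel

theorem rot2_125r : band (Rule.ok (2 * 5) EX RL ⟨2 :: [5, 1, 2, 1, 5, 1, 2, 5, 2, 1, 5, 2, 5, 1, 5, 2, 5, 1, 2, 5, 1, 5], [8, 2], 17, true⟩) (lall (memL L) [5, 1, 2, 1, 5, 1, 2, 5, 2, 1, 5, 2, 5, 1, 5, 2, 5, 1, 2, 5, 1, 5]) = true := by decide +kernel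

theorem rot2_126 : T.rot 2 [5, 1, 5, 2, 1, 5, 2, 5, 1, 5, 2, 5, 1, 2, 5, 2, 1, 5, 1, 2, 1, 5] (sel (ones 170775) ip2 126) = true := by decide +kernel

theorem rot2_126r : band (Rule.ok (2 * 5) EX RL ⟨2 :: [5, 1, 5, 2, 1, 5, 2, 5, 1, 5, 2, 5, 1, 2, 5, 2, 1, 5, 1, 2, 1, 5], [8], 17, false⟩) (lall (memL L) [5, 1, 5, 2, 1, 5, 2, 5, 1, 5, 2, 5, 1, 2, 5, 2, 1, 5, 1, 2, 1, 5]) = true := by decide +kernel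

theorem rot2_127 : T.rot 2 [1, 5, 2, 5, 1, 5, 2, 5, 1, 2, 5, 2, 1, 5, 1, 2, 1, 5, 2, 5, 1, 5] (sel (ones 170775) ip2 127) = true := by decide +kernel

theorem rot2_127r : band (Rule.ok (2 * 5) EX RL ⟨2 :: [1, 5, 2, 5, 1, 5, 2, 5, 1, 2, 5, 2, 1, 5, 1, 2, 1, 5, 2, 5, 1, 5], [8, 2, 8, 0, 8], 17, false⟩) (lall (memL L) [1, 5, 2, 5, 1, 5, 2, 5, 1, 2, 5, 2, 1, 5, 1, 2, 1, 5, 2, 5, 1, 5]) = true := by decide +kernel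

theorem rot2_128 : T.rot 2 [5, 1, 5, 2, 5, 1, 2, 5, 2, 1, 5, 1, 2, 1, 5, 2, 5, 1, 5, 2, 1, 5] (sel (ones 170775) ip2 128) = true := by decide +kernel

theorem rot2_128r : band (Rule.ok (2 * 5) EX RL ⟨2 :: [5, 1, 5, 2, 5, 1, 2, 5, 2, 1, 5, 1, 2, 1, 5, 2, 5, 1, 5, 2, 1, 5], [8, 2, 8, 0, 8, 2, 0, 8], 17, false⟩) (lall (memL L) [5, 1, 5, 2, 5, 1, 2, 5, 2, 1, 5, 1, 2, 1, 5, 2, 5, 1, 5, 2, 1, 5]) = true := by decide +kernel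

theorem rot2_129 : T.rot 2 [5, 1, 2, 5, 2, 1, 5, 1, 2, 1, 5, 2, 5, 1, 5, 2, 1, 5, 2, 5, 1, 5] (sel (ones 170775) ip2 129) = true := by decide +kernel

theorem rot2_129r : band (Rule.ok (2 * 5) EX RL ⟨2 :: [5, 1, 2, 5, 2, 1, 5, 1, 2, 1, 5, 2, 5, 1, 5, 2, 1, 5, 2, 5, 1, 5], [0, 2, 0, 8, 0, 2, 8, 2, 0, 8, 2], 17, false⟩) (lall (memL L) [5, 1, 2, 5, 2, 1, 5, 1, 2, 1, 5, 2, 5, 1, 5, 2, 1, 5, 2, 5, 1, 5]) = true := by decide +kernel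

theorem rot2_130 : T.rot 2 [5, 2, 1, 5, 1, 2, 1, 5, 2, 5, 1, 5, 2, 1, 5, 2, 5, 1, 5, 2, 5, 1] (sel (ones 170775) ip2 130) = true := by decide +kernel

theorem rot2_130r : band (Rule.ok (2 * 5) EX RL ⟨2 :: [5, 2, 1, 5, 1, 2, 1, 5, 2, 5, 1, 5, 2, 1, 5, 2, 5, 1, 5, 2, 5, 1], [0, 2, 0, 8, 0, 2, 8, 2], 17, false⟩) (lall (memL L) [5, 2, 1, 5, 1, 2, 1, 5, 2, 5, 1, 5, 2, 1, 5, 2, 5, 1, 5, 2, 5, 1]) = true := by decide +kernel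

theorem rot2_131 : T.rot 2 [1, 5, 1, 2, 1, 5, 2, 5, 1, 5, 2, 1, 5, 2, 5, 1, 5, 2, 5, 1, 2, 5] (sel (ones 170775) ip2 131) = true := by decide +kernel

theorem rot2_131r : band (Rule.ok (2 * 5) EX RL ⟨2 :: [1, 5, 1, 2, 1, 5, 2, 5, 1, 5, 2, 1, 5, 2, 5, 1, 5, 2, 5, 1, 2, 5], [0, 2, 0, 8, 0, 2], 17, false⟩) (lall (memL L) [1, 5, 1, 2, 1, 5, 2, 5, 1, 5, 2, 1, 5, 2, 5, 1, 5, 2, 5, 1, 2, 5]) = true := by decide +kernel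

theorem rot2_132 : T.rot 2 [1, 5, 2, 5, 1, 5, 2, 1, 5, 2, 5, 1, 5, 2, 5, 1, 2, 5, 2, 1, 5, 1] (sel (ones 170775) ip2 132) = true := by decide +kernel

theorem rot2_132r : band (Rule.ok (2 * 5) EX RL ⟨2 :: [1, 5, 2, 5, 1, 5, 2, 1, 5, 2, 5, 1, 5, 2, 5, 1, 2, 5, 2, 1, 5, 1], [0, 2], 17, false⟩) (lall (memL L) [1, 5, 2, 5, 1, 5, 2, 1, 5, 2, 5, 1, 5, 2, 5, 1, 2, 5, 2, 1, 5, 1]) = true := by decide +kernel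

theorem rot2_133 : T.rot 2 [3, 2, 5, 2, 5, 2, 3, 5, 2, 3, 5, 2, 3, 5, 2, 3, 5, 2, 3, 5, 3, 2, 3, 5] (sel (ones 170775) ip2 133) = true := by decide +kernel

theorem rot2_133r : band (Rule.ok (2 * 5) EX RL ⟨2 :: [3, 2, 5, 2, 5, 2, 3, 5, 2, 3, 5, 2, 3, 5, 2, 3, 5, 2, 3, 5, 3, 2, 3, 5], [], 5, true⟩) (lall (memL L) [3, 2, 5, 2, 5, 2, 3, 5, 2, 3, 5, 2, 3, 5, 2, 3, 5, 2, 3, 5, 3, 2, 3, 5]) = true := by decide +kernel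

theorem rot2_134 : T.rot 2 [5, 2, 5, 2, 3, 5, 2, 3, 5, 2, 3, 5, 2, 3, 5, 2, 3, 5, 3, 2, 3, 5, 2, 3] (sel (ones 170775) ip2 134) = true := by decide +kernel

theorem rot2_134r : band (Rule.ok (2 * 5) EX RL ⟨2 :: [5, 2, 5, 2, 3, 5, 2, 3, 5, 2, 3, 5, 2, 3, 5, 2, 3, 5, 3, 2, 3, 5, 2, 3], [2, 4], 5, true⟩) (lall (memL L) [5, 2, 5, 2, 3, 5, 2, 3, 5, 2, 3, 5, 2, 3, 5, 2, 3, 5, 3, 2, 3, 5, 2, 3]) = true := by decide +kernel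

theorem rot2_135 : T.rot 2 [5, 2, 3, 5, 2, 3, 5, 2, 3, 5, 2, 3, 5, 2, 3, 5, 3, 2, 3, 5, 2, 3, 2, 5] (sel (ones 170775) ip2 135) = true := by decide +kernel

theorem rot2_135r : band (Rule.ok (2 * 5) EX RL ⟨2 :: [5, 2, 3, 5, 2, 3, 5, 2, 3, 5, 2, 3, 5, 2, 3, 5, 3, 2, 3, 5, 2, 3, 2, 5], [2, 4, 2, 8], 5, true⟩) (lall (memL L) [5, 2, 3, 5, 2, 3, 5, 2, 3, 5, 2, 3, 5, 2, 3, 5, 3, 2, 3, 5, 2, 3, 2, 5]) = true := by decide +kernel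

theorem rot2_136 : T.rot 2 [3, 5, 2, 3, 5, 2, 3, 5, 2, 3, 5, 2, 3, 5, 3, 2, 3, 5, 2, 3, 2, 5, 2, 5] (sel (ones 170775) ip2 136) = true := by decide +kernel

theorem rot2_136r : band (Rule.ok (2 * 5) EX RL ⟨2 :: [3, 5, 2, 3, 5, 2, 3, 5, 2, 3, 5, 2, 3, 5, 3, 2, 3, 5, 2, 3, 2, 5, 2, 5], [2, 4, 2, 8, 2, 8], 5, true⟩) (lall (memL L) [3, 5, 2, 3, 5, 2, 3, 5, 2, 3, 5, 2, 3, 5, 3, 2, 3, 5, 2, 3, 2, 5, 2, 5]) = true := by decide +kernel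

theorem rot2_137 : T.rot 2 [3, 5, 2, 3, 5, 2, 3, 5, 2, 3, 5, 3, 2, 3, 5, 2, 3, 2, 5, 2, 5, 2, 3, 5] (sel (ones 170775) ip2 137) = true := by decide +kernel

theorem rot2_137r : band (Rule.ok (2 * 5) EX RL ⟨2 :: [3, 5, 2, 3, 5, 2, 3, 5, 2, 3, 5, 3, 2, 3, 5, 2, 3, 2, 5, 2, 5, 2, 3, 5], [2, 4, 2, 8, 2, 8, 2, 4, 8], 5, true⟩) (lall (memL L) [3, 5, 2, 3, 5, 2, 3, 5, 2, 3, 5, 3, 2, 3, 5, 2, 3, 2, 5, 2, 5, 2, 3, 5]) = true := by decide +kernel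

theorem rot2_138 : T.rot 2 [3, 5, 2, 3, 5, 2, 3, 5, 3, 2, 3, 5, 2, 3, 2, 5, 2, 5, 2, 3, 5, 2, 3, 5] (sel (ones 170775) ip2 138) = true := by decide +kernel

theorem rot2_138r : band (Rule.ok (2 * 5) EX RL ⟨2 :: [3, 5, 2, 3, 5, 2, 3, 5, 3, 2, 3, 5, 2, 3, 2, 5, 2, 5, 2, 3, 5, 2, 3, 5], [2, 4, 2, 8, 2, 8, 2, 4, 8, 2, 4, 8], 5, true⟩) (lall (memL L) [3, 5, 2, 3, 5, 2, 3, 5, 3, 2, 3, 5, 2, 3, 2, 5, 2, 5, 2, 3, 5, 2, 3, 5]) = true := by decide +kernel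

theorem rot2_139 : T.rot 2 [3, 5, 2, 3, 5, 3, 2, 3, 5, 2, 3, 2, 5, 2, 5, 2, 3, 5, 2, 3, 5, 2, 3, 5] (sel (ones 170775) ip2 139) = true := by decide +kernel

theorem rot2_139r : band (Rule.ok (2 * 5) EX RL ⟨2 :: [3, 5, 2, 3, 5, 3, 2, 3, 5, 2, 3, 2, 5, 2, 5, 2, 3, 5, 2, 3, 5, 2, 3, 5], [8, 4, 2, 4, 8, 4, 2, 8, 4, 2], 5, true⟩) (lall (memL L) [3, 5, 2, 3, 5, 3, 2, 3, 5, 2, 3, 2, 5, 2, 5, 2, 3, 5, 2, 3, 5, 2, 3, 5]) = true := by decide +kernel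

theorem rot2_140 : T.rot 2 [3, 5, 3, 2, 3, 5, 2, 3, 2, 5, 2, 5, 2, 3, 5, 2, 3, 5, 2, 3, 5, 2, 3, 5] (sel (ones 170775) ip2 140) = true := by decide +kernel

theorem rot2_140r : band (Rule.ok (2 * 5) EX RL ⟨2 :: [3, 5, 3, 2, 3, 5, 2, 3, 2, 5, 2, 5, 2, 3, 5, 2, 3, 5, 2, 3, 5, 2, 3, 5], [8, 4, 2, 4, 8, 4, 2], 5, true⟩) (lall (memL L) [3, 5, 3, 2, 3, 5, 2, 3, 2, 5, 2, 5, 2, 3, 5, 2, 3, 5, 2, 3, 5, 2, 3, 5]) = true := by decide +kernel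

theorem rot2_141 : T.rot 2 [3, 5, 2, 3, 2, 5, 2, 5, 2, 3, 5, 2, 3, 5, 2, 3, 5, 2, 3, 5, 2, 3, 5, 3] (sel (ones 170775) ip2 141) = true := by decide +kernel

theorem rot2_141r : band (Rule.ok (2 * 5) EX RL ⟨2 :: [3, 5, 2, 3, 2, 5, 2, 5, 2, 3, 5, 2, 3, 5, 2, 3, 5, 2, 3, 5, 2, 3, 5, 3], [8, 4, 2], 5, true⟩) (lall (memL L) [3, 5, 2, 3, 2, 5, 2, 5, 2, 3, 5, 2, 3, 5, 2, 3, 5, 2, 3, 5, 2, 3, 5, 3]) = true := by decide +kernel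

theorem rot2_142 : T.rot 2 [3, 5, 3, 2, 5, 3, 2, 5, 3, 2, 5, 3, 2, 5, 3, 2, 5, 2, 5, 2, 3, 2, 5, 3] (sel (ones 170775) ip2 142) = true := by decide +kernel

theorem rot2_142r : band (Rule.ok (2 * 5) EX RL ⟨2 :: [3, 5, 3, 2, 5, 3, 2, 5, 3, 2, 5, 3, 2, 5, 3, 2, 5, 2, 5, 2, 3, 2, 5, 3], [8, 4], 5, false⟩) (lall (memL L) [3, 5, 3, 2, 5, 3, 2, 5, 3, 2, 5, 3, 2, 5, 3, 2, 5, 2, 5, 2, 3, 2, 5, 3]) = true := by decide +kernel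

theorem rot2_143 : T.rot 2 [5, 3, 2, 5, 3, 2, 5, 3, 2, 5, 3, 2, 5, 2, 5, 2, 3, 2, 5, 3, 2, 3, 5, 3] (sel (ones 170775) ip2 143) = true := by decide +kernel

theorem rot2_143r : band (Rule.ok (2 * 5) EX RL ⟨2 :: [5, 3, 2, 5, 3, 2, 5, 3, 2, 5, 3, 2, 5, 2, 5, 2, 3, 2, 5, 3, 2, 3, 5, 3], [8, 4, 2, 4, 8, 4], 5, false⟩) (lall (memL L) [5, 3, 2, 5, 3, 2, 5, 3, 2, 5, 3, 2, 5, 2, 5, 2, 3, 2, 5, 3, 2, 3, 5, 3]) = true := by decide +kernel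

theorem rot2_144 : T.rot 2 [5, 3, 2, 5, 3, 2, 5, 3, 2, 5, 2, 5, 2, 3, 2, 5, 3, 2, 3, 5, 3, 2, 5, 3] (sel (ones 170775) ip2 144) = true := by decide +kernel

theorem rot2_144r : band (Rule.ok (2 * 5) EX RL ⟨2 :: [5, 3, 2, 5, 3, 2, 5, 3, 2, 5, 2, 5, 2, 3, 2, 5, 3, 2, 3, 5, 3, 2, 5, 3], [8, 4, 2, 4, 8, 4, 2, 8, 4], 5, false⟩) (lall (memL L) [5, 3, 2, 5, 3, 2, 5, 3, 2, 5, 2, 5, 2, 3, 2, 5, 3, 2, 3, 5, 3, 2, 5, 3]) = true := by decide +kernel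

theorem rot2_145 : T.rot 2 [5, 3, 2, 5, 3, 2, 5, 2, 5, 2, 3, 2, 5, 3, 2, 3, 5, 3, 2, 5, 3, 2, 5, 3] (sel (ones 170775) ip2 145) = true := by decide +kernel

theorem rot2_145r : band (Rule.ok (2 * 5) EX RL ⟨2 :: [5, 3, 2, 5, 3, 2, 5, 2, 5, 2, 3, 2, 5, 3, 2, 3, 5, 3, 2, 5, 3, 2, 5, 3], [8, 4, 2, 4, 8, 4, 2, 8, 4, 2, 8, 4], 5, false⟩) (lall (memL L) [5, 3, 2, 5, 3, 2, 5, 2, 5, 2, 3, 2, 5, 3, 2, 3, 5, 3, 2, 5, 3, 2, 5, 3]) = true := by decide +kernel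

theorem rot2_146 : T.rot 2 [5, 3, 2, 5, 2, 5, 2, 3, 2, 5, 3, 2, 3, 5, 3, 2, 5, 3, 2, 5, 3, 2, 5, 3] (sel (ones 170775) ip2 146) = true := by decide +kernel

theorem rot2_146r : band (Rule.ok (2 * 5) EX RL ⟨2 :: [5, 3, 2, 5, 2, 5, 2, 3, 2, 5, 3, 2, 3, 5, 3, 2, 5, 3, 2, 5, 3, 2, 5, 3], [2, 4, 2, 8, 2, 8, 2, 4, 8, 2], 5, false⟩) (lall (memL L) [5, 3, 2, 5, 2, 5, 2, 3, 2, 5, 3, 2, 3, 5, 3, 2, 5, 3, 2, 5, 3, 2, 5, 3]) = true := by decide +kernel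

theorem rot2_147 : T.rot 2 [5, 2, 5, 2, 3, 2, 5, 3, 2, 3, 5, 3, 2, 5, 3, 2, 5, 3, 2, 5, 3, 2, 5, 3] (sel (ones 170775) ip2 147) = true := by decide +kernel

theorem rot2_147r : band (Rule.ok (2 * 5) EX RL ⟨2 :: [5, 2, 5, 2, 3, 2, 5, 3, 2, 3, 5, 3, 2, 5, 3, 2, 5, 3, 2, 5, 3, 2, 5, 3], [2, 4, 2, 8, 2, 8, 2], 5, false⟩) (lall (memL L) [5, 2, 5, 2, 3, 2, 5, 3, 2, 3, 5, 3, 2, 5, 3, 2, 5, 3, 2, 5, 3, 2, 5, 3]) = true := by decide +kernel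

theorem rot2_148 : T.rot 2 [5, 2, 3, 2, 5, 3, 2, 3, 5, 3, 2, 5, 3, 2, 5, 3, 2, 5, 3, 2, 5, 3, 2, 5] (sel (ones 170775) ip2 148) = true := by decide +kernel

theorem rot2_148r : band (Rule.ok (2 * 5) EX RL ⟨2 :: [5, 2, 3, 2, 5, 3, 2, 3, 5, 3, 2, 5, 3, 2, 5, 3, 2, 5, 3, 2, 5, 3, 2, 5], [2, 4, 2, 8, 2], 5, false⟩) (lall (memL L) [5, 2, 3, 2, 5, 3, 2, 3, 5, 3, 2, 5, 3, 2, 5, 3, 2, 5, 3, 2, 5, 3, 2, 5]) = true := by decide +kernel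

theorem rot2_149 : T.rot 2 [3, 2, 5, 3, 2, 3, 5, 3, 2, 5, 3, 2, 5, 3, 2, 5, 3, 2, 5, 3, 2, 5, 2, 5] (sel (ones 170775) ip2 149) = true := by decide +kernel

theorem rot2_149r : band (Rule.ok (2 * 5) EX RL ⟨2 :: [3, 2, 5, 3, 2, 3, 5, 3, 2, 5, 3, 2, 5, 3, 2, 5, 3, 2, 5, 3, 2, 5, 2, 5], [2, 4, 2], 5, false⟩) (lall (memL L) [3, 2, 5, 3, 2, 3, 5, 3, 2, 5, 3, 2, 5, 3, 2, 5, 3, 2, 5, 3, 2, 5, 2, 5]) = true := by decide +kernel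

theorem rot2_150 : T.rot 2 [5, 3, 2, 3, 5, 3, 2, 5, 3, 2, 5, 3, 2, 5, 3, 2, 5, 3, 2, 5, 2, 5, 2, 3] (sel (ones 170775) ip2 150) = true := by decide +kernel

theorem rot2_150r : band (Rule.ok (2 * 5) EX RL ⟨2 :: [5, 3, 2, 3, 5, 3, 2, 5, 3, 2, 5, 3, 2, 5, 3, 2, 5, 3, 2, 5, 2, 5, 2, 3], [2], 5, false⟩) (lall (memL L) [5, 3, 2, 3, 5, 3, 2, 5, 3, 2, 5, 3, 2, 5, 3, 2, 5, 3, 2, 5, 2, 5, 2, 3]) = true := by decide +kernel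

theorem rot2_151 : T.rot 2 [3, 5, 3, 2, 1, 3, 5, 1, 2, 5, 2, 3, 5, 3, 2, 3, 5, 3, 2, 5, 2, 3, 1, 3] (sel (ones 170775) ip2 151) = true := by decide +kernel

theorem rot2_151r : band (Rule.ok (2 * 5) EX RL ⟨2 :: [3, 5, 3, 2, 1, 3, 5, 1, 2, 5, 2, 3, 5, 3, 2, 3, 5, 3, 2, 5, 2, 3, 1, 3], [0, 4], 25, true⟩) (lall (memL L) [3, 5, 3, 2, 1, 3, 5, 1, 2, 5, 2, 3, 5, 3, 2, 3, 5, 3, 2, 5, 2, 3, 1, 3]) = true := by decide +kernel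

theorem rot2_152 : T.rot 2 [1, 3, 5, 1, 2, 5, 2, 3, 5, 3, 2, 3, 5, 3, 2, 5, 2, 3, 1, 3, 2, 3, 5, 3] (sel (ones 170775) ip2 152) = true := by decide +kernel

theorem rot2_152r : band (Rule.ok (2 * 5) EX RL ⟨2 :: [1, 3, 5, 1, 2, 5, 2, 3, 5, 3, 2, 3, 5, 3, 2, 5, 2, 3, 1, 3, 2, 3, 5, 3], [0, 4, 2, 4, 8, 4], 25, true⟩) (lall (memL L) [1, 3, 5, 1, 2, 5, 2, 3, 5, 3, 2, 3, 5, 3, 2, 5, 2, 3, 1, 3, 2, 3, 5, 3]) = true := by decide +kernel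

theorem rot2_153 : T.rot 2 [5, 2, 3, 5, 3, 2, 3, 5, 3, 2, 5, 2, 3, 1, 3, 2, 3, 5, 3, 2, 1, 3, 5, 1] (sel (ones 170775) ip2 153) = true := by decide +kernel

theorem rot2_153r : band (Rule.ok (2 * 5) EX RL ⟨2 :: [5, 2, 3, 5, 3, 2, 3, 5, 3, 2, 5, 2, 3, 1, 3, 2, 3, 5, 3, 2, 1, 3, 5, 1], [0, 4, 2, 4, 8, 4, 2, 0, 4, 8, 0], 25, true⟩) (lall (memL L) [5, 2, 3, 5, 3, 2, 3, 5, 3, 2, 5, 2, 3, 1, 3, 2, 3, 5, 3, 2, 1, 3, 5, 1]) = true := by decide +kernel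

theorem rot2_154 : T.rot 2 [3, 5, 3, 2, 3, 5, 3, 2, 5, 2, 3, 1, 3, 2, 3, 5, 3, 2, 1, 3, 5, 1, 2, 5] (sel (ones 170775) ip2 154) = true := by decide +kernel

theorem rot2_154r : band (Rule.ok (2 * 5) EX RL ⟨2 :: [3, 5, 3, 2, 3, 5, 3, 2, 5, 2, 3, 1, 3, 2, 3, 5, 3, 2, 1, 3, 5, 1, 2, 5], [4, 2, 8, 2, 4, 8, 4, 2, 4, 8, 4, 2], 25, true⟩) (lall (memL L) [3, 5, 3, 2, 3, 5, 3, 2, 5, 2, 3, 1, 3, 2, 3, 5, 3, 2, 1, 3, 5, 1, 2, 5]) = true := by decide +kernel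

theorem rot2_155 : T.rot 2 [3, 5, 3, 2, 5, 2, 3, 1, 3, 2, 3, 5, 3, 2, 1, 3, 5, 1, 2, 5, 2, 3, 5, 3] (sel (ones 170775) ip2 155) = true := by decide +kernel

theorem rot2_155r : band (Rule.ok (2 * 5) EX RL ⟨2 :: [3, 5, 3, 2, 5, 2, 3, 1, 3, 2, 3, 5, 3, 2, 1, 3, 5, 1, 2, 5, 2, 3, 5, 3], [4, 2, 8, 2, 4, 8, 4, 2], 25, true⟩) (lall (memL L) [3, 5, 3, 2, 5, 2, 3, 1, 3, 2, 3, 5, 3, 2, 1, 3, 5, 1, 2, 5, 2, 3, 5, 3]) = true := by decide +kernel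

theorem rot2_156 : T.rot 2 [5, 2, 3, 1, 3, 2, 3, 5, 3, 2, 1, 3, 5, 1, 2, 5, 2, 3, 5, 3, 2, 3, 5, 3] (sel (ones 170775) ip2 156) = true := by decide +kernel

theorem rot2_156r : band (Rule.ok (2 * 5) EX RL ⟨2 :: [5, 2, 3, 1, 3, 2, 3, 5, 3, 2, 1, 3, 5, 1, 2, 5, 2, 3, 5, 3, 2, 3, 5, 3], [4, 2, 8, 2], 25, true⟩) (lall (memL L) [5, 2, 3, 1, 3, 2, 3, 5, 3, 2, 1, 3, 5, 1, 2, 5, 2, 3, 5, 3, 2, 3, 5, 3]) = true := by decide +kernel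

theorem rot2_157 : T.rot 2 [3, 1, 3, 2, 3, 5, 3, 2, 1, 3, 5, 1, 2, 5, 2, 3, 5, 3, 2, 3, 5, 3, 2, 5] (sel (ones 170775) ip2 157) = true := by decide +kernel

theorem rot2_157r : band (Rule.ok (2 * 5) EX RL ⟨2 :: [3, 1, 3, 2, 3, 5, 3, 2, 1, 3, 5, 1, 2, 5, 2, 3, 5, 3, 2, 3, 5, 3, 2, 5], [4, 2], 25, true⟩) (lall (memL L) [3, 1, 3, 2, 3, 5, 3, 2, 1, 3, 5, 1, 2, 5, 2, 3, 5, 3, 2, 3, 5, 3, 2, 5]) = true := by decide +kernel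

theorem rot2_158 : T.rot 2 [5, 2, 3, 5, 3, 2, 3, 5, 3, 2, 5, 2, 1, 5, 3, 1, 2, 3, 5, 3, 2, 3, 1, 3] (sel (ones 170775) ip2 158) = true := by decide +kernel

theorem rot2_158r : band (Rule.ok (2 * 5) EX RL ⟨2 :: [5, 2, 3, 5, 3, 2, 3, 5, 3, 2, 5, 2, 1, 5, 3, 1, 2, 3, 5, 3, 2, 3, 1, 3], [4], 25, false⟩) (lall (memL L) [5, 2, 3, 5, 3, 2, 3, 5, 3, 2, 5, 2, 1, 5, 3, 1, 2, 3, 5, 3, 2, 3, 1, 3]) = true := by decide +kernel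

theorem rot2_159 : T.rot 2 [3, 5, 3, 2, 3, 5, 3, 2, 5, 2, 1, 5, 3, 1, 2, 3, 5, 3, 2, 3, 1, 3, 2, 5] (sel (ones 170775) ip2 159) = true := by decide +kernel

theorem rot2_159r : band (Rule.ok (2 * 5) EX RL ⟨2 :: [3, 5, 3, 2, 3, 5, 3, 2, 5, 2, 1, 5, 3, 1, 2, 3, 5, 3, 2, 3, 1, 3, 2, 5], [4, 2, 8], 25, false⟩) (lall (memL L) [3, 5, 3, 2, 3, 5, 3, 2, 5, 2, 1, 5, 3, 1, 2, 3, 5, 3, 2, 3, 1, 3, 2, 5]) = true := by decide +kernel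

theorem rot2_160 : T.rot 2 [3, 5, 3, 2, 5, 2, 1, 5, 3, 1, 2, 3, 5, 3, 2, 3, 1, 3, 2, 5, 2, 3, 5, 3] (sel (ones 170775) ip2 160) = true := by decide +kernel

theorem rot2_160r : band (Rule.ok (2 * 5) EX RL ⟨2 :: [3, 5, 3, 2, 5, 2, 1, 5, 3, 1, 2, 3, 5, 3, 2, 3, 1, 3, 2, 5, 2, 3, 5, 3], [4, 2, 8, 2, 4, 8, 4], 25, false⟩) (lall (memL L) [3, 5, 3, 2, 5, 2, 1, 5, 3, 1, 2, 3, 5, 3, 2, 3, 1, 3, 2, 5, 2, 3, 5, 3]) = true := by decide +kernel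

theorem rot2_161 : T.rot 2 [5, 2, 1, 5, 3, 1, 2, 3, 5, 3, 2, 3, 1, 3, 2, 5, 2, 3, 5, 3, 2, 3, 5, 3] (sel (ones 170775) ip2 161) = true := by decide +kernel

theorem rot2_161r : band (Rule.ok (2 * 5) EX RL ⟨2 :: [5, 2, 1, 5, 3, 1, 2, 3, 5, 3, 2, 3, 1, 3, 2, 5, 2, 3, 5, 3, 2, 3, 5, 3], [4, 2, 8, 2, 4, 8, 4, 2, 4, 8, 4], 25, false⟩) (lall (memL L) [5, 2, 1, 5, 3, 1, 2, 3, 5, 3, 2, 3, 1, 3, 2, 5, 2, 3, 5, 3, 2, 3, 5, 3]) = true := by decide +kernel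

theorem rot2_162 : T.rot 2 [1, 5, 3, 1, 2, 3, 5, 3, 2, 3, 1, 3, 2, 5, 2, 3, 5, 3, 2, 3, 5, 3, 2, 5] (sel (ones 170775) ip2 162) = true := by decide +kernel

theorem rot2_162r : band (Rule.ok (2 * 5) EX RL ⟨2 :: [1, 5, 3, 1, 2, 3, 5, 3, 2, 3, 1, 3, 2, 5, 2, 3, 5, 3, 2, 3, 5, 3, 2, 5], [0, 4, 2, 4, 8, 4, 2, 0, 4, 8, 0, 2], 25, false⟩) (lall (memL L) [1, 5, 3, 1, 2, 3, 5, 3, 2, 3, 1, 3, 2, 5, 2, 3, 5, 3, 2, 3, 5, 3, 2, 5]) = true := by decide +kernel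

theorem rot2_163 : T.rot 2 [3, 5, 3, 2, 3, 1, 3, 2, 5, 2, 3, 5, 3, 2, 3, 5, 3, 2, 5, 2, 1, 5, 3, 1] (sel (ones 170775) ip2 163) = true := by decide +kernel

theorem rot2_163r : band (Rule.ok (2 * 5) EX RL ⟨2 :: [3, 5, 3, 2, 3, 1, 3, 2, 5, 2, 3, 5, 3, 2, 3, 5, 3, 2, 5, 2, 1, 5, 3, 1], [0, 4, 2, 4, 8, 4, 2], 25, false⟩) (lall (memL L) [3, 5, 3, 2, 3, 1, 3, 2, 5, 2, 3, 5, 3, 2, 3, 5, 3, 2, 5, 2, 1, 5, 3, 1]) = true := by decide +kernel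

theorem rot2_164 : T.rot 2 [3, 1, 3, 2, 5, 2, 3, 5, 3, 2, 3, 5, 3, 2, 5, 2, 1, 5, 3, 1, 2, 3, 5, 3] (sel (ones 170775) ip2 164) = true := by decide +kernel

theorem rot2_164r : band (Rule.ok (2 * 5) EX RL ⟨2 :: [3, 1, 3, 2, 5, 2, 3, 5, 3, 2, 3, 5, 3, 2, 5, 2, 1, 5, 3, 1, 2, 3, 5, 3], [0, 4, 2], 25, false⟩) (lall (memL L) [3, 1, 3, 2, 5, 2, 3, 5, 3, 2, 3, 5, 3, 2, 5, 2, 1, 5, 3, 1, 2, 3, 5, 3]) = true := by decide +kernel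

theorem rot2_165 : T.rot 2 [3, 5, 2, 5, 1, 3, 5, 1, 5, 2, 5, 3, 2, 3, 5, 3, 2, 5, 3, 5, 3, 2, 3, 5, 1, 3] (sel (ones 170775) ip2 165) = true := by decide +kernel

theorem rot2_165r : band (Rule.ok (2 * 5) EX RL ⟨2 :: [3, 5, 2, 5, 1, 3, 5, 1, 5, 2, 5, 3, 2, 3, 5, 3, 2, 5, 3, 5, 3, 2, 3, 5, 1, 3], [0, 4], 24, true⟩) (lall (memL L) [3, 5, 2, 5, 1, 3, 5, 1, 5, 2, 5, 3, 2, 3, 5, 3, 2, 5, 3, 5, 3, 2, 3, 5, 1, 3]) = true := by decide +kernel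

theorem rot2_166 : T.rot 2 [5, 1, 3, 5, 1, 5, 2, 5, 3, 2, 3, 5, 3, 2, 5, 3, 5, 3, 2, 3, 5, 1, 3, 2, 3, 5] (sel (ones 170775) ip2 166) = true := by decide +kernel

theorem rot2_166r : band (Rule.ok (2 * 5) EX RL ⟨2 :: [5, 1, 3, 5, 1, 5, 2, 5, 3, 2, 3, 5, 3, 2, 5, 3, 5, 3, 2, 3, 5, 1, 3, 2, 3, 5], [0, 4, 2, 4, 8], 24, true⟩) (lall (memL L) [5, 1, 3, 5, 1, 5, 2, 5, 3, 2, 3, 5, 3, 2, 5, 3, 5, 3, 2, 3, 5, 1, 3, 2, 3, 5]) = true := by decide +kernel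

theorem rot2_167 : T.rot 2 [5, 3, 2, 3, 5, 3, 2, 5, 3, 5, 3, 2, 3, 5, 1, 3, 2, 3, 5, 2, 5, 1, 3, 5, 1, 5] (sel (ones 170775) ip2 167) = true := by decide +kernel

theorem rot2_167r : band (Rule.ok (2 * 5) EX RL ⟨2 :: [5, 3, 2, 3, 5, 3, 2, 5, 3, 5, 3, 2, 3, 5, 1, 3, 2, 3, 5, 2, 5, 1, 3, 5, 1, 5], [0, 4, 2, 4, 8, 2, 8, 0, 4, 8, 0, 8], 24, true⟩) (lall (memL L) [5, 3, 2, 3, 5, 3, 2, 5, 3, 5, 3, 2, 3, 5, 1, 3, 2, 3, 5, 2, 5, 1, 3, 5, 1, 5]) = true := by decide +kernel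

theorem rot2_168 : T.rot 2 [3, 5, 3, 2, 5, 3, 5, 3, 2, 3, 5, 1, 3, 2, 3, 5, 2, 5, 1, 3, 5, 1, 5, 2, 5, 3] (sel (ones 170775) ip2 168) = true := by decide +kernel

theorem rot2_168r : band (Rule.ok (2 * 5) EX RL ⟨2 :: [3, 5, 3, 2, 5, 3, 5, 3, 2, 3, 5, 1, 3, 2, 3, 5, 2, 5, 1, 3, 5, 1, 5, 2, 5, 3], [8, 4, 2, 4, 8, 4, 8, 2, 4, 8, 4, 2], 24, true⟩) (lall (memL L) [3, 5, 3, 2, 5, 3, 5, 3, 2, 3, 5, 1, 3, 2, 3, 5, 2, 5, 1, 3, 5, 1, 5, 2, 5, 3]) = true := by decide +kernel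

theorem rot2_169 : T.rot 2 [5, 3, 5, 3, 2, 3, 5, 1, 3, 2, 3, 5, 2, 5, 1, 3, 5, 1, 5, 2, 5, 3, 2, 3, 5, 3] (sel (ones 170775) ip2 169) = true := by decide +kernel

theorem rot2_169r : band (Rule.ok (2 * 5) EX RL ⟨2 :: [5, 3, 5, 3, 2, 3, 5, 1, 3, 2, 3, 5, 2, 5, 1, 3, 5, 1, 5, 2, 5, 3, 2, 3, 5, 3], [8, 4, 2, 4, 8, 4, 8, 2], 24, true⟩) (lall (memL L) [5, 3, 5, 3, 2, 3, 5, 1, 3, 2, 3, 5, 2, 5, 1, 3, 5, 1, 5, 2, 5, 3, 2, 3, 5, 3]) = true := by decide +kernel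

theorem rot2_170 : T.rot 2 [3, 5, 1, 3, 2, 3, 5, 2, 5, 1, 3, 5, 1, 5, 2, 5, 3, 2, 3, 5, 3, 2, 5, 3, 5, 3] (sel (ones 170775) ip2 170) = true := by decide +kernel

theorem rot2_170r : band (Rule.ok (2 * 5) EX RL ⟨2 :: [3, 5, 1, 3, 2, 3, 5, 2, 5, 1, 3, 5, 1, 5, 2, 5, 3, 2, 3, 5, 3, 2, 5, 3, 5, 3], [8, 4, 2], 24, true⟩) (lall (memL L) [3, 5, 1, 3, 2, 3, 5, 2, 5, 1, 3, 5, 1, 5, 2, 5, 3, 2, 3, 5, 3, 2, 5, 3, 5, 3]) = true := by decide +kernel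

theorem rot2_171 : T.rot 2 [3, 5, 3, 5, 2, 3, 5, 3, 2, 3, 5, 2, 5, 1, 5, 3, 1, 5, 2, 5, 3, 2, 3, 1, 5, 3] (sel (ones 170775) ip2 171) = true := by decide +kernel

theorem rot2_171r : band (Rule.ok (2 * 5) EX RL ⟨2 :: [3, 5, 3, 5, 2, 3, 5, 3, 2, 3, 5, 2, 5, 1, 5, 3, 1, 5, 2, 5, 3, 2, 3, 1, 5, 3], [8, 4], 24, false⟩) (lall (memL L) [3, 5, 3, 5, 2, 3, 5, 3, 2, 3, 5, 2, 5, 1, 5, 3, 1, 5, 2, 5, 3, 2, 3, 1, 5, 3]) = true := by decide +kernel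

theorem rot2_172 : T.rot 2 [3, 5, 3, 2, 3, 5, 2, 5, 1, 5, 3, 1, 5, 2, 5, 3, 2, 3, 1, 5, 3, 2, 3, 5, 3, 5] (sel (ones 170775) ip2 172) = true := by decide +kernel

theorem rot2_172r : band (Rule.ok (2 * 5) EX RL ⟨2 :: [3, 5, 3, 2, 3, 5, 2, 5, 1, 5, 3, 1, 5, 2, 5, 3, 2, 3, 1, 5, 3, 2, 3, 5, 3, 5], [8, 4, 2, 4, 8, 4, 8], 24, false⟩) (lall (memL L) [3, 5, 3, 2, 3, 5, 2, 5, 1, 5, 3, 1, 5, 2, 5, 3, 2, 3, 1, 5, 3, 2, 3, 5, 3, 5]) = true := by decide +kernel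

theorem rot2_173 : T.rot 2 [3, 5, 2, 5, 1, 5, 3, 1, 5, 2, 5, 3, 2, 3, 1, 5, 3, 2, 3, 5, 3, 5, 2, 3, 5, 3] (sel (ones 170775) ip2 173) = true := by decide +kernel

theorem rot2_173r : band (Rule.ok (2 * 5) EX RL ⟨2 :: [3, 5, 2, 5, 1, 5, 3, 1, 5, 2, 5, 3, 2, 3, 1, 5, 3, 2, 3, 5, 3, 5, 2, 3, 5, 3], [8, 4, 2, 4, 8, 4, 8, 2, 4, 8, 4], 24, false⟩) (lall (memL L) [3, 5, 2, 5, 1, 5, 3, 1, 5, 2, 5, 3, 2, 3, 1, 5, 3, 2, 3, 5, 3, 5, 2, 3, 5, 3]) = true := by decide +kernel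

theorem rot2_174 : T.rot 2 [5, 1, 5, 3, 1, 5, 2, 5, 3, 2, 3, 1, 5, 3, 2, 3, 5, 3, 5, 2, 3, 5, 3, 2, 3, 5] (sel (ones 170775) ip2 174) = true := by decide +kernel

theorem rot2_174r : band (Rule.ok (2 * 5) EX RL ⟨2 :: [5, 1, 5, 3, 1, 5, 2, 5, 3, 2, 3, 1, 5, 3, 2, 3, 5, 3, 5, 2, 3, 5, 3, 2, 3, 5], [0, 4, 2, 4, 8, 2, 8, 0, 4, 8, 0, 8, 2], 24, false⟩) (lall (memL L) [5, 1, 5, 3, 1, 5, 2, 5, 3, 2, 3, 1, 5, 3, 2, 3, 5, 3, 5, 2, 3, 5, 3, 2, 3, 5]) = true := by decide +kernel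

theorem rot2_175 : T.rot 2 [5, 3, 2, 3, 1, 5, 3, 2, 3, 5, 3, 5, 2, 3, 5, 3, 2, 3, 5, 2, 5, 1, 5, 3, 1, 5] (sel (ones 170775) ip2 175) = true := by decide +kernel

theorem rot2_175r : band (Rule.ok (2 * 5) EX RL ⟨2 :: [5, 3, 2, 3, 1, 5, 3, 2, 3, 5, 3, 5, 2, 3, 5, 3, 2, 3, 5, 2, 5, 1, 5, 3, 1, 5], [0, 4, 2, 4, 8, 2], 24, false⟩) (lall (memL L) [5, 3, 2, 3, 1, 5, 3, 2, 3, 5, 3, 5, 2, 3, 5, 3, 2, 3, 5, 2, 5, 1, 5, 3, 1, 5]) = true := by decide +kernel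

theorem rot2_176 : T.rot 2 [3, 1, 5, 3, 2, 3, 5, 3, 5, 2, 3, 5, 3, 2, 3, 5, 2, 5, 1, 5, 3, 1, 5, 2, 5, 3] (sel (ones 170775) ip2 176) = true := by decide +kernel

theorem rot2_176r : band (Rule.ok (2 * 5) EX RL ⟨2 :: [3, 1, 5, 3, 2, 3, 5, 3, 5, 2, 3, 5, 3, 2, 3, 5, 2, 5, 1, 5, 3, 1, 5, 2, 5, 3], [0, 4, 2], 24, false⟩) (lall (memL L) [3, 1, 5, 3, 2, 3, 5, 3, 5, 2, 3, 5, 3, 2, 3, 5, 2, 5, 1, 5, 3, 1, 5, 2, 5, 3]) = true := by decide +kernel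

theorem cov2 : T.cover 2 [(sel (ones 170775) ip2 1), (sel (ones 170775) ip2 2), (sel (ones 170775) ip2 3), (sel (ones 170775) ip2 4), (sel (ones 170775) ip2 5), (sel (ones 170775) ip2 6), (sel (ones 170775) ip2 7), (sel (ones 170775) ip2 8), (sel (ones 170775) ip2 9), (sel (ones 170775) ip2 10), (sel (ones 170775) ip2 11), (sel (ones 170775) ip2 12), (sel (ones 170775) ip2 13), (sel (ones 170775) ip2 14), (sel (ones 170775) ip2 15), (sel (ones 170775) ip2 16), (sel (ones 170775) ip2 17), (sel (ones 170775) ip2 18), (sel (ones 170775) ip2 19), (sel (ones 170775) ip2 20), (sel (ones 170775) ip2 21), (sel (ones 170775) ip2 22), (sel (ones 170775) ip2 23), (sel (ones 170775) ip2 24), (sel (ones 170775) ip2 25), (sel (ones 170775) ip2 26), (sel (ones 170775) ip2 27), (sel (ones 170775) ip2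 28), (sel (ones 170775) ip2 29), (sel (ones 170775) ip2 30), (sel (ones 170775) ip2 31), (sel (ones 170775) ip2 32), (sel (ones 170775) ip2 33), (sel (ones 170775) ip2 34), (sel (ones 170775) ip2 35), (sel (ones 170775) ip2 36), (sel (ones 170775) ip2 37), (sel (ones 170775) ip2 38), (sel (ones 170775) ip2 39), (sel (ones 170775) ip2 40), (sel (ones 170775) ip2 41), (sel (ones 170775) ip2 42), (sel (ones 170775) ip2 43), (sel (ones 170775) ip2 44), (sel (ones 170775) ip2 45), (sel (ones 170775) ip2 46), (sel (ones 170775) ip2 47), (sel (ones 170775) ip2 48), (sel (ones 170775) ip2 49), (sel (ones 170775) ip2 50), (sel (ones 170775) ip2 51), (sel (ones 170775) ip2 52), (sel (ones 170775) ip2 53), (sel (ones 170775) ip2 54), (sel (ones 170775) ip2 55), (sel (ones 170775) ip2 56), (sel (ones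 170775) ip2 57), (sel (ones 170775) ip2 58), (sel (ones 170775) ip2 59), (sel (ones 170775) ip2 60), (sel (ones 170775) ip2 61), (sel (ones 170775) ip2 62), (sel (ones 170775) ip2 63), (sel (ones 170775) ip2 64), (sel (ones 170775) ip2 65), (sel (ones 170775) ip2 66), (sel (ones 170775) ip2 67), (sel (ones 170775) ip2 68), (sel (ones 170775) ip2 69), (sel (ones 170775) ip2 70), (sel (ones 170775) ip2 71), (sel (ones 170775) ip2 72), (sel (ones 170775) ip2 73), (sel (ones 170775) ip2 74), (sel (ones 170775) ip2 75), (sel (ones 170775) ip2 76), (sel (ones 170775) ip2 77), (sel (ones 170775) ip2 78), (sel (ones 170775) ip2 79), (sel (ones 170775) ip2 80), (sel (ones 170775) ip2 81), (sel (ones 170775) ip2 82), (sel (ones 170775) ip2 83), (sel (ones 170775) ip2 84), (sel (ones 170775) ip2 85),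 (sel (ones 170775) ip2 86), (sel (ones 170775) ip2 87), (sel (ones 170775) ip2 88), (sel (ones 170775) ip2 89), (sel (ones 170775) ip2 90), (sel (ones 170775) ip2 91), (sel (ones 170775) ip2 92), (sel (ones 170775) ip2 93), (sel (ones 170775) ip2 94), (sel (ones 170775) ip2 95), (sel (ones 170775) ip2 96), (sel (ones 170775) ip2 97), (sel (ones 170775) ip2 98), (sel (ones 170775) ip2 99), (sel (ones 170775) ip2 100), (sel (ones 170775) ip2 101), (sel (ones 170775) ip2 102), (sel (ones 170775) ip2 103), (sel (ones 170775) ip2 104), (sel (ones 170775) ip2 105), (sel (ones 170775) ip2 106), (sel (ones 170775) ip2 107), (sel (ones 170775) ip2 108), (sel (ones 170775) ip2 109), (sel (ones 170775) ip2 110), (sel (ones 170775) ip2 111), (sel (ones 170775) ip2 112), (sel (ones 170775) ip2 113),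 (sel (ones 170775) ip2 114), (sel (ones 170775) ip2 115), (sel (ones 170775) ip2 116), (sel (ones 170775) ip2 117), (sel (ones 170775) ip2 118), (sel (ones 170775) ip2 119), (sel (ones 170775) ip2 120), (sel (ones 170775) ip2 121), (sel (ones 170775) ip2 122), (sel (ones 170775) ip2 123), (sel (ones 170775) ip2 124), (sel (ones 170775) ip2 125), (sel (ones 170775) ip2 126), (sel (ones 170775) ip2 127), (sel (ones 170775) ip2 128), (sel (ones 170775) ip2 129), (sel (ones 170775) ip2 130), (sel (ones 170775) ip2 131), (sel (ones 170775) ip2 132), (sel (ones 170775) ip2 133), (sel (ones 170775) ip2 134), (sel (ones 170775) ip2 135), (sel (ones 170775) ip2 136), (sel (ones 170775) ip2 137), (sel (ones 170775) ip2 138), (sel (ones 170775) ip2 139), (sel (ones 170775) ip2 140), (sel (ones 170775)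 ip2 141), (sel (ones 170775) ip2 142), (sel (ones 170775) ip2 143), (sel (ones 170775) ip2 144), (sel (ones 170775) ip2 145), (sel (ones 170775) ip2 146), (sel (ones 170775) ip2 147), (sel (ones 170775) ip2 148), (sel (ones 170775) ip2 149), (sel (ones 170775) ip2 150), (sel (ones 170775) ip2 151), (sel (ones 170775) ip2 152), (sel (ones 170775) ip2 153), (sel (ones 170775) ip2 154), (sel (ones 170775) ip2 155), (sel (ones 170775) ip2 156), (sel (ones 170775) ip2 157), (sel (ones 170775) ip2 158), (sel (ones 170775) ip2 159), (sel (ones 170775) ip2 160), (sel (ones 170775) ip2 161), (sel (ones 170775) ip2 162), (sel (ones 170775) ip2 163), (sel (ones 170775) ip2 164), (sel (ones 170775) ip2 165), (sel (ones 170775) ip2 166), (sel (ones 170775) ip2 167), (sel (ones 170775) ip2 168), (sel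 (ones 170775) ip2 169), (sel (ones 170775) ip2 170), (sel (ones 170775) ip2 171), (sel (ones 170775) ip2 172), (sel (ones 170775) ip2 173), (sel (ones 170775) ip2 174), (sel (ones 170775) ip2 175), (sel (ones 170775) ip2 176), 1] = true := by decide +kernel

theorem tl2 : T.treeLt 18 2 = true := by decide +kernel

theorem rot3_1 : T.rot 3 [3] (sel (ones 170775) ip3 1) = true := by decide +kernel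

theorem rot3_1r : band (Rule.ok (2 * 5) EX RL ⟨3 :: [3], [], 28, false⟩) (lall (memL L) [3]) = true := by decide +kernel

theorem rot3_2 : T.rot 3 [5, 3, 4, 5, 4, 5] (sel (ones 170775) ip3 2) = true := by decide +kernel

theorem rot3_2r : band (Rule.ok (2 * 5) EX RL ⟨3 :: [5, 3, 4, 5, 4, 5], [6, 8], 11, true⟩) (lall (memL L) [5, 3, 4, 5, 4, 5]) = true := by decide +kernel

theorem rot3_3 : T.rot 3 [4, 5, 4, 5, 3, 5] (sel (ones 170775) ip3 3) = true := by decide +kernel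

theorem rot3_3r : band (Rule.ok (2 * 5) EX RL ⟨3 :: [4, 5, 4, 5, 3, 5], [8, 6, 4], 11, true⟩) (lall (memL L) [4, 5, 4, 5, 3, 5]) = true := by decide +kernel

theorem rot3_4 : T.rot 3 [5, 3, 5, 4, 5, 4] (sel (ones 170775) ip3 4) = true := by decide +kernel

theorem rot3_4r : band (Rule.ok (2 * 5) EX RL ⟨3 :: [5, 3, 5, 4, 5, 4], [8, 6], 11, false⟩) (lall (memL L) [5, 3, 5, 4, 5, 4]) = true := by decide +kernel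

theorem rot3_5 : T.rot 3 [5, 4, 5, 4, 3, 5] (sel (ones 170775) ip3 5) = true := by decide +kernel

theorem rot3_5r : band (Rule.ok (2 * 5) EX RL ⟨3 :: [5, 4, 5, 4, 3, 5], [6, 8, 4], 11, false⟩) (lall (memL L) [5, 4, 5, 4, 3, 5]) = true := by decide +kernel

theorem rot3_6 : T.rot 3 [2, 3, 2, 3, 2, 3, 2] (sel (ones 170775) ip3 6) = true := by decide +kernel

theorem rot3_6r : band (Rule.ok (2 * 5) EX RL ⟨3 :: [2, 3, 2, 3, 2, 3, 2], [], 0, true⟩) (lall (memL L) [2, 3, 2, 3, 2, 3, 2]) = true := by decide +kernel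

theorem rot3_7 : T.rot 3 [5, 3, 5, 3, 5, 3, 5] (sel (ones 170775) ip3 7) = true := by decide +kernel

theorem rot3_7r : band (Rule.ok (2 * 5) EX RL ⟨3 :: [5, 3, 5, 3, 5, 3, 5], [], 2, false⟩) (lall (memL L) [5, 3, 5, 3, 5, 3, 5]) = true := by decide +kernel

theorem rot3_8 : T.rot 3 [4, 3, 4, 3, 4, 3, 4, 3, 4, 3, 4] (sel (ones 170775) ip3 8) = true := by decide +kernel

theorem rot3_8r : band (Rule.ok (2 * 5) EX RL ⟨3 :: [4, 3, 4, 3, 4, 3, 4, 3, 4, 3, 4], [], 10, false⟩) (lall (memL L) [4, 3, 4, 3, 4, 3, 4, 3, 4, 3, 4]) = true := by decide +kernel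

theorem rot3_9 : T.rot 3 [1, 3, 1, 3, 1, 3, 1, 3, 1, 3, 1] (sel (ones 170775) ip3 9) = true := by decide +kernel

theorem rot3_9r : band (Rule.ok (2 * 5) EX RL ⟨3 :: [1, 3, 1, 3, 1, 3, 1, 3, 1, 3, 1], [], 22, true⟩) (lall (memL L) [1, 3, 1, 3, 1, 3, 1, 3, 1, 3, 1]) = true := by decide +kernel

theorem rot3_10 : T.rot 3 [2, 3, 5, 2, 3, 2, 3, 5, 3, 2, 3, 2, 5, 2] (sel (ones 170775) ip3 10) = true := by decide +kernel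

theorem rot3_10r : band (Rule.ok (2 * 5) EX RL ⟨3 :: [2, 3, 5, 2, 3, 2, 3, 5, 3, 2, 3, 2, 5, 2], [2], 3, true⟩) (lall (memL L) [2, 3, 5, 2, 3, 2, 3, 5, 3, 2, 3, 2, 5, 2]) = true := by decide +kernel

theorem rot3_11 : T.rot 3 [5, 2, 3, 2, 3, 5, 3, 2, 3, 2, 5, 2, 3, 2] (sel (ones 170775) ip3 11) = true := by decide +kernel

theorem rot3_11r : band (Rule.ok (2 * 5) EX RL ⟨3 :: [5, 2, 3, 2, 3, 5, 3, 2, 3, 2, 5, 2, 3, 2], [2, 4, 2], 3, true⟩) (lall (memL L) [5, 2, 3, 2, 3, 5, 3, 2, 3, 2, 5, 2, 3, 2]) = true := by decide +kernel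

theorem rot3_12 : T.rot 3 [2, 3, 5, 3, 2, 3, 2, 5, 2, 3, 2, 3, 5, 2] (sel (ones 170775) ip3 12) = true := by decide +kernel

theorem rot3_12r : band (Rule.ok (2 * 5) EX RL ⟨3 :: [2, 3, 5, 3, 2, 3, 2, 5, 2, 3, 2, 3, 5, 2], [2, 4, 2, 4, 8, 2], 3, true⟩) (lall (memL L) [2, 3, 5, 3, 2, 3, 2, 5, 2, 3, 2, 3, 5, 2]) = true := by decide +kernel

theorem rot3_13 : T.rot 3 [5, 3, 2, 3, 2, 5, 2, 3, 2, 3, 5, 2, 3, 2] (sel (ones 170775) ip3 13) = true := by decide +kernel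

theorem rot3_13r : band (Rule.ok (2 * 5) EX RL ⟨3 :: [5, 3, 2, 3, 2, 5, 2, 3, 2, 3, 5, 2, 3, 2], [8, 2, 4, 2, 4, 8, 4], 3, true⟩) (lall (memL L) [5, 3, 2, 3, 2, 5, 2, 3, 2, 3, 5, 2, 3, 2]) = true := by decide +kernel

theorem rot3_14 : T.rot 3 [2, 3, 2, 5, 2, 3, 2, 3, 5, 2, 3, 2, 3, 5] (sel (ones 170775) ip3 14) = true := by decide +kernel

theorem rot3_14r : band (Rule.ok (2 * 5) EX RL ⟨3 :: [2, 3, 2, 5, 2, 3, 2, 3, 5, 2, 3, 2, 3, 5], [8, 2, 4, 2, 4], 3, true⟩) (lall (memL L) [2, 3, 2, 5, 2, 3, 2, 3, 5, 2, 3, 2, 3, 5]) = true := by decide +kernel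

theorem rot3_15 : T.rot 3 [2, 5, 2, 3, 2, 3, 5, 2, 3, 2, 3, 5, 3, 2] (sel (ones 170775) ip3 15) = true := by decide +kernel

theorem rot3_15r : band (Rule.ok (2 * 5) EX RL ⟨3 :: [2, 5, 2, 3, 2, 3, 5, 2, 3, 2, 3, 5, 3, 2], [8, 2, 4], 3, true⟩) (lall (memL L) [2, 5, 2, 3, 2, 3, 5, 2, 3, 2, 3, 5, 3, 2]) = true := by decide +kernel

theorem rot3_16 : T.rot 3 [2, 3, 5, 3, 2, 3, 2, 5, 3, 2, 3, 2, 5, 2] (sel (ones 170775) ip3 16) = true := by decide +kernel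

theorem rot3_16r : band (Rule.ok (2 * 5) EX RL ⟨3 :: [2, 3, 5, 3, 2, 3, 2, 5, 3, 2, 3, 2, 5, 2], [8, 2], 3, false⟩) (lall (memL L) [2, 3, 5, 3, 2, 3, 2, 5, 3, 2, 3, 2, 5, 2]) = true := by decide +kernel

theorem rot3_17 : T.rot 3 [5, 3, 2, 3, 2, 5, 3, 2, 3, 2, 5, 2, 3, 2] (sel (ones 170775) ip3 17) = true := by decide +kernel

theorem rot3_17r : band (Rule.ok (2 * 5) EX RL ⟨3 :: [5, 3, 2, 3, 2, 5, 3, 2, 3, 2, 5, 2, 3, 2], [8, 2, 4, 2], 3, false⟩) (lall (memL L) [5, 3, 2, 3, 2, 5, 3, 2, 3, 2, 5, 2, 3, 2]) = true := by decide +kernel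

theorem rot3_18 : T.rot 3 [2, 3, 2, 5, 3, 2, 3, 2, 5, 2, 3, 2, 3, 5] (sel (ones 170775) ip3 18) = true := by decide +kernel

theorem rot3_18r : band (Rule.ok (2 * 5) EX RL ⟨3 :: [2, 3, 2, 5, 3, 2, 3, 2, 5, 2, 3, 2, 3, 5], [8, 2, 4, 2, 4, 8], 3, false⟩) (lall (memL L) [2, 3, 2, 5, 3, 2, 3, 2, 5, 2, 3, 2, 3, 5]) = true := by decide +kernel

theorem rot3_19 : T.rot 3 [2, 5, 3, 2, 3, 2, 5, 2, 3, 2, 3, 5, 3, 2] (sel (ones 170775) ip3 19) = true := by decide +kernel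

theorem rot3_19r : band (Rule.ok (2 * 5) EX RL ⟨3 :: [2, 5, 3, 2, 3, 2, 5, 2, 3, 2, 3, 5, 3, 2], [2, 4, 2, 4, 8, 2, 4], 3, false⟩) (lall (memL L) [2, 5, 3, 2, 3, 2, 5, 2, 3, 2, 3, 5, 3, 2]) = true := by decide +kernel

theorem rot3_20 : T.rot 3 [2, 3, 2, 5, 2, 3, 2, 3, 5, 3, 2, 3, 2, 5] (sel (ones 170775) ip3 20) = true := by decide +kernel

theorem rot3_20r : band (Rule.ok (2 * 5) EX RL ⟨3 :: [2, 3, 2, 5, 2, 3, 2, 3, 5, 3, 2, 3, 2, 5], [2, 4, 2, 4], 3, false⟩) (lall (memL L) [2, 3, 2, 5, 2, 3, 2, 3, 5, 3, 2, 3, 2, 5]) = true := by decide +kernel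

theorem rot3_21 : T.rot 3 [2, 5, 2, 3, 2, 3, 5, 3, 2, 3, 2, 5, 3, 2] (sel (ones 170775) ip3 21) = true := by decide +kernel

theorem rot3_21r : band (Rule.ok (2 * 5) EX RL ⟨3 :: [2, 5, 2, 3, 2, 3, 5, 3, 2, 3, 2, 5, 3, 2], [2, 4], 3, false⟩) (lall (memL L) [2, 5, 2, 3, 2, 3, 5, 3, 2, 3, 2, 5, 3, 2]) = true := by decide +kernel

theorem rot3_22 : T.rot 3 [2, 5, 2, 5, 2, 3, 1, 3, 2, 5, 2, 5, 2, 3, 1] (sel (ones 170775) ip3 22) = true := by decide +kernel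

theorem rot3_22r : band (Rule.ok (2 * 5) EX RL ⟨3 :: [2, 5, 2, 5, 2, 3, 1, 3, 2, 5, 2, 5, 2, 3, 1], [], 26, false⟩) (lall (memL L) [2, 5, 2, 5, 2, 3, 1, 3, 2, 5, 2, 5, 2, 3, 1]) = true := by decide +kernel

theorem rot3_23 : T.rot 3 [1, 3, 2, 5, 2, 5, 2, 3, 1, 3, 2, 5, 2, 5, 2] (sel (ones 170775) ip3 23) = true := by decide +kernel

theorem rot3_23r : band (Rule.ok (2 * 5) EX RL ⟨3 :: [1, 3, 2, 5, 2, 5, 2, 3, 1, 3, 2, 5, 2, 5, 2], [4], 26, true⟩) (lall (memL L) [1, 3, 2, 5, 2, 5, 2, 3, 1, 3, 2, 5, 2, 5, 2]) = true := by decide +kernel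

theorem rot3_24 : T.rot 3 [5, 3, 1, 3, 5, 2, 3, 5, 2, 3, 2, 5, 3, 2, 5, 3, 1] (sel (ones 170775) ip3 24) = true := by decide +kernel

theorem rot3_24r : band (Rule.ok (2 * 5) EX RL ⟨3 :: [5, 3, 1, 3, 5, 2, 3, 5, 2, 3, 2, 5, 3, 2, 5, 3, 1], [0], 23, true⟩) (lall (memL L) [5, 3, 1, 3, 5, 2, 3, 5, 2, 3, 2, 5, 3, 2, 5, 3, 1]) = true := by decide +kernel

theorem rot3_25 : T.rot 3 [1, 3, 5, 2, 3, 5, 2, 3, 2, 5, 3, 2, 5, 3, 1, 3, 5] (sel (ones 170775) ip3 25) = true := by decide +kernel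

theorem rot3_25r : band (Rule.ok (2 * 5) EX RL ⟨3 :: [1, 3, 5, 2, 3, 5, 2, 3, 2, 5, 3, 2, 5, 3, 1, 3, 5], [0, 4], 23, false⟩) (lall (memL L) [1, 3, 5, 2, 3, 5, 2, 3, 2, 5, 3, 2, 5, 3, 1, 3, 5]) = true := by decide +kernel

theorem rot3_26 : T.rot 3 [5, 2, 3, 5, 2, 3, 2, 5, 3, 2, 5, 3, 1, 3, 5, 3, 1] (sel (ones 170775) ip3 26) = true := by decide +kernel

theorem rot3_26r : band (Rule.ok (2 * 5) EX RL ⟨3 :: [5, 2, 3, 5, 2, 3, 2, 5, 3, 2, 5, 3, 1, 3, 5, 3, 1], [], 23, false⟩) (lall (memL L) [5, 2, 3, 5, 2, 3, 2, 5, 3, 2, 5, 3, 1, 3, 5, 3, 1]) = true := by decide +kernel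

end Cfsg.Agent.Spor.C3M
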