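import Cfsg.Agent.Spor.C3M.T

set_option autoImplicit false
set_option maxRecDepth 100000000
set_option Elab.async false

namespace Cfsg.Agent.Spor.C3M

theorem rot3_27 : T.rot 3 [5, 2, 3, 2, 5, 3, 2, 5, 3, 1, 3, 5, 3, 1, 3, 5, 2] (sel (ones 170775) ip3 27) = true := by decide +kernel

theorem rot3_27r : band (Rule.ok (2 * 5) EX RL ⟨3 :: [5, 2, 3, 2, 5, 3, 2, 5, 3, 1, 3, 5, 3, 1, 3, 5, 2], [4, 8, 2], 23, false⟩) (lall (memL L) [5, 2, 3, 2, 5, 3, 2, 5, 3, 1, 3, 5, 3, 1, 3, 5, 2]) = true := by decide +kernel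

theorem rot3_28 : T.rot 3 [2, 5, 3, 2, 5, 3, 1, 3, 5, 3, 1, 3, 5, 2, 3, 5, 2] (sel (ones 170775) ip3 28) = true := by decide +kernel

theorem rot3_28r : band (Rule.ok (2 * 5) EX RL ⟨3 :: [2, 5, 3, 2, 5, 3, 1, 3, 5, 3, 1, 3, 5, 2, 3, 5, 2], [4, 8, 2, 4, 8, 2], 23, false⟩) (lall (memL L) [2, 5, 3, 2, 5, 3, 1, 3, 5, 3, 1, 3, 5, 2, 3, 5, 2]) = true := by decide +kernel

theorem rot3_29 : T.rot 3 [2, 5, 3, 1, 3, 5, 3, 1, 3, 5, 2, 3, 5, 2, 3, 2, 5] (sel (ones 170775) ip3 29) = true := by decide +kernel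

theorem rot3_29r : band (Rule.ok (2 * 5) EX RL ⟨3 :: [2, 5, 3, 1, 3, 5, 3, 1, 3, 5, 2, 3, 5, 2, 3, 2, 5], [4, 8, 2, 4], 23, true⟩) (lall (memL L) [2, 5, 3, 1, 3, 5, 3, 1, 3, 5, 2, 3, 5, 2, 3, 2, 5]) = true := by decide +kernel

theorem rot3_30 : T.rot 3 [1, 3, 5, 3, 1, 3, 5, 2, 3, 5, 2, 3, 2, 5, 3, 2, 5] (sel (ones 170775) ip3 30) = true := by decide +kernel

theorem rot3_30r : band (Rule.ok (2 * 5) EX RL ⟨3 :: [1, 3, 5, 3, 1, 3, 5, 2, 3, 5, 2, 3, 2, 5, 3, 2, 5], [4], 23, true⟩) (lall (memL L) [1, 3, 5, 3, 1, 3, 5, 2, 3, 5, 2, 3, 2, 5, 3, 2, 5]) = true := by decide +kernel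

theorem rot3_31 : T.rot 3 [5, 2, 3, 2, 5, 2, 3, 5, 2, 5, 3, 2, 3, 4, 2, 4, 2, 4] (sel (ones 170775) ip3 31) = true := by decide +kernel

theorem rot3_31r : band (Rule.ok (2 * 5) EX RL ⟨3 :: [5, 2, 3, 2, 5, 2, 3, 5, 2, 5, 3, 2, 3, 4, 2, 4, 2, 4], [6, 2, 6, 2, 6], 12, true⟩) (lall (memL L) [5, 2, 3, 2, 5, 2, 3, 5, 2, 5, 3, 2, 3, 4, 2, 4, 2, 4]) = true := by decide +kernel

theorem rot3_32 : T.rot 3 [2, 5, 2, 3, 5, 2, 5, 3, 2, 3, 4, 2, 4, 2, 4, 3, 5, 2] (sel (ones 170775) ip3 32) = true := by decide +kernel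

theorem rot3_32r : band (Rule.ok (2 * 5) EX RL ⟨3 :: [2, 5, 2, 3, 5, 2, 5, 3, 2, 3, 4, 2, 4, 2, 4, 3, 5, 2], [6, 2, 6, 2, 6, 4, 8, 2], 12, true⟩) (lall (memL L) [2, 5, 2, 3, 5, 2, 5, 3, 2, 3, 4, 2, 4, 2, 4, 3, 5, 2]) = true := by decide +kernel

theorem rot3_33 : T.rot 3 [5, 2, 5, 3, 2, 3, 4, 2, 4, 2, 4, 3, 5, 2, 3, 2, 5, 2] (sel (ones 170775) ip3 33) = true := by decide +kernel

theorem rot3_33r : band (Rule.ok (2 * 5) EX RL ⟨3 :: [5, 2, 5, 3, 2, 3, 4, 2, 4, 2, 4, 3, 5, 2, 3, 2, 5, 2], [4, 2, 4, 8, 2, 8, 4], 12, true⟩) (lall (memL L) [5, 2, 5, 3, 2, 3, 4, 2, 4, 2, 4, 3, 5, 2, 3, 2, 5, 2]) = true := by decide +kernel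

theorem rot3_34 : T.rot 3 [2, 3, 4, 2, 4, 2, 4, 3, 5, 2, 3, 2, 5, 2, 3, 5, 2, 5] (sel (ones 170775) ip3 34) = true := by decide +kernel

theorem rot3_34r : band (Rule.ok (2 * 5) EX RL ⟨3 :: [2, 3, 4, 2, 4, 2, 4, 3, 5, 2, 3, 2, 5, 2, 3, 5, 2, 5], [4, 2, 4], 12, true⟩) (lall (memL L) [2, 3, 4, 2, 4, 2, 4, 3, 5, 2, 3, 2, 5, 2, 3, 5, 2, 5]) = true := by decide +kernel

theorem rot3_35 : T.rot 3 [4, 2, 4, 2, 4, 3, 5, 2, 3, 2, 5, 2, 3, 5, 2, 5, 3, 2] (sel (ones 170775) ip3 35) = true := by decide +kernel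

theorem rot3_35r : band (Rule.ok (2 * 5) EX RL ⟨3 :: [4, 2, 4, 2, 4, 3, 5, 2, 3, 2, 5, 2, 3, 5, 2, 5, 3, 2], [4], 12, true⟩) (lall (memL L) [4, 2, 4, 2, 4, 3, 5, 2, 3, 2, 5, 2, 3, 5, 2, 5, 3, 2]) = true := by decide +kernel

theorem rot3_36 : T.rot 3 [2, 3, 5, 2, 5, 3, 2, 5, 2, 3, 2, 5, 3, 4, 2, 4, 2, 4] (sel (ones 170775) ip3 36) = true := by decide +kernel

theorem rot3_36r : band (Rule.ok (2 * 5) EX RL ⟨3 :: [2, 3, 5, 2, 5, 3, 2, 5, 2, 3, 2, 5, 3, 4, 2, 4, 2, 4], [], 12, false⟩) (lall (memL L) [2, 3, 5, 2, 5, 3, 2, 5, 2, 3, 2, 5, 3, 4, 2, 4, 2, 4]) = true := by decide +kernel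

theorem rot3_37 : T.rot 3 [5, 2, 5, 3, 2, 5, 2, 3, 2, 5, 3, 4, 2, 4, 2, 4, 3, 2] (sel (ones 170775) ip3 37) = true := by decide +kernel

theorem rot3_37r : band (Rule.ok (2 * 5) EX RL ⟨3 :: [5, 2, 5, 3, 2, 5, 2, 3, 2, 5, 3, 4, 2, 4, 2, 4, 3, 2], [4, 2], 12, false⟩) (lall (memL L) [5, 2, 5, 3, 2, 5, 2, 3, 2, 5, 3, 4, 2, 4, 2, 4, 3, 2]) = true := by decide +kernel

theorem rot3_38 : T.rot 3 [2, 5, 2, 3, 2, 5, 3, 4, 2, 4, 2, 4, 3, 2, 3, 5, 2, 5] (sel (ones 170775) ip3 38) = true := by decide +kernel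

theorem rot3_38r : band (Rule.ok (2 * 5) EX RL ⟨3 :: [2, 5, 2, 3, 2, 5, 3, 4, 2, 4, 2, 4, 3, 2, 3, 5, 2, 5], [4, 2, 4, 8, 2, 8], 12, false⟩) (lall (memL L) [2, 5, 2, 3, 2, 5, 3, 4, 2, 4, 2, 4, 3, 2, 3, 5, 2, 5]) = true := by decide +kernel

theorem rot3_39 : T.rot 3 [2, 5, 3, 4, 2, 4, 2, 4, 3, 2, 3, 5, 2, 5, 3, 2, 5, 2] (sel (ones 170775) ip3 39) = true := by decide +kernel

theorem rot3_39r : band (Rule.ok (2 * 5) EX RL ⟨3 :: [2, 5, 3, 4, 2, 4, 2, 4, 3, 2, 3, 5, 2, 5, 3, 2, 5, 2], [6, 2, 6, 2, 6, 4, 8, 2, 4], 12, false⟩) (lall (memL L) [2, 5, 3, 4, 2, 4, 2, 4, 3, 2, 3, 5, 2, 5, 3, 2, 5, 2]) = true := by decide +kernel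

theorem rot3_40 : T.rot 3 [4, 2, 4, 2, 4, 3, 2, 3, 5, 2, 5, 3, 2, 5, 2, 3, 2, 5] (sel (ones 170775) ip3 40) = true := by decide +kernel

theorem rot3_40r : band (Rule.ok (2 * 5) EX RL ⟨3 :: [4, 2, 4, 2, 4, 3, 2, 3, 5, 2, 5, 3, 2, 5, 2, 3, 2, 5], [6, 2, 6, 2, 6, 4], 12, false⟩) (lall (memL L) [4, 2, 4, 2, 4, 3, 2, 3, 5, 2, 5, 3, 2, 5, 2, 3, 2, 5]) = true := by decide +kernel

theorem rot3_41 : T.rot 3 [2, 3, 4, 2, 3, 4, 3, 4, 3, 2, 4, 3, 2, 3, 4, 2, 5, 2, 4] (sel (ones 170775) ip3 41) = true := by decide +kernel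

theorem rot3_41r : band (Rule.ok (2 * 5) EX RL ⟨3 :: [2, 3, 4, 2, 3, 4, 3, 4, 3, 2, 4, 3, 2, 3, 4, 2, 5, 2, 4], [6], 13, true⟩) (lall (memL L) [2, 3, 4, 2, 3, 4, 3, 4, 3, 2, 4, 3, 2, 3, 4, 2, 5, 2, 4]) = true := by decide +kernel

theorem rot3_42 : T.rot 3 [4, 2, 3, 4, 3, 4, 3, 2, 4, 3, 2, 3, 4, 2, 5, 2, 4, 3, 2] (sel (ones 170775) ip3 42) = true := by decide +kernel

theorem rot3_42r : band (Rule.ok (2 * 5) EX RL ⟨3 :: [4, 2, 3, 4, 3, 4, 3, 2, 4, 3, 2, 3, 4, 2, 5, 2, 4, 3, 2], [6, 4, 2], 13, true⟩) (lall (memL L) [4, 2, 3, 4, 3, 4, 3, 2, 4, 3, 2, 3, 4, 2, 5, 2, 4, 3, 2]) = true := by decide +kernel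

theorem rot3_43 : T.rot 3 [4, 3, 4, 3, 2, 4, 3, 2, 3, 4, 2, 5, 2, 4, 3, 2, 3, 4, 2] (sel (ones 170775) ip3 43) = true := by decide +kernel

theorem rot3_43r : band (Rule.ok (2 * 5) EX RL ⟨3 :: [4, 3, 4, 3, 2, 4, 3, 2, 3, 4, 2, 5, 2, 4, 3, 2, 3, 4, 2], [6, 4, 2, 4, 6, 2], 13, true⟩) (lall (memL L) [4, 3, 4, 3, 2, 4, 3, 2, 3, 4, 2, 5, 2, 4, 3, 2, 3, 4, 2]) = true := by decide +kernel

theorem rot3_44 : T.rot 3 [4, 3, 2, 4, 3, 2, 3, 4, 2, 5, 2, 4, 3, 2, 3, 4, 2, 3, 4] (sel (ones 170775) ip3 44) = true := by decide +kernel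

theorem rot3_44r : band (Rule.ok (2 * 5) EX RL ⟨3 :: [4, 3, 2, 4, 3, 2, 3, 4, 2, 5, 2, 4, 3, 2, 3, 4, 2, 3, 4], [6, 4, 2, 4, 6, 2, 4, 6], 13, true⟩) (lall (memL L) [4, 3, 2, 4, 3, 2, 3, 4, 2, 5, 2, 4, 3, 2, 3, 4, 2, 3, 4]) = true := by decide +kernel

theorem rot3_45 : T.rot 3 [2, 4, 3, 2, 3, 4, 2, 5, 2, 4, 3, 2, 3, 4, 2, 3, 4, 3, 4] (sel (ones 170775) ip3 45) = true := by decide +kernel

theorem rot3_45r : band (Rule.ok (2 * 5) EX RL ⟨3 :: [2, 4, 3, 2, 3, 4, 2, 5, 2, 4, 3, 2, 3, 4, 2, 3, 4, 3, 4], [6, 4, 2, 4, 6, 2, 4], 13, false⟩) (lall (memL L) [2, 4, 3, 2, 3, 4, 2, 5, 2, 4, 3, 2, 3, 4, 2, 3, 4, 3, 4]) = true := by decide +kernel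

theorem rot3_46 : T.rot 3 [2, 3, 4, 2, 5, 2, 4, 3, 2, 3, 4, 2, 3, 4, 3, 4, 3, 2, 4] (sel (ones 170775) ip3 46) = true := by decide +kernel

theorem rot3_46r : band (Rule.ok (2 * 5) EX RL ⟨3 :: [2, 3, 4, 2, 5, 2, 4, 3, 2, 3, 4, 2, 3, 4, 3, 4, 3, 2, 4], [6, 4, 2, 4], 13, false⟩) (lall (memL L) [2, 3, 4, 2, 5, 2, 4, 3, 2, 3, 4, 2, 3, 4, 3, 4, 3, 2, 4]) = true := by decide +kernel

theorem rot3_47 : T.rot 3 [4, 2, 5, 2, 4, 3, 2, 3, 4, 2, 3, 4, 3, 4, 3, 2, 4, 3, 2] (sel (ones 170775) ip3 47) = true := by decide +kernel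

theorem rot3_47r : band (Rule.ok (2 * 5) EX RL ⟨3 :: [4, 2, 5, 2, 4, 3, 2, 3, 4, 2, 3, 4, 3, 4, 3, 2, 4, 3, 2], [6, 4], 13, false⟩) (lall (memL L) [4, 2, 5, 2, 4, 3, 2, 3, 4, 2, 3, 4, 3, 4, 3, 2, 4, 3, 2]) = true := by decide +kernel

theorem rot3_48 : T.rot 3 [5, 2, 5, 2, 3, 5, 2, 3, 2, 5, 2, 1, 5, 2, 5, 1, 5, 2, 5] (sel (ones 170775) ip3 48) = true := by decide +kernel

theorem rot3_48r : band (Rule.ok (2 * 5) EX RL ⟨3 :: [5, 2, 5, 2, 3, 5, 2, 3, 2, 5, 2, 1, 5, 2, 5, 1, 5, 2, 5], [0, 8, 2, 8, 0, 8, 2, 8], 27, true⟩) (lall (memL L) [5, 2, 5, 2, 3, 5, 2, 3, 2, 5, 2, 1, 5, 2, 5, 1, 5, 2, 5]) = true := by decide +kernel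

theorem rot3_49 : T.rot 3 [5, 2, 3, 2, 5, 2, 1, 5, 2, 5, 1, 5, 2, 5, 3, 5, 2, 5, 2] (sel (ones 170775) ip3 49) = true := by decide +kernel

theorem rot3_49r : band (Rule.ok (2 * 5) EX RL ⟨3 :: [5, 2, 3, 2, 5, 2, 1, 5, 2, 5, 1, 5, 2, 5, 3, 5, 2, 5, 2], [2, 8, 2, 4, 2, 8, 4], 27, true⟩) (lall (memL L) [5, 2, 3, 2, 5, 2, 1, 5, 2, 5, 1, 5, 2, 5, 3, 5, 2, 5, 2]) = true := by decide +kernel

theorem rot3_50 : T.rot 3 [2, 5, 2, 1, 5, 2, 5, 1, 5, 2, 5, 3, 5, 2, 5, 2, 3, 5, 2] (sel (ones 170775) ip3 50) = true := by decide +kernel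

theorem rot3_50r : band (Rule.ok (2 * 5) EX RL ⟨3 :: [2, 5, 2, 1, 5, 2, 5, 1, 5, 2, 5, 3, 5, 2, 5, 2, 3, 5, 2], [2, 8, 2, 4], 27, true⟩) (lall (memL L) [2, 5, 2, 1, 5, 2, 5, 1, 5, 2, 5, 3, 5, 2, 5, 2, 3, 5, 2]) = true := by decide +kernel

theorem rot3_51 : T.rot 3 [2, 5, 3, 2, 5, 2, 5, 3, 5, 2, 5, 1, 5, 2, 5, 1, 2, 5, 2] (sel (ones 170775) ip3 51) = true := by decide +kernel

theorem rot3_51r : band (Rule.ok (2 * 5) EX RL ⟨3 :: [2, 5, 3, 2, 5, 2, 5, 3, 5, 2, 5, 1, 5, 2, 5, 1, 2, 5, 2], [2, 8, 2], 27, false⟩) (lall (memL L) [2, 5, 3, 2, 5, 2, 5, 3, 5, 2, 5, 1, 5, 2, 5, 1, 2, 5, 2]) = true := by decide +kernel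

theorem rot3_52 : T.rot 3 [2, 5, 2, 5, 3, 5, 2, 5, 1, 5, 2, 5, 1, 2, 5, 2, 3, 2, 5] (sel (ones 170775) ip3 52) = true := by decide +kernel

theorem rot3_52r : band (Rule.ok (2 * 5) EX RL ⟨3 :: [2, 5, 2, 5, 3, 5, 2, 5, 1, 5, 2, 5, 1, 2, 5, 2, 3, 2, 5], [2, 8, 2, 4, 2, 8], 27, false⟩) (lall (memL L) [2, 5, 2, 5, 3, 5, 2, 5, 1, 5, 2, 5, 1, 2, 5, 2, 3, 2, 5]) = true := by decide +kernel

theorem rot3_53 : T.rot 3 [5, 2, 5, 1, 5, 2, 5, 1, 2, 5, 2, 3, 2, 5, 3, 2, 5, 2, 5] (sel (ones 170775) ip3 53) = true := by decide +kernel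

theorem rot3_53r : band (Rule.ok (2 * 5) EX RL ⟨3 :: [5, 2, 5, 1, 5, 2, 5, 1, 2, 5, 2, 3, 2, 5, 3, 2, 5, 2, 5], [0, 8, 2, 8, 0, 8, 2, 8, 4], 27, false⟩) (lall (memL L) [5, 2, 5, 1, 5, 2, 5, 1, 2, 5, 2, 3, 2, 5, 3, 2, 5, 2, 5]) = true := by decide +kernel

theorem rot3_54 : T.rot 3 [5, 2, 3, 5, 3, 5, 2, 5, 2, 3, 5, 3, 5, 2, 5, 3, 2, 5, 3, 5, 2] (sel (ones 170775) ip3 54) = true := by decide +kernel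

theorem rot3_54r : band (Rule.ok (2 * 5) EX RL ⟨3 :: [5, 2, 3, 5, 3, 5, 2, 5, 2, 3, 5, 3, 5, 2, 5, 3, 2, 5, 3, 5, 2], [2], 4, true⟩) (lall (memL L) [5, 2, 3, 5, 3, 5, 2, 5, 2, 3, 5, 3, 5, 2, 5, 3, 2, 5, 3, 5, 2]) = true := by decide +kernel

theorem rot3_55 : T.rot 3 [5, 3, 5, 2, 5, 2, 3, 5, 3, 5, 2, 5, 3, 2, 5, 3, 5, 2, 3, 5, 2] (sel (ones 170775) ip3 55) = true := by decide +kernel

theorem rot3_55r : band (Rule.ok (2 * 5) EX RL ⟨3 :: [5, 3, 5, 2, 5, 2, 3, 5, 3, 5, 2, 5, 3, 2, 5, 3, 5, 2, 3, 5, 2], [2, 4, 8, 2], 4, true⟩) (lall (memL L) [5, 3, 5, 2, 5, 2, 3, 5, 3, 5, 2, 5, 3, 2, 5, 3, 5, 2, 3, 5, 2]) = true := by decide +kernel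

theorem rot3_56 : T.rot 3 [5, 2, 5, 2, 3, 5, 3, 5, 2, 5, 3, 2, 5, 3, 5, 2, 3, 5, 2, 3, 5] (sel (ones 170775) ip3 56) = true := by decide +kernel

theorem rot3_56r : band (Rule.ok (2 * 5) EX RL ⟨3 :: [5, 2, 5, 2, 3, 5, 3, 5, 2, 5, 3, 2, 5, 3, 5, 2, 3, 5, 2, 3, 5], [2, 4, 8, 2, 4, 8], 4, true⟩) (lall (memL L) [5, 2, 5, 2, 3, 5, 3, 5, 2, 5, 3, 2, 5, 3, 5, 2, 3, 5, 2, 3, 5]) = true := by decide +kernel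

theorem rot3_57 : T.rot 3 [5, 3, 5, 2, 5, 3, 2, 5, 3, 5, 2, 3, 5, 2, 3, 5, 3, 5, 2, 5, 2] (sel (ones 170775) ip3 57) = true := by decide +kernel

theorem rot3_57r : band (Rule.ok (2 * 5) EX RL ⟨3 :: [5, 3, 5, 2, 5, 3, 2, 5, 3, 5, 2, 3, 5, 2, 3, 5, 3, 5, 2, 5, 2], [8, 4, 8, 2, 4, 8, 2, 8, 4, 8, 4], 4, true⟩) (lall (memL L) [5, 3, 5, 2, 5, 3, 2, 5, 3, 5, 2, 3, 5, 2, 3, 5, 3, 5, 2, 5, 2]) = true := by decide +kernel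

theorem rot3_58 : T.rot 3 [5, 2, 5, 3, 2, 5, 3, 5, 2, 3, 5, 2, 3, 5, 3, 5, 2, 5, 2, 3, 5] (sel (ones 170775) ip3 58) = true := by decide +kernel

theorem rot3_58r : band (Rule.ok (2 * 5) EX RL ⟨3 :: [5, 2, 5, 3, 2, 5, 3, 5, 2, 3, 5, 2, 3, 5, 3, 5, 2, 5, 2, 3, 5], [8, 4, 8, 2, 4, 8, 2, 8, 4], 4, true⟩) (lall (memL L) [5, 2, 5, 3, 2, 5, 3, 5, 2, 3, 5, 2, 3, 5, 3, 5, 2, 5, 2, 3, 5]) = true := by decide +kernel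

theorem rot3_59 : T.rot 3 [2, 5, 3, 5, 2, 3, 5, 2, 3, 5, 3, 5, 2, 5, 2, 3, 5, 3, 5, 2, 5] (sel (ones 170775) ip3 59) = true := by decide +kernel

theorem rot3_59r : band (Rule.ok (2 * 5) EX RL ⟨3 :: [2, 5, 3, 5, 2, 3, 5, 2, 3, 5, 3, 5, 2, 5, 2, 3, 5, 3, 5, 2, 5], [8, 4, 8, 2, 4], 4, true⟩) (lall (memL L) [2, 5, 3, 5, 2, 3, 5, 2, 3, 5, 3, 5, 2, 5, 2, 3, 5, 3, 5, 2, 5]) = true := by decide +kernel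

theorem rot3_60 : T.rot 3 [5, 2, 3, 5, 2, 3, 5, 3, 5, 2, 5, 2, 3, 5, 3, 5, 2, 5, 3, 2, 5] (sel (ones 170775) ip3 60) = true := by decide +kernel

theorem rot3_60r : band (Rule.ok (2 * 5) EX RL ⟨3 :: [5, 2, 3, 5, 2, 3, 5, 3, 5, 2, 5, 2, 3, 5, 3, 5, 2, 5, 3, 2, 5], [8, 4], 4, true⟩) (lall (memL L) [5, 2, 3, 5, 2, 3, 5, 3, 5, 2, 5, 2, 3, 5, 3, 5, 2, 5, 3, 2, 5]) = true := by decide +kernel

theorem rot3_61 : T.rot 3 [5, 2, 3, 5, 2, 5, 3, 5, 3, 2, 5, 2, 5, 3, 5, 3, 2, 5, 3, 2, 5] (sel (ones 170775) ip3 61) = true := by decide +kernel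

theorem rot3_61r : band (Rule.ok (2 * 5) EX RL ⟨3 :: [5, 2, 3, 5, 2, 5, 3, 5, 3, 2, 5, 2, 5, 3, 5, 3, 2, 5, 3, 2, 5], [8], 4, false⟩) (lall (memL L) [5, 2, 3, 5, 2, 5, 3, 5, 3, 2, 5, 2, 5, 3, 5, 3, 2, 5, 3, 2, 5]) = true := by decide +kernel

theorem rot3_62 : T.rot 3 [5, 2, 5, 3, 5, 3, 2, 5, 2, 5, 3, 5, 3, 2, 5, 3, 2, 5, 3, 5, 2] (sel (ones 170775) ip3 62) = true := by decide +kernel

theorem rot3_62r : band (Rule.ok (2 * 5) EX RL ⟨3 :: [5, 2, 5, 3, 5, 3, 2, 5, 2, 5, 3, 5, 3, 2, 5, 3, 2, 5, 3, 5, 2], [8, 4, 8, 2], 4, false⟩) (lall (memL L) [5, 2, 5, 3, 5, 3, 2, 5, 2, 5, 3, 5, 3, 2, 5, 3, 2, 5, 3, 5, 2]) = true := by decide +kernel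

theorem rot3_63 : T.rot 3 [5, 3, 2, 5, 2, 5, 3, 5, 3, 2, 5, 3, 2, 5, 3, 5, 2, 3, 5, 2, 5] (sel (ones 170775) ip3 63) = true := by decide +kernel

theorem rot3_63r : band (Rule.ok (2 * 5) EX RL ⟨3 :: [5, 3, 2, 5, 2, 5, 3, 5, 3, 2, 5, 3, 2, 5, 3, 5, 2, 3, 5, 2, 5], [8, 4, 8, 2, 4, 8, 2, 8], 4, false⟩) (lall (memL L) [5, 3, 2, 5, 2, 5, 3, 5, 3, 2, 5, 3, 2, 5, 3, 5, 2, 3, 5, 2, 5]) = true := by decide +kernel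

theorem rot3_64 : T.rot 3 [2, 5, 2, 5, 3, 5, 3, 2, 5, 3, 2, 5, 3, 5, 2, 3, 5, 2, 5, 3, 5] (sel (ones 170775) ip3 64) = true := by decide +kernel

theorem rot3_64r : band (Rule.ok (2 * 5) EX RL ⟨3 :: [2, 5, 2, 5, 3, 5, 3, 2, 5, 3, 2, 5, 3, 5, 2, 3, 5, 2, 5, 3, 5], [8, 4, 8, 2, 4, 8, 2, 8, 4, 8], 4, false⟩) (lall (memL L) [2, 5, 2, 5, 3, 5, 3, 2, 5, 3, 2, 5, 3, 5, 2, 3, 5, 2, 5, 3, 5]) = true := by decide +kernel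

theorem rot3_65 : T.rot 3 [5, 3, 2, 5, 3, 2, 5, 3, 5, 2, 3, 5, 2, 5, 3, 5, 3, 2, 5, 2, 5] (sel (ones 170775) ip3 65) = true := by decide +kernel

theorem rot3_65r : band (Rule.ok (2 * 5) EX RL ⟨3 :: [5, 3, 2, 5, 3, 2, 5, 3, 5, 2, 3, 5, 2, 5, 3, 5, 3, 2, 5, 2, 5], [2, 4, 8, 2, 4, 8, 4], 4, false⟩) (lall (memL L) [5, 3, 2, 5, 3, 2, 5, 3, 5, 2, 3, 5, 2, 5, 3, 5, 3, 2, 5, 2, 5]) = true := by decide +kernel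

theorem rot3_66 : T.rot 3 [2, 5, 3, 2, 5, 3, 5, 2, 3, 5, 2, 5, 3, 5, 3, 2, 5, 2, 5, 3, 5] (sel (ones 170775) ip3 66) = true := by decide +kernel

theorem rot3_66r : band (Rule.ok (2 * 5) EX RL ⟨3 :: [2, 5, 3, 2, 5, 3, 5, 2, 3, 5, 2, 5, 3, 5, 3, 2, 5, 2, 5, 3, 5], [2, 4, 8, 2, 4], 4, false⟩) (lall (memL L) [2, 5, 3, 2, 5, 3, 5, 2, 3, 5, 2, 5, 3, 5, 3, 2, 5, 2, 5, 3, 5]) = true := by decide +kernel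

theorem rot3_67 : T.rot 3 [2, 5, 3, 5, 2, 3, 5, 2, 5, 3, 5, 3, 2, 5, 2, 5, 3, 5, 3, 2, 5] (sel (ones 170775) ip3 67) = true := by decide +kernel

theorem rot3_67r : band (Rule.ok (2 * 5) EX RL ⟨3 :: [2, 5, 3, 5, 2, 3, 5, 2, 5, 3, 5, 3, 2, 5, 2, 5, 3, 5, 3, 2, 5], [2, 4], 4, false⟩) (lall (memL L) [2, 5, 3, 5, 2, 3, 5, 2, 5, 3, 5, 3, 2, 5, 2, 5, 3, 5, 3, 2, 5]) = true := by decide +kernel

theorem rot3_68 : T.rot 3 [2, 5, 2, 5, 2, 3, 5, 2, 3, 5, 2, 3, 5, 2, 3, 5, 2, 3, 5, 3, 2, 3, 5, 2] (sel (ones 170775) ip3 68) = true := by decide +kernel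

theorem rot3_68r : band (Rule.ok (2 * 5) EX RL ⟨3 :: [2, 5, 2, 5, 2, 3, 5, 2, 3, 5, 2, 3, 5, 2, 3, 5, 2, 3, 5, 3, 2, 3, 5, 2], [2], 5, true⟩) (lall (memL L) [2, 5, 2, 5, 2, 3, 5, 2, 3, 5, 2, 3, 5, 2, 3, 5, 2, 3, 5, 3, 2, 3, 5, 2]) = true := by decide +kernel

theorem rot3_69 : T.rot 3 [5, 2, 3, 5, 2, 3, 5, 2, 3, 5, 2, 3, 5, 3, 2, 3, 5, 2, 3, 2, 5, 2, 5, 2] (sel (ones 170775) ip3 69) = true := by decide +kernel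

theorem rot3_69r : band (Rule.ok (2 * 5) EX RL ⟨3 :: [5, 2, 3, 5, 2, 3, 5, 2, 3, 5, 2, 3, 5, 3, 2, 3, 5, 2, 3, 2, 5, 2, 5, 2], [2, 4, 2, 8, 2, 8, 2], 5, true⟩) (lall (memL L) [5, 2, 3, 5, 2, 3, 5, 2, 3, 5, 2, 3, 5, 3, 2, 3, 5, 2, 3, 2, 5, 2, 5, 2]) = true := by decide +kernel

theorem rot3_70 : T.rot 3 [5, 2, 3, 5, 2, 3, 5, 2, 3, 5, 3, 2, 3, 5, 2, 3, 2, 5, 2, 5, 2, 3, 5, 2] (sel (ones 170775) ip3 70) = true := by decide +kernel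

theorem rot3_70r : band (Rule.ok (2 * 5) EX RL ⟨3 :: [5, 2, 3, 5, 2, 3, 5, 2, 3, 5, 3, 2, 3, 5, 2, 3, 2, 5, 2, 5, 2, 3, 5, 2], [2, 4, 2, 8, 2, 8, 2, 4, 8, 2], 5, true⟩) (lall (memL L) [5, 2, 3, 5, 2, 3, 5, 2, 3, 5, 3, 2, 3, 5, 2, 3, 2, 5, 2, 5, 2, 3, 5, 2]) = true := by decide +kernel

theorem rot3_71 : T.rot 3 [5, 2, 3, 5, 2, 3, 5, 3, 2, 3, 5, 2, 3, 2, 5, 2, 5, 2, 3, 5, 2, 3, 5, 2] (sel (ones 170775) ip3 71) = true := by decide +kernel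

theorem rot3_71r : band (Rule.ok (2 * 5) EX RL ⟨3 :: [5, 2, 3, 5, 2, 3, 5, 3, 2, 3, 5, 2, 3, 2, 5, 2, 5, 2, 3, 5, 2, 3, 5, 2], [8, 4, 2, 4, 8, 4, 2, 8, 4, 2, 8, 4], 5, true⟩) (lall (memL L) [5, 2, 3, 5, 2, 3, 5, 3, 2, 3, 5, 2, 3, 2, 5, 2, 5, 2, 3, 5, 2, 3, 5, 2]) = true := by decide +kernel

theorem rot3_72 : T.rot 3 [5, 2, 3, 5, 3, 2, 3, 5, 2, 3, 2, 5, 2, 5, 2, 3, 5, 2, 3, 5, 2, 3, 5, 2] (sel (ones 170775) ip3 72) = true := by decide +kernel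

theorem rot3_72r : band (Rule.ok (2 * 5) EX RL ⟨3 :: [5, 2, 3, 5, 3, 2, 3, 5, 2, 3, 2, 5, 2, 5, 2, 3, 5, 2, 3, 5, 2, 3, 5, 2], [8, 4, 2, 4, 8, 4, 2, 8, 4], 5, true⟩) (lall (memL L) [5, 2, 3, 5, 3, 2, 3, 5, 2, 3, 2, 5, 2, 5, 2, 3, 5, 2, 3, 5, 2, 3, 5, 2]) = true := by decide +kernel

theorem rot3_73 : T.rot 3 [5, 3, 2, 3, 5, 2, 3, 2, 5, 2, 5, 2, 3, 5, 2, 3, 5, 2, 3, 5, 2, 3, 5, 2] (sel (ones 170775) ip3 73) = true := by decide +kernel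

theorem rot3_73r : band (Rule.ok (2 * 5) EX RL ⟨3 :: [5, 3, 2, 3, 5, 2, 3, 2, 5, 2, 5, 2, 3, 5, 2, 3, 5, 2, 3, 5, 2, 3, 5, 2], [8, 4, 2, 4, 8, 4], 5, true⟩) (lall (memL L) [5, 3, 2, 3, 5, 2, 3, 2, 5, 2, 5, 2, 3, 5, 2, 3, 5, 2, 3, 5, 2, 3, 5, 2]) = true := by decide +kernel

theorem rot3_74 : T.rot 3 [2, 3, 5, 2, 3, 2, 5, 2, 5, 2, 3, 5, 2, 3, 5, 2, 3, 5, 2, 3, 5, 2, 3, 5] (sel (ones 170775) ip3 74) = true := by decide +kernel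

theorem rot3_74r : band (Rule.ok (2 * 5) EX RL ⟨3 :: [2, 3, 5, 2, 3, 2, 5, 2, 5, 2, 3, 5, 2, 3, 5, 2, 3, 5, 2, 3, 5, 2, 3, 5], [8, 4, 2, 4], 5, true⟩) (lall (memL L) [2, 3, 5, 2, 3, 2, 5, 2, 5, 2, 3, 5, 2, 3, 5, 2, 3, 5, 2, 3, 5, 2, 3, 5]) = true := by decide +kernel

theorem rot3_75 : T.rot 3 [5, 2, 3, 2, 5, 2, 5, 2, 3, 5, 2, 3, 5, 2, 3, 5, 2, 3, 5, 2, 3, 5, 3, 2] (sel (ones 170775) ip3 75) = true := by decide +kernel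

theorem rot3_75r : band (Rule.ok (2 * 5) EX RL ⟨3 :: [5, 2, 3, 2, 5, 2, 5, 2, 3, 5, 2, 3, 5, 2, 3, 5, 2, 3, 5, 2, 3, 5, 3, 2], [8, 4], 5, true⟩) (lall (memL L) [5, 2, 3, 2, 5, 2, 5, 2, 3, 5, 2, 3, 5, 2, 3, 5, 2, 3, 5, 2, 3, 5, 3, 2]) = true := by decide +kernel

theorem rot3_76 : T.rot 3 [2, 3, 5, 3, 2, 5, 3, 2, 5, 3, 2, 5, 3, 2, 5, 3, 2, 5, 2, 5, 2, 3, 2, 5] (sel (ones 170775) ip3 76) = true := by decide +kernel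

theorem rot3_76r : band (Rule.ok (2 * 5) EX RL ⟨3 :: [2, 3, 5, 3, 2, 5, 3, 2, 5, 3, 2, 5, 3, 2, 5, 3, 2, 5, 2, 5, 2, 3, 2, 5], [8], 5, false⟩) (lall (memL L) [2, 3, 5, 3, 2, 5, 3, 2, 5, 3, 2, 5, 3, 2, 5, 3, 2, 5, 2, 5, 2, 3, 2, 5]) = true := by decide +kernel

theorem rot3_77 : T.rot 3 [5, 3, 2, 5, 3, 2, 5, 3, 2, 5, 3, 2, 5, 3, 2, 5, 2, 5, 2, 3, 2, 5, 3, 2] (sel (ones 170775) ip3 77) = true := by decide +kernel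

theorem rot3_77r : band (Rule.ok (2 * 5) EX RL ⟨3 :: [5, 3, 2, 5, 3, 2, 5, 3, 2, 5, 3, 2, 5, 3, 2, 5, 2, 5, 2, 3, 2, 5, 3, 2], [8, 4, 2], 5, false⟩) (lall (memL L) [5, 3, 2, 5, 3, 2, 5, 3, 2, 5, 3, 2, 5, 3, 2, 5, 2, 5, 2, 3, 2, 5, 3, 2]) = true := by decide +kernel

theorem rot3_78 : T.rot 3 [2, 5, 3, 2, 5, 3, 2, 5, 3, 2, 5, 3, 2, 5, 2, 5, 2, 3, 2, 5, 3, 2, 3, 5] (sel (ones 170775) ip3 78) = true := by decide +kernel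

theorem rot3_78r : band (Rule.ok (2 * 5) EX RL ⟨3 :: [2, 5, 3, 2, 5, 3, 2, 5, 3, 2, 5, 3, 2, 5, 2, 5, 2, 3, 2, 5, 3, 2, 3, 5], [8, 4, 2, 4, 8], 5, false⟩) (lall (memL L) [2, 5, 3, 2, 5, 3, 2, 5, 3, 2, 5, 3, 2, 5, 2, 5, 2, 3, 2, 5, 3, 2, 3, 5]) = true := by decide +kernel

theorem rot3_79 : T.rot 3 [2, 5, 3, 2, 5, 3, 2, 5, 3, 2, 5, 2, 5, 2, 3, 2, 5, 3, 2, 3, 5, 3, 2, 5] (sel (ones 170775) ip3 79) = true := by decide +kernel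

theorem rot3_79r : band (Rule.ok (2 * 5) EX RL ⟨3 :: [2, 5, 3, 2, 5, 3, 2, 5, 3, 2, 5, 2, 5, 2, 3, 2, 5, 3, 2, 3, 5, 3, 2, 5], [8, 4, 2, 4, 8, 4, 2, 8], 5, false⟩) (lall (memL L) [2, 5, 3, 2, 5, 3, 2, 5, 3, 2, 5, 2, 5, 2, 3, 2, 5, 3, 2, 3, 5, 3, 2, 5]) = true := by decide +kernel

theorem rot3_80 : T.rot 3 [2, 5, 3, 2, 5, 3, 2, 5, 2, 5, 2, 3, 2, 5, 3, 2, 3, 5, 3, 2, 5, 3, 2, 5] (sel (ones 170775) ip3 80) = true := by decide +kernel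

theorem rot3_80r : band (Rule.ok (2 * 5) EX RL ⟨3 :: [2, 5, 3, 2, 5, 3, 2, 5, 2, 5, 2, 3, 2, 5, 3, 2, 3, 5, 3, 2, 5, 3, 2, 5], [8, 4, 2, 4, 8, 4, 2, 8, 4, 2, 8], 5, false⟩) (lall (memL L) [2, 5, 3, 2, 5, 3, 2, 5, 2, 5, 2, 3, 2, 5, 3, 2, 3, 5, 3, 2, 5, 3, 2, 5]) = true := by decide +kernel

theorem rot3_81 : T.rot 3 [2, 5, 3, 2, 5, 2, 5, 2, 3, 2, 5, 3, 2, 3, 5, 3, 2, 5, 3, 2, 5, 3, 2, 5] (sel (ones 170775) ip3 81) = true := by decide +kernel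

theorem rot3_81r : band (Rule.ok (2 * 5) EX RL ⟨3 :: [2, 5, 3, 2, 5, 2, 5, 2, 3, 2, 5, 3, 2, 3, 5, 3, 2, 5, 3, 2, 5, 3, 2, 5], [2, 4, 2, 8, 2, 8, 2, 4, 8, 2, 4], 5, false⟩) (lall (memL L) [2, 5, 3, 2, 5, 2, 5, 2, 3, 2, 5, 3, 2, 3, 5, 3, 2, 5, 3, 2, 5, 3, 2, 5]) = true := by decide +kernel

theorem rot3_82 : T.rot 3 [2, 5, 2, 5, 2, 3, 2, 5, 3, 2, 3, 5, 3, 2, 5, 3, 2, 5, 3, 2, 5, 3, 2, 5] (sel (ones 170775) ip3 82) = true := by decide +kernel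

theorem rot3_82r : band (Rule.ok (2 * 5) EX RL ⟨3 :: [2, 5, 2, 5, 2, 3, 2, 5, 3, 2, 3, 5, 3, 2, 5, 3, 2, 5, 3, 2, 5, 3, 2, 5], [2, 4, 2, 8, 2, 8, 2, 4], 5, false⟩) (lall (memL L) [2, 5, 2, 5, 2, 3, 2, 5, 3, 2, 3, 5, 3, 2, 5, 3, 2, 5, 3, 2, 5, 3, 2, 5]) = true := by decide +kernel

theorem rot3_83 : T.rot 3 [2, 5, 3, 2, 3, 5, 3, 2, 5, 3, 2, 5, 3, 2, 5, 3, 2, 5, 3, 2, 5, 2, 5, 2] (sel (ones 170775) ip3 83) = true := by decide +kernel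

theorem rot3_83r : band (Rule.ok (2 * 5) EX RL ⟨3 :: [2, 5, 3, 2, 3, 5, 3, 2, 5, 3, 2, 5, 3, 2, 5, 3, 2, 5, 3, 2, 5, 2, 5, 2], [2, 4], 5, false⟩) (lall (memL L) [2, 5, 3, 2, 3, 5, 3, 2, 5, 3, 2, 5, 3, 2, 5, 3, 2, 5, 3, 2, 5, 2, 5, 2]) = true := by decide +kernel

theorem rot3_84 : T.rot 3 [2, 3, 5, 3, 2, 1, 3, 5, 1, 2, 5, 2, 3, 5, 3, 2, 3, 5, 3, 2, 5, 2, 3, 1] (sel (ones 170775) ip3 84) = true := by decide +kernel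

theorem rot3_84r : band (Rule.ok (2 * 5) EX RL ⟨3 :: [2, 3, 5, 3, 2, 1, 3, 5, 1, 2, 5, 2, 3, 5, 3, 2, 3, 5, 3, 2, 5, 2, 3, 1], [0], 25, true⟩) (lall (memL L) [2, 3, 5, 3, 2, 1, 3, 5, 1, 2, 5, 2, 3, 5, 3, 2, 3, 5, 3, 2, 5, 2, 3, 1]) = true := by decide +kernel

theorem rot3_85 : T.rot 3 [5, 3, 2, 1, 3, 5, 1, 2, 5, 2, 3, 5, 3, 2, 3, 5, 3, 2, 5, 2, 3, 1, 3, 2] (sel (ones 170775) ip3 85) = true := by decide +kernel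

theorem rot3_85r : band (Rule.ok (2 * 5) EX RL ⟨3 :: [5, 3, 2, 1, 3, 5, 1, 2, 5, 2, 3, 5, 3, 2, 3, 5, 3, 2, 5, 2, 3, 1, 3, 2], [0, 4, 2], 25, true⟩) (lall (memL L) [5, 3, 2, 1, 3, 5, 1, 2, 5, 2, 3, 5, 3, 2, 3, 5, 3, 2, 5, 2, 3, 1, 3, 2]) = true := by decide +kernel

theorem rot3_86 : T.rot 3 [2, 1, 3, 5, 1, 2, 5, 2, 3, 5, 3, 2, 3, 5, 3, 2, 5, 2, 3, 1, 3, 2, 3, 5] (sel (ones 170775) ip3 86) = true := by decide +kernel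

theorem rot3_86r : band (Rule.ok (2 * 5) EX RL ⟨3 :: [2, 1, 3, 5, 1, 2, 5, 2, 3, 5, 3, 2, 3, 5, 3, 2, 5, 2, 3, 1, 3, 2, 3, 5], [0, 4, 2, 4, 8], 25, true⟩) (lall (memL L) [2, 1, 3, 5, 1, 2, 5, 2, 3, 5, 3, 2, 3, 5, 3, 2, 5, 2, 3, 1, 3, 2, 3, 5]) = true := by decide +kernel

theorem rot3_87 : T.rot 3 [5, 1, 2, 5, 2, 3, 5, 3, 2, 3, 5, 3, 2, 5, 2, 3, 1, 3, 2, 3, 5, 3, 2, 1] (sel (ones 170775) ip3 87) = true := by decide +kernel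

theorem rot3_87r : band (Rule.ok (2 * 5) EX RL ⟨3 :: [5, 1, 2, 5, 2, 3, 5, 3, 2, 3, 5, 3, 2, 5, 2, 3, 1, 3, 2, 3, 5, 3, 2, 1], [0, 4, 2, 4, 8, 4, 2, 0], 25, true⟩) (lall (memL L) [5, 1, 2, 5, 2, 3, 5, 3, 2, 3, 5, 3, 2, 5, 2, 3, 1, 3, 2, 3, 5, 3, 2, 1]) = true := by decide +kernel

theorem rot3_88 : T.rot 3 [5, 3, 2, 3, 5, 3, 2, 5, 2, 3, 1, 3, 2, 3, 5, 3, 2, 1, 3, 5, 1, 2, 5, 2] (sel (ones 170775) ip3 88) = true := by decide +kernel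

theorem rot3_88r : band (Rule.ok (2 * 5) EX RL ⟨3 :: [5, 3, 2, 3, 5, 3, 2, 5, 2, 3, 1, 3, 2, 3, 5, 3, 2, 1, 3, 5, 1, 2, 5, 2], [4, 2, 8, 2, 4, 8, 4, 2, 4, 8, 4], 25, true⟩) (lall (memL L) [5, 3, 2, 3, 5, 3, 2, 5, 2, 3, 1, 3, 2, 3, 5, 3, 2, 1, 3, 5, 1, 2, 5, 2]) = true := by decide +kernel

theorem rot3_89 : T.rot 3 [2, 3, 5, 3, 2, 5, 2, 3, 1, 3, 2, 3, 5, 3, 2, 1, 3, 5, 1, 2, 5, 2, 3, 5] (sel (ones 170775) ip3 89) = true := by decide +kernel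

theorem rot3_89r : band (Rule.ok (2 * 5) EX RL ⟨3 :: [2, 3, 5, 3, 2, 5, 2, 3, 1, 3, 2, 3, 5, 3, 2, 1, 3, 5, 1, 2, 5, 2, 3, 5], [4, 2, 8, 2, 4, 8, 4, 2, 4], 25, true⟩) (lall (memL L) [2, 3, 5, 3, 2, 5, 2, 3, 1, 3, 2, 3, 5, 3, 2, 1, 3, 5, 1, 2, 5, 2, 3, 5]) = true := by decide +kernel

theorem rot3_90 : T.rot 3 [5, 3, 2, 5, 2, 3, 1, 3, 2, 3, 5, 3, 2, 1, 3, 5, 1, 2, 5, 2, 3, 5, 3, 2] (sel (ones 170775) ip3 90) = true := by decide +kernel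

theorem rot3_90r : band (Rule.ok (2 * 5) EX RL ⟨3 :: [5, 3, 2, 5, 2, 3, 1, 3, 2, 3, 5, 3, 2, 1, 3, 5, 1, 2, 5, 2, 3, 5, 3, 2], [4, 2, 8, 2, 4, 8, 4], 25, true⟩) (lall (memL L) [5, 3, 2, 5, 2, 3, 1, 3, 2, 3, 5, 3, 2, 1, 3, 5, 1, 2, 5, 2, 3, 5, 3, 2]) = true := by decide +kernel

theorem rot3_91 : T.rot 3 [2, 5, 2, 3, 1, 3, 2, 3, 5, 3, 2, 1, 3, 5, 1, 2, 5, 2, 3, 5, 3, 2, 3, 5] (sel (ones 170775) ip3 91) = true := by decide +kernel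

theorem rot3_91r : band (Rule.ok (2 * 5) EX RL ⟨3 :: [2, 5, 2, 3, 1, 3, 2, 3, 5, 3, 2, 1, 3, 5, 1, 2, 5, 2, 3, 5, 3, 2, 3, 5], [4, 2, 8, 2, 4], 25, true⟩) (lall (memL L) [2, 5, 2, 3, 1, 3, 2, 3, 5, 3, 2, 1, 3, 5, 1, 2, 5, 2, 3, 5, 3, 2, 3, 5]) = true := by decide +kernel

theorem rot3_92 : T.rot 3 [1, 3, 2, 3, 5, 3, 2, 1, 3, 5, 1, 2, 5, 2, 3, 5, 3, 2, 3, 5, 3, 2, 5, 2] (sel (ones 170775) ip3 92) = true := by decide +kernel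

theorem rot3_92r : band (Rule.ok (2 * 5) EX RL ⟨3 :: [1, 3, 2, 3, 5, 3, 2, 1, 3, 5, 1, 2, 5, 2, 3, 5, 3, 2, 3, 5, 3, 2, 5, 2], [4], 25, true⟩) (lall (memL L) [1, 3, 2, 3, 5, 3, 2, 1, 3, 5, 1, 2, 5, 2, 3, 5, 3, 2, 3, 5, 3, 2, 5, 2]) = true := by decide +kernel

theorem rot3_93 : T.rot 3 [2, 5, 2, 3, 5, 3, 2, 3, 5, 3, 2, 5, 2, 1, 5, 3, 1, 2, 3, 5, 3, 2, 3, 1] (sel (ones 170775) ip3 93) = true := by decide +kernel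

theorem rot3_93r : band (Rule.ok (2 * 5) EX RL ⟨3 :: [2, 5, 2, 3, 5, 3, 2, 3, 5, 3, 2, 5, 2, 1, 5, 3, 1, 2, 3, 5, 3, 2, 3, 1], [], 25, false⟩) (lall (memL L) [2, 5, 2, 3, 5, 3, 2, 3, 5, 3, 2, 5, 2, 1, 5, 3, 1, 2, 3, 5, 3, 2, 3, 1]) = true := by decide +kernel

theorem rot3_94 : T.rot 3 [5, 3, 2, 3, 5, 3, 2, 5, 2, 1, 5, 3, 1, 2, 3, 5, 3, 2, 3, 1, 3, 2, 5, 2] (sel (ones 170775) ip3 94) = true := by decide +kernel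

theorem rot3_94r : band (Rule.ok (2 * 5) EX RL ⟨3 :: [5, 3, 2, 3, 5, 3, 2, 5, 2, 1, 5, 3, 1, 2, 3, 5, 3, 2, 3, 1, 3, 2, 5, 2], [4, 2, 8, 2], 25, false⟩) (lall (memL L) [5, 3, 2, 3, 5, 3, 2, 5, 2, 1, 5, 3, 1, 2, 3, 5, 3, 2, 3, 1, 3, 2, 5, 2]) = true := by decide +kernel

theorem rot3_95 : T.rot 3 [2, 3, 5, 3, 2, 5, 2, 1, 5, 3, 1, 2, 3, 5, 3, 2, 3, 1, 3, 2, 5, 2, 3, 5] (sel (ones 170775) ip3 95) = true := by decide +kernel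

theorem rot3_95r : band (Rule.ok (2 * 5) EX RL ⟨3 :: [2, 3, 5, 3, 2, 5, 2, 1, 5, 3, 1, 2, 3, 5, 3, 2, 3, 1, 3, 2, 5, 2, 3, 5], [4, 2, 8, 2, 4, 8], 25, false⟩) (lall (memL L) [2, 3, 5, 3, 2, 5, 2, 1, 5, 3, 1, 2, 3, 5, 3, 2, 3, 1, 3, 2, 5, 2, 3, 5]) = true := by decide +kernel

theorem rot3_96 : T.rot 3 [5, 3, 2, 5, 2, 1, 5, 3, 1, 2, 3, 5, 3, 2, 3, 1, 3, 2, 5, 2, 3, 5, 3, 2] (sel (ones 170775) ip3 96) = true := by decide +kernel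

theorem rot3_96r : band (Rule.ok (2 * 5) EX RL ⟨3 :: [5, 3, 2, 5, 2, 1, 5, 3, 1, 2, 3, 5, 3, 2, 3, 1, 3, 2, 5, 2, 3, 5, 3, 2], [4, 2, 8, 2, 4, 8, 4, 2], 25, false⟩) (lall (memL L) [5, 3, 2, 5, 2, 1, 5, 3, 1, 2, 3, 5, 3, 2, 3, 1, 3, 2, 5, 2, 3, 5, 3, 2]) = true := by decide +kernel

theorem rot3_97 : T.rot 3 [2, 5, 2, 1, 5, 3, 1, 2, 3, 5, 3, 2, 3, 1, 3, 2, 5, 2, 3, 5, 3, 2, 3, 5] (sel (ones 170775) ip3 97) = true := by decide +kernel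

theorem rot3_97r : band (Rule.ok (2 * 5) EX RL ⟨3 :: [2, 5, 2, 1, 5, 3, 1, 2, 3, 5, 3, 2, 3, 1, 3, 2, 5, 2, 3, 5, 3, 2, 3, 5], [4, 2, 8, 2, 4, 8, 4, 2, 4, 8], 25, false⟩) (lall (memL L) [2, 5, 2, 1, 5, 3, 1, 2, 3, 5, 3, 2, 3, 1, 3, 2, 5, 2, 3, 5, 3, 2, 3, 5]) = true := by decide +kernel

theorem rot3_98 : T.rot 3 [1, 2, 3, 5, 3, 2, 3, 1, 3, 2, 5, 2, 3, 5, 3, 2, 3, 5, 3, 2, 5, 2, 1, 5] (sel (ones 170775) ip3 98) = true := by decide +kernel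

theorem rot3_98r : band (Rule.ok (2 * 5) EX RL ⟨3 :: [1, 2, 3, 5, 3, 2, 3, 1, 3, 2, 5, 2, 3, 5, 3, 2, 3, 5, 3, 2, 5, 2, 1, 5], [0, 4, 2, 4, 8, 4, 2, 0, 4], 25, false⟩) (lall (memL L) [1, 2, 3, 5, 3, 2, 3, 1, 3, 2, 5, 2, 3, 5, 3, 2, 3, 5, 3, 2, 5, 2, 1, 5]) = true := by decide +kernel

theorem rot3_99 : T.rot 3 [5, 3, 2, 3, 1, 3, 2, 5, 2, 3, 5, 3, 2, 3, 5, 3, 2, 5, 2, 1, 5, 3, 1, 2] (sel (ones 170775) ip3 99) = true := by decide +kernel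

theorem rot3_99r : band (Rule.ok (2 * 5) EX RL ⟨3 :: [5, 3, 2, 3, 1, 3, 2, 5, 2, 3, 5, 3, 2, 3, 5, 3, 2, 5, 2, 1, 5, 3, 1, 2], [0, 4, 2, 4, 8, 4], 25, false⟩) (lall (memL L) [5, 3, 2, 3, 1, 3, 2, 5, 2, 3, 5, 3, 2, 3, 5, 3, 2, 5, 2, 1, 5, 3, 1, 2]) = true := by decide +kernel

theorem rot3_100 : T.rot 3 [2, 3, 1, 3, 2, 5, 2, 3, 5, 3, 2, 3, 5, 3, 2, 5, 2, 1, 5, 3, 1, 2, 3, 5] (sel (ones 170775) ip3 100) = true := by decide +kernel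

theorem rot3_100r : band (Rule.ok (2 * 5) EX RL ⟨3 :: [2, 3, 1, 3, 2, 5, 2, 3, 5, 3, 2, 3, 5, 3, 2, 5, 2, 1, 5, 3, 1, 2, 3, 5], [0, 4, 2, 4], 25, false⟩) (lall (memL L) [2, 3, 1, 3, 2, 5, 2, 3, 5, 3, 2, 3, 5, 3, 2, 5, 2, 1, 5, 3, 1, 2, 3, 5]) = true := by decide +kernel

theorem rot3_101 : T.rot 3 [1, 3, 2, 5, 2, 3, 5, 3, 2, 3, 5, 3, 2, 5, 2, 1, 5, 3, 1, 2, 3, 5, 3, 2] (sel (ones 170775) ip3 101) = true := by decide +kernel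

theorem rot3_101r : band (Rule.ok (2 * 5) EX RL ⟨3 :: [1, 3, 2, 5, 2, 3, 5, 3, 2, 3, 5, 3, 2, 5, 2, 1, 5, 3, 1, 2, 3, 5, 3, 2], [0, 4], 25, false⟩) (lall (memL L) [1, 3, 2, 5, 2, 3, 5, 3, 2, 3, 5, 3, 2, 5, 2, 1, 5, 3, 1, 2, 3, 5, 3, 2]) = true := by decide +kernel

theorem rot3_102 : T.rot 3 [2, 3, 5, 2, 5, 1, 3, 5, 1, 5, 2, 5, 3, 2, 3, 5, 3, 2, 5, 3, 5, 3, 2, 3, 5, 1] (sel (ones 170775) ip3 102) = true := by decide +kernel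

theorem rot3_102r : band (Rule.ok (2 * 5) EX RL ⟨3 :: [2, 3, 5, 2, 5, 1, 3, 5, 1, 5, 2, 5, 3, 2, 3, 5, 3, 2, 5, 3, 5, 3, 2, 3, 5, 1], [0], 24, true⟩) (lall (memL L) [2, 3, 5, 2, 5, 1, 3, 5, 1, 5, 2, 5, 3, 2, 3, 5, 3, 2, 5, 3, 5, 3, 2, 3, 5, 1]) = true := by decide +kernel

theorem rot3_103 : T.rot 3 [5, 2, 5, 1, 3, 5, 1, 5, 2, 5, 3, 2, 3, 5, 3, 2, 5, 3, 5, 3, 2, 3, 5, 1, 3, 2] (sel (ones 170775) ip3 103) = true := by decide +kernel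

theorem rot3_103r : band (Rule.ok (2 * 5) EX RL ⟨3 :: [5, 2, 5, 1, 3, 5, 1, 5, 2, 5, 3, 2, 3, 5, 3, 2, 5, 3, 5, 3, 2, 3, 5, 1, 3, 2], [0, 4, 2], 24, true⟩) (lall (memL L) [5, 2, 5, 1, 3, 5, 1, 5, 2, 5, 3, 2, 3, 5, 3, 2, 5, 3, 5, 3, 2, 3, 5, 1, 3, 2]) = true := by decide +kernel

theorem rot3_104 : T.rot 3 [5, 1, 5, 2, 5, 3, 2, 3, 5, 3, 2, 5, 3, 5, 3, 2, 3, 5, 1, 3, 2, 3, 5, 2, 5, 1] (sel (ones 170775) ip3 104) = true := by decide +kernel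

theorem rot3_104r : band (Rule.ok (2 * 5) EX RL ⟨3 :: [5, 1, 5, 2, 5, 3, 2, 3, 5, 3, 2, 5, 3, 5, 3, 2, 3, 5, 1, 3, 2, 3, 5, 2, 5, 1], [0, 4, 2, 4, 8, 2, 8, 0], 24, true⟩) (lall (memL L) [5, 1, 5, 2, 5, 3, 2, 3, 5, 3, 2, 5, 3, 5, 3, 2, 3, 5, 1, 3, 2, 3, 5, 2, 5, 1]) = true := by decide +kernel

theorem rot3_105 : T.rot 3 [2, 3, 5, 3, 2, 5, 3, 5, 3, 2, 3, 5, 1, 3, 2, 3, 5, 2, 5, 1, 3, 5, 1, 5, 2, 5] (sel (ones 170775) ip3 105) = true := by decide +kernel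

theorem rot3_105r : band (Rule.ok (2 * 5) EX RL ⟨3 :: [2, 3, 5, 3, 2, 5, 3, 5, 3, 2, 3, 5, 1, 3, 2, 3, 5, 2, 5, 1, 3, 5, 1, 5, 2, 5], [8, 4, 2, 4, 8, 4, 8, 2, 4, 8, 4, 2, 4], 24, true⟩) (lall (memL L) [2, 3, 5, 3, 2, 5, 3, 5, 3, 2, 3, 5, 1, 3, 2, 3, 5, 2, 5, 1, 3, 5, 1, 5, 2, 5]) = true := by decide +kernel

theorem rot3_106 : T.rot 3 [5, 3, 2, 5, 3, 5, 3, 2, 3, 5, 1, 3, 2, 3, 5, 2, 5, 1, 3, 5, 1, 5, 2, 5, 3, 2] (sel (ones 170775) ip3 106) = true := by decide +kernel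

theorem rot3_106r : band (Rule.ok (2 * 5) EX RL ⟨3 :: [5, 3, 2, 5, 3, 5, 3, 2, 3, 5, 1, 3, 2, 3, 5, 2, 5, 1, 3, 5, 1, 5, 2, 5, 3, 2], [8, 4, 2, 4, 8, 4, 8, 2, 4, 8, 4], 24, true⟩) (lall (memL L) [5, 3, 2, 5, 3, 5, 3, 2, 3, 5, 1, 3, 2, 3, 5, 2, 5, 1, 3, 5, 1, 5, 2, 5, 3, 2]) = true := by decide +kernel

theorem rot3_107 : T.rot 3 [2, 5, 3, 5, 3, 2, 3, 5, 1, 3, 2, 3, 5, 2, 5, 1, 3, 5, 1, 5, 2, 5, 3, 2, 3, 5] (sel (ones 170775) ip3 107) = true := by decide +kernel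

theorem rot3_107r : band (Rule.ok (2 * 5) EX RL ⟨3 :: [2, 5, 3, 5, 3, 2, 3, 5, 1, 3, 2, 3, 5, 2, 5, 1, 3, 5, 1, 5, 2, 5, 3, 2, 3, 5], [8, 4, 2, 4, 8, 4, 8, 2, 4], 24, true⟩) (lall (memL L) [2, 5, 3, 5, 3, 2, 3, 5, 1, 3, 2, 3, 5, 2, 5, 1, 3, 5, 1, 5, 2, 5, 3, 2, 3, 5]) = true := by decide +kernel

theorem rot3_108 : T.rot 3 [5, 3, 2, 3, 5, 1, 3, 2, 3, 5, 2, 5, 1, 3, 5, 1, 5, 2, 5, 3, 2, 3, 5, 3, 2, 5] (sel (ones 170775) ip3 108) = true := by decide +kernel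

theorem rot3_108r : band (Rule.ok (2 * 5) EX RL ⟨3 :: [5, 3, 2, 3, 5, 1, 3, 2, 3, 5, 2, 5, 1, 3, 5, 1, 5, 2, 5, 3, 2, 3, 5, 3, 2, 5], [8, 4, 2, 4, 8, 4], 24, true⟩) (lall (memL L) [5, 3, 2, 3, 5, 1, 3, 2, 3, 5, 2, 5, 1, 3, 5, 1, 5, 2, 5, 3, 2, 3, 5, 3, 2, 5]) = true := by decide +kernel

theorem rot3_109 : T.rot 3 [2, 3, 5, 1, 3, 2, 3, 5, 2, 5, 1, 3, 5, 1, 5, 2, 5, 3, 2, 3, 5, 3, 2, 5, 3, 5] (sel (ones 170775) ip3 109) = true := by decide +kernel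

theorem rot3_109r : band (Rule.ok (2 * 5) EX RL ⟨3 :: [2, 3, 5, 1, 3, 2, 3, 5, 2, 5, 1, 3, 5, 1, 5, 2, 5, 3, 2, 3, 5, 3, 2, 5, 3, 5], [8, 4, 2, 4], 24, true⟩) (lall (memL L) [2, 3, 5, 1, 3, 2, 3, 5, 2, 5, 1, 3, 5, 1, 5, 2, 5, 3, 2, 3, 5, 3, 2, 5, 3, 5]) = true := by decide +kernel

theorem rot3_110 : T.rot 3 [5, 1, 3, 2, 3, 5, 2, 5, 1, 3, 5, 1, 5, 2, 5, 3, 2, 3, 5, 3, 2, 5, 3, 5, 3, 2] (sel (ones 170775) ip3 110) = true := by decide +kernel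

theorem rot3_110r : band (Rule.ok (2 * 5) EX RL ⟨3 :: [5, 1, 3, 2, 3, 5, 2, 5, 1, 3, 5, 1, 5, 2, 5, 3, 2, 3, 5, 3, 2, 5, 3, 5, 3, 2], [8, 4], 24, true⟩) (lall (memL L) [5, 1, 3, 2, 3, 5, 2, 5, 1, 3, 5, 1, 5, 2, 5, 3, 2, 3, 5, 3, 2, 5, 3, 5, 3, 2]) = true := by decide +kernel

theorem rot3_111 : T.rot 3 [2, 3, 5, 3, 5, 2, 3, 5, 3, 2, 3, 5, 2, 5, 1, 5, 3, 1, 5, 2, 5, 3, 2, 3, 1, 5] (sel (ones 170775) ip3 111) = true := by decide +kernel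

theorem rot3_111r : band (Rule.ok (2 * 5) EX RL ⟨3 :: [2, 3, 5, 3, 5, 2, 3, 5, 3, 2, 3, 5, 2, 5, 1, 5, 3, 1, 5, 2, 5, 3, 2, 3, 1, 5], [8], 24, false⟩) (lall (memL L) [2, 3, 5, 3, 5, 2, 3, 5, 3, 2, 3, 5, 2, 5, 1, 5, 3, 1, 5, 2, 5, 3, 2, 3, 1, 5]) = true := by decide +kernel

theorem rot3_112 : T.rot 3 [5, 3, 5, 2, 3, 5, 3, 2, 3, 5, 2, 5, 1, 5, 3, 1, 5, 2, 5, 3, 2, 3, 1, 5, 3, 2] (sel (ones 170775) ip3 112) = true := by decide +kernel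

theorem rot3_112r : band (Rule.ok (2 * 5) EX RL ⟨3 :: [5, 3, 5, 2, 3, 5, 3, 2, 3, 5, 2, 5, 1, 5, 3, 1, 5, 2, 5, 3, 2, 3, 1, 5, 3, 2], [8, 4, 2], 24, false⟩) (lall (memL L) [5, 3, 5, 2, 3, 5, 3, 2, 3, 5, 2, 5, 1, 5, 3, 1, 5, 2, 5, 3, 2, 3, 1, 5, 3, 2]) = true := by decide +kernel

theorem rot3_113 : T.rot 3 [5, 2, 3, 5, 3, 2, 3, 5, 2, 5, 1, 5, 3, 1, 5, 2, 5, 3, 2, 3, 1, 5, 3, 2, 3, 5] (sel (ones 170775) ip3 113) = true := by decide +kernel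

theorem rot3_113r : band (Rule.ok (2 * 5) EX RL ⟨3 :: [5, 2, 3, 5, 3, 2, 3, 5, 2, 5, 1, 5, 3, 1, 5, 2, 5, 3, 2, 3, 1, 5, 3, 2, 3, 5], [8, 4, 2, 4, 8], 24, false⟩) (lall (memL L) [5, 2, 3, 5, 3, 2, 3, 5, 2, 5, 1, 5, 3, 1, 5, 2, 5, 3, 2, 3, 1, 5, 3, 2, 3, 5]) = true := by decide +kernel

theorem rot3_114 : T.rot 3 [5, 3, 2, 3, 5, 2, 5, 1, 5, 3, 1, 5, 2, 5, 3, 2, 3, 1, 5, 3, 2, 3, 5, 3, 5, 2] (sel (ones 170775) ip3 114) = true := by decide +kernel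

theorem rot3_114r : band (Rule.ok (2 * 5) EX RL ⟨3 :: [5, 3, 2, 3, 5, 2, 5, 1, 5, 3, 1, 5, 2, 5, 3, 2, 3, 1, 5, 3, 2, 3, 5, 3, 5, 2], [8, 4, 2, 4, 8, 4, 8, 2], 24, false⟩) (lall (memL L) [5, 3, 2, 3, 5, 2, 5, 1, 5, 3, 1, 5, 2, 5, 3, 2, 3, 1, 5, 3, 2, 3, 5, 3, 5, 2]) = true := by decide +kernel

theorem rot3_115 : T.rot 3 [2, 3, 5, 2, 5, 1, 5, 3, 1, 5, 2, 5, 3, 2, 3, 1, 5, 3, 2, 3, 5, 3, 5, 2, 3, 5] (sel (ones 170775) ip3 115) = true := by decide +kernel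

theorem rot3_115r : band (Rule.ok (2 * 5) EX RL ⟨3 :: [2, 3, 5, 2, 5, 1, 5, 3, 1, 5, 2, 5, 3, 2, 3, 1, 5, 3, 2, 3, 5, 3, 5, 2, 3, 5], [8, 4, 2, 4, 8, 4, 8, 2, 4, 8], 24, false⟩) (lall (memL L) [2, 3, 5, 2, 5, 1, 5, 3, 1, 5, 2, 5, 3, 2, 3, 1, 5, 3, 2, 3, 5, 3, 5, 2, 3, 5]) = true := by decide +kernel

theorem rot3_116 : T.rot 3 [5, 2, 5, 1, 5, 3, 1, 5, 2, 5, 3, 2, 3, 1, 5, 3, 2, 3, 5, 3, 5, 2, 3, 5, 3, 2] (sel (ones 170775) ip3 116) = true := by decide +kernel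

theorem rot3_116r : band (Rule.ok (2 * 5) EX RL ⟨3 :: [5, 2, 5, 1, 5, 3, 1, 5, 2, 5, 3, 2, 3, 1, 5, 3, 2, 3, 5, 3, 5, 2, 3, 5, 3, 2], [8, 4, 2, 4, 8, 4, 8, 2, 4, 8, 4, 2], 24, false⟩) (lall (memL L) [5, 2, 5, 1, 5, 3, 1, 5, 2, 5, 3, 2, 3, 1, 5, 3, 2, 3, 5, 3, 5, 2, 3, 5, 3, 2]) = true := by decide +kernel

theorem rot3_117 : T.rot 3 [1, 5, 2, 5, 3, 2, 3, 1, 5, 3, 2, 3, 5, 3, 5, 2, 3, 5, 3, 2, 3, 5, 2, 5, 1, 5] (sel (ones 170775) ip3 117) = true := by decide +kernel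

theorem rot3_117r : band (Rule.ok (2 * 5) EX RL ⟨3 :: [1, 5, 2, 5, 3, 2, 3, 1, 5, 3, 2, 3, 5, 3, 5, 2, 3, 5, 3, 2, 3, 5, 2, 5, 1, 5], [0, 4, 2, 4, 8, 2, 8, 0, 4], 24, false⟩) (lall (memL L) [1, 5, 2, 5, 3, 2, 3, 1, 5, 3, 2, 3, 5, 3, 5, 2, 3, 5, 3, 2, 3, 5, 2, 5, 1, 5]) = true := by decide +kernel

theorem rot3_118 : T.rot 3 [2, 3, 1, 5, 3, 2, 3, 5, 3, 5, 2, 3, 5, 3, 2, 3, 5, 2, 5, 1, 5, 3, 1, 5, 2, 5] (sel (ones 170775) ip3 118) = true := by decide +kernel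

theorem rot3_118r : band (Rule.ok (2 * 5) EX RL ⟨3 :: [2, 3, 1, 5, 3, 2, 3, 5, 3, 5, 2, 3, 5, 3, 2, 3, 5, 2, 5, 1, 5, 3, 1, 5, 2, 5], [0, 4, 2, 4], 24, false⟩) (lall (memL L) [2, 3, 1, 5, 3, 2, 3, 5, 3, 5, 2, 3, 5, 3, 2, 3, 5, 2, 5, 1, 5, 3, 1, 5, 2, 5]) = true := by decide +kernel

theorem rot3_119 : T.rot 3 [1, 5, 3, 2, 3, 5, 3, 5, 2, 3, 5, 3, 2, 3, 5, 2, 5, 1, 5, 3, 1, 5, 2, 5, 3, 2] (sel (ones 170775) ip3 119) = true := by decide +kernel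

theorem rot3_119r : band (Rule.ok (2 * 5) EX RL ⟨3 :: [1, 5, 3, 2, 3, 5, 3, 5, 2, 3, 5, 3, 2, 3, 5, 2, 5, 1, 5, 3, 1, 5, 2, 5, 3, 2], [0, 4], 24, false⟩) (lall (memL L) [1, 5, 3, 2, 3, 5, 3, 5, 2, 3, 5, 3, 2, 3, 5, 2, 5, 1, 5, 3, 1, 5, 2, 5, 3, 2]) = true := by decide +kernel

theorem cov3 : T.cover 3 [(sel (ones 170775) ip3 1), (sel (ones 170775) ip3 2), (sel (ones 170775) ip3 3), (sel (ones 170775) ip3 4), (sel (ones 170775) ip3 5), (sel (ones 170775) ip3 6), (sel (ones 170775) ip3 7), (sel (ones 170775) ip3 8), (sel (ones 170775) ip3 9), (sel (ones 170775) ip3 10), (sel (ones 170775) ip3 11), (sel (ones 170775) ip3 12), (sel (ones 170775) ip3 13), (sel (ones 170775) ip3 14), (sel (ones 170775) ip3 15), (sel (ones 170775) ip3 16), (sel (ones 170775) ip3 17), (sel (ones 170775)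 ip3 18), (sel (ones 170775) ip3 19), (sel (ones 170775) ip3 20), (sel (ones 170775) ip3 21), (sel (ones 170775) ip3 22), (sel (ones 170775) ip3 23), (sel (ones 170775) ip3 24), (sel (ones 170775) ip3 25), (sel (ones 170775) ip3 26), (sel (ones 170775) ip3 27), (sel (ones 170775) ip3 28), (sel (ones 170775) ip3 29), (sel (ones 170775) ip3 30), (sel (ones 170775) ip3 31), (sel (ones 170775) ip3 32), (sel (ones 170775) ip3 33), (sel (ones 170775) ip3 34), (sel (ones 170775) ip3 35), (sel (ones 170775) ip3 36), (sel (ones 170775) ip3 37), (sel (ones 170775) ip3 38), (sel (ones 170775) ip3 39), (sel (ones 170775) ip3 40), (sel (ones 170775) ip3 41), (sel (ones 170775) ip3 42), (sel (ones 170775) ip3 43), (sel (ones 170775) ip3 44), (sel (ones 170775) ip3 45), (sel (ones 170775) ip3 46),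 (sel (ones 170775) ip3 47), (sel (ones 170775) ip3 48), (sel (ones 170775) ip3 49), (sel (ones 170775) ip3 50), (sel (ones 170775) ip3 51), (sel (ones 170775) ip3 52), (sel (ones 170775) ip3 53), (sel (ones 170775) ip3 54), (sel (ones 170775) ip3 55), (sel (ones 170775) ip3 56), (sel (ones 170775) ip3 57), (sel (ones 170775) ip3 58), (sel (ones 170775) ip3 59), (sel (ones 170775) ip3 60), (sel (ones 170775) ip3 61), (sel (ones 170775) ip3 62), (sel (ones 170775) ip3 63), (sel (ones 170775) ip3 64), (sel (ones 170775) ip3 65), (sel (ones 170775) ip3 66), (sel (ones 170775) ip3 67), (sel (ones 170775) ip3 68), (sel (ones 170775) ip3 69), (sel (ones 170775) ip3 70), (sel (ones 170775) ip3 71), (sel (ones 170775) ip3 72), (sel (ones 170775) ip3 73), (sel (ones 170775) ip3 74), (sel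 (ones 170775) ip3 75), (sel (ones 170775) ip3 76), (sel (ones 170775) ip3 77), (sel (ones 170775) ip3 78), (sel (ones 170775) ip3 79), (sel (ones 170775) ip3 80), (sel (ones 170775) ip3 81), (sel (ones 170775) ip3 82), (sel (ones 170775) ip3 83), (sel (ones 170775) ip3 84), (sel (ones 170775) ip3 85), (sel (ones 170775) ip3 86), (sel (ones 170775) ip3 87), (sel (ones 170775) ip3 88), (sel (ones 170775) ip3 89), (sel (ones 170775) ip3 90), (sel (ones 170775) ip3 91), (sel (ones 170775) ip3 92), (sel (ones 170775) ip3 93), (sel (ones 170775) ip3 94), (sel (ones 170775) ip3 95), (sel (ones 170775) ip3 96), (sel (ones 170775) ip3 97), (sel (ones 170775) ip3 98), (sel (ones 170775) ip3 99), (sel (ones 170775) ip3 100), (sel (ones 170775) ip3 101), (sel (ones 170775) ip3 102), (sel (ones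 170775) ip3 103), (sel (ones 170775) ip3 104), (sel (ones 170775) ip3 105), (sel (ones 170775) ip3 106), (sel (ones 170775) ip3 107), (sel (ones 170775) ip3 108), (sel (ones 170775) ip3 109), (sel (ones 170775) ip3 110), (sel (ones 170775) ip3 111), (sel (ones 170775) ip3 112), (sel (ones 170775) ip3 113), (sel (ones 170775) ip3 114), (sel (ones 170775) ip3 115), (sel (ones 170775) ip3 116), (sel (ones 170775) ip3 117), (sel (ones 170775) ip3 118), (sel (ones 170775) ip3 119), 1] = true := by decide +kernel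

theorem tl3 : T.treeLt 18 3 = true := by decide +kernel

theorem rot4_1 : T.rot 4 [4] (sel (ones 170775) ip4 1) = true := by decide +kernel

theorem rot4_1r : band (Rule.ok (2 * 5) EX RL ⟨4 :: [4], [], 28, false⟩) (lall (memL L) [4]) = true := by decide +kernel

theorem rot4_2 : T.rot 4 [1, 4, 1, 4, 1] (sel (ones 170775) ip4 2) = true := by decide +kernel

theorem rot4_2r : band (Rule.ok (2 * 5) EX RL ⟨4 :: [1, 4, 1, 4, 1], [], 19, true⟩) (lall (memL L) [1, 4, 1, 4, 1]) = true := by decide +kernel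

theorem rot4_3 : T.rot 4 [5, 3, 5, 3, 4, 5] (sel (ones 170775) ip4 3) = true := by decide +kernel

theorem rot4_3r : band (Rule.ok (2 * 5) EX RL ⟨4 :: [5, 3, 5, 3, 4, 5], [], 11, true⟩) (lall (memL L) [5, 3, 5, 3, 4, 5]) = true := by decide +kernel

theorem rot4_4 : T.rot 4 [5, 4, 5, 3, 5, 3] (sel (ones 170775) ip4 4) = true := by decide +kernel

theorem rot4_4r : band (Rule.ok (2 * 5) EX RL ⟨4 :: [5, 4, 5, 3, 5, 3], [8, 6], 11, true⟩) (lall (memL L) [5, 4, 5, 3, 5, 3]) = true := by decide +kernel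

theorem rot4_5 : T.rot 4 [3, 5, 3, 5, 4, 5] (sel (ones 170775) ip4 5) = true := by decide +kernel

theorem rot4_5r : band (Rule.ok (2 * 5) EX RL ⟨4 :: [3, 5, 3, 5, 4, 5], [8], 11, false⟩) (lall (memL L) [3, 5, 3, 5, 4, 5]) = true := by decide +kernel

theorem rot4_6 : T.rot 4 [5, 4, 3, 5, 3, 5] (sel (ones 170775) ip4 6) = true := by decide +kernel

theorem rot4_6r : band (Rule.ok (2 * 5) EX RL ⟨4 :: [5, 4, 3, 5, 3, 5], [6], 11, false⟩) (lall (memL L) [5, 4, 3, 5, 3, 5]) = true := by decide +kernel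

theorem rot4_7 : T.rot 4 [5, 4, 5, 4, 5, 4, 5] (sel (ones 170775) ip4 7) = true := by decide +kernel

theorem rot4_7r : band (Rule.ok (2 * 5) EX RL ⟨4 :: [5, 4, 5, 4, 5, 4, 5], [], 7, false⟩) (lall (memL L) [5, 4, 5, 4, 5, 4, 5]) = true := by decide +kernel

theorem rot4_8 : T.rot 4 [2, 4, 2, 4, 2, 4, 2, 4, 2, 4, 2] (sel (ones 170775) ip4 8) = true := by decide +kernel

theorem rot4_8r : band (Rule.ok (2 * 5) EX RL ⟨4 :: [2, 4, 2, 4, 2, 4, 2, 4, 2, 4, 2], [], 6, true⟩) (lall (memL L) [2, 4, 2, 4, 2, 4, 2, 4, 2, 4, 2]) = true := by decide +kernel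

theorem rot4_9 : T.rot 4 [3, 4, 3, 4, 3, 4, 3, 4, 3, 4, 3] (sel (ones 170775) ip4 9) = true := by decide +kernel

theorem rot4_9r : band (Rule.ok (2 * 5) EX RL ⟨4 :: [3, 4, 3, 4, 3, 4, 3, 4, 3, 4, 3], [], 10, true⟩) (lall (memL L) [3, 4, 3, 4, 3, 4, 3, 4, 3, 4, 3]) = true := by decide +kernel

theorem rot4_10 : T.rot 4 [5, 1, 2, 4, 2, 5, 4, 5, 2, 4, 2, 4, 5, 2, 5, 1] (sel (ones 170775) ip4 10) = true := by decide +kernel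

theorem rot4_10r : band (Rule.ok (2 * 5) EX RL ⟨4 :: [5, 1, 2, 4, 2, 5, 4, 5, 2, 4, 2, 4, 5, 2, 5, 1], [0], 20, true⟩) (lall (memL L) [5, 1, 2, 4, 2, 5, 4, 5, 2, 4, 2, 4, 5, 2, 5, 1]) = true := by decide +kernel

theorem rot4_11 : T.rot 4 [2, 5, 4, 5, 2, 4, 2, 4, 5, 2, 5, 1, 4, 5, 1, 2] (sel (ones 170775) ip4 11) = true := by decide +kernel

theorem rot4_11r : band (Rule.ok (2 * 5) EX RL ⟨4 :: [2, 5, 4, 5, 2, 4, 2, 4, 5, 2, 5, 1, 4, 5, 1, 2], [0, 6, 8, 0, 2], 20, true⟩) (lall (memL L) [2, 5, 4, 5, 2, 4, 2, 4, 5, 2, 5, 1, 4, 5, 1, 2]) = true := by decide +kernel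

theorem rot4_12 : T.rot 4 [5, 2, 4, 2, 4, 5, 2, 5, 1, 4, 5, 1, 2, 4, 2, 5] (sel (ones 170775) ip4 12) = true := by decide +kernel

theorem rot4_12r : band (Rule.ok (2 * 5) EX RL ⟨4 :: [5, 2, 4, 2, 4, 5, 2, 5, 1, 4, 5, 1, 2, 4, 2, 5], [0, 6, 8, 0, 2, 6, 2, 8], 20, true⟩) (lall (memL L) [5, 2, 4, 2, 4, 5, 2, 5, 1, 4, 5, 1, 2, 4, 2, 5]) = true := by decide +kernel

theorem rot4_13 : T.rot 4 [2, 4, 5, 2, 5, 1, 4, 5, 1, 2, 4, 2, 5, 4, 5, 2] (sel (ones 170775) ip4 13) = true := by decide +kernel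

theorem rot4_13r : band (Rule.ok (2 * 5) EX RL ⟨4 :: [2, 4, 5, 2, 5, 1, 4, 5, 1, 2, 4, 2, 5, 4, 5, 2], [8, 2, 8, 6, 2, 6], 20, true⟩) (lall (memL L) [2, 4, 5, 2, 5, 1, 4, 5, 1, 2, 4, 2, 5, 4, 5, 2]) = true := by decide +kernel

theorem rot4_14 : T.rot 4 [5, 2, 5, 1, 4, 5, 1, 2, 4, 2, 5, 4, 5, 2, 4, 2] (sel (ones 170775) ip4 14) = true := by decide +kernel

theorem rot4_14r : band (Rule.ok (2 * 5) EX RL ⟨4 :: [5, 2, 5, 1, 4, 5, 1, 2, 4, 2, 5, 4, 5, 2, 4, 2], [8, 2, 8, 6], 20, true⟩) (lall (memL L) [5, 2, 5, 1, 4, 5, 1, 2, 4, 2, 5, 4, 5, 2, 4, 2]) = true := by decide +kernel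

theorem rot4_15 : T.rot 4 [2, 4, 2, 5, 4, 5, 2, 4, 2, 1, 5, 4, 1, 5, 2, 5] (sel (ones 170775) ip4 15) = true := by decide +kernel

theorem rot4_15r : band (Rule.ok (2 * 5) EX RL ⟨4 :: [2, 4, 2, 5, 4, 5, 2, 4, 2, 1, 5, 4, 1, 5, 2, 5], [8, 2, 8], 20, false⟩) (lall (memL L) [2, 4, 2, 5, 4, 5, 2, 4, 2, 1, 5, 4, 1, 5, 2, 5]) = true := by decide +kernel

theorem rot4_16 : T.rot 4 [2, 5, 4, 5, 2, 4, 2, 1, 5, 4, 1, 5, 2, 5, 4, 2] (sel (ones 170775) ip4 16) = true := by decide +kernel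

theorem rot4_16r : band (Rule.ok (2 * 5) EX RL ⟨4 :: [2, 5, 4, 5, 2, 4, 2, 1, 5, 4, 1, 5, 2, 5, 4, 2], [8, 2, 8, 6, 2], 20, false⟩) (lall (memL L) [2, 5, 4, 5, 2, 4, 2, 1, 5, 4, 1, 5, 2, 5, 4, 2]) = true := by decide +kernel

theorem rot4_17 : T.rot 4 [5, 2, 4, 2, 1, 5, 4, 1, 5, 2, 5, 4, 2, 4, 2, 5] (sel (ones 170775) ip4 17) = true := by decide +kernel

theorem rot4_17r : band (Rule.ok (2 * 5) EX RL ⟨4 :: [5, 2, 4, 2, 1, 5, 4, 1, 5, 2, 5, 4, 2, 4, 2, 5], [8, 2, 8, 6, 2, 6, 2, 8], 20, false⟩) (lall (memL L) [5, 2, 4, 2, 1, 5, 4, 1, 5, 2, 5, 4, 2, 4, 2, 5]) = true := by decide +kernel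

theorem rot4_18 : T.rot 4 [2, 1, 5, 4, 1, 5, 2, 5, 4, 2, 4, 2, 5, 4, 5, 2] (sel (ones 170775) ip4 18) = true := by decide +kernel

theorem rot4_18r : band (Rule.ok (2 * 5) EX RL ⟨4 :: [2, 1, 5, 4, 1, 5, 2, 5, 4, 2, 4, 2, 5, 4, 5, 2], [0, 6, 8, 0, 2, 6], 20, false⟩) (lall (memL L) [2, 1, 5, 4, 1, 5, 2, 5, 4, 2, 4, 2, 5, 4, 5, 2]) = true := by decide +kernel

theorem rot4_19 : T.rot 4 [1, 5, 2, 5, 4, 2, 4, 2, 5, 4, 5, 2, 4, 2, 1, 5] (sel (ones 170775) ip4 19) = true := by decide +kernel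

theorem rot4_19r : band (Rule.ok (2 * 5) EX RL ⟨4 :: [1, 5, 2, 5, 4, 2, 4, 2, 5, 4, 5, 2, 4, 2, 1, 5], [0, 6], 20, false⟩) (lall (memL L) [1, 5, 2, 5, 4, 2, 4, 2, 5, 4, 5, 2, 4, 2, 1, 5]) = true := by decide +kernel

theorem rot4_20 : T.rot 4 [2, 4, 5, 2, 4, 2, 5, 2, 4, 2, 4, 5, 2, 4, 2, 5, 2] (sel (ones 170775) ip4 20) = true := by decide +kernel

theorem rot4_20r : band (Rule.ok (2 * 5) EX RL ⟨4 :: [2, 4, 5, 2, 4, 2, 5, 2, 4, 2, 4, 5, 2, 4, 2, 5, 2], [2], 9, true⟩) (lall (memL L) [2, 4, 5, 2, 4, 2, 5, 2, 4, 2, 4, 5, 2, 4, 2, 5, 2]) = true := by decide +kernel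

theorem rot4_21 : T.rot 4 [5, 2, 4, 2, 5, 2, 4, 2, 4, 5, 2, 4, 2, 5, 2, 4, 2] (sel (ones 170775) ip4 21) = true := by decide +kernel

theorem rot4_21r : band (Rule.ok (2 * 5) EX RL ⟨4 :: [5, 2, 4, 2, 5, 2, 4, 2, 4, 5, 2, 4, 2, 5, 2, 4, 2], [2, 6, 2], 9, true⟩) (lall (memL L) [5, 2, 4, 2, 5, 2, 4, 2, 4, 5, 2, 4, 2, 5, 2, 4, 2]) = true := by decide +kernel

theorem rot4_22 : T.rot 4 [2, 5, 2, 4, 2, 4, 5, 2, 4, 2, 5, 2, 4, 2, 4, 5, 2] (sel (ones 170775) ip4 22) = true := by decide +kernel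

theorem rot4_22r : band (Rule.ok (2 * 5) EX RL ⟨4 :: [2, 5, 2, 4, 2, 4, 5, 2, 4, 2, 5, 2, 4, 2, 4, 5, 2], [8, 2, 6], 9, true⟩) (lall (memL L) [2, 5, 2, 4, 2, 4, 5, 2, 4, 2, 5, 2, 4, 2, 4, 5, 2]) = true := by decide +kernel

theorem rot4_23 : T.rot 4 [2, 5, 4, 2, 4, 2, 5, 2, 4, 2, 5, 4, 2, 4, 2, 5, 2] (sel (ones 170775) ip4 23) = true := by decide +kernel

theorem rot4_23r : band (Rule.ok (2 * 5) EX RL ⟨4 :: [2, 5, 4, 2, 4, 2, 5, 2, 4, 2, 5, 4, 2, 4, 2, 5, 2], [8, 2], 9, false⟩) (lall (memL L) [2, 5, 4, 2, 4, 2, 5, 2, 4, 2, 5, 4, 2, 4, 2, 5, 2]) = true := by decide +kernel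

theorem rot4_24 : T.rot 4 [2, 4, 2, 5, 2, 4, 2, 5, 4, 2, 4, 2, 5, 2, 4, 2, 5] (sel (ones 170775) ip4 24) = true := by decide +kernel

theorem rot4_24r : band (Rule.ok (2 * 5) EX RL ⟨4 :: [2, 4, 2, 5, 2, 4, 2, 5, 4, 2, 4, 2, 5, 2, 4, 2, 5], [2, 6, 2, 6], 9, false⟩) (lall (memL L) [2, 4, 2, 5, 2, 4, 2, 5, 4, 2, 4, 2, 5, 2, 4, 2, 5]) = true := by decide +kernel

theorem rot4_25 : T.rot 4 [2, 5, 2, 4, 2, 5, 4, 2, 4, 2, 5, 2, 4, 2, 5, 4, 2] (sel (ones 170775) ip4 25) = true := by decide +kernel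

theorem rot4_25r : band (Rule.ok (2 * 5) EX RL ⟨4 :: [2, 5, 2, 4, 2, 5, 4, 2, 4, 2, 5, 2, 4, 2, 5, 4, 2], [2, 6], 9, false⟩) (lall (memL L) [2, 5, 2, 4, 2, 5, 4, 2, 4, 2, 5, 2, 4, 2, 5, 4, 2]) = true := by decide +kernel

theorem rot4_26 : T.rot 4 [2, 4, 2, 4, 5, 4, 2, 5, 4, 5, 4, 2, 4, 2, 5, 2, 5, 2] (sel (ones 170775) ip4 26) = true := by decide +kernel

theorem rot4_26r : band (Rule.ok (2 * 5) EX RL ⟨4 :: [2, 4, 2, 4, 5, 4, 2, 5, 4, 5, 4, 2, 4, 2, 5, 2, 5, 2], [2], 8, true⟩) (lall (memL L) [2, 4, 2, 4, 5, 4, 2, 5, 4, 5, 4, 2, 4, 2, 5, 2, 5, 2]) = true := by decide +kernel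

theorem rot4_27 : T.rot 4 [2, 4, 5, 4, 2, 5, 4, 5, 4, 2, 4, 2, 5, 2, 5, 2, 4, 2] (sel (ones 170775) ip4 27) = true := by decide +kernel

theorem rot4_27r : band (Rule.ok (2 * 5) EX RL ⟨4 :: [2, 4, 5, 4, 2, 5, 4, 5, 4, 2, 4, 2, 5, 2, 5, 2, 4, 2], [2, 6, 2], 8, true⟩) (lall (memL L) [2, 4, 5, 4, 2, 5, 4, 5, 4, 2, 4, 2, 5, 2, 5, 2, 4, 2]) = true := by decide +kernel

theorem rot4_28 : T.rot 4 [5, 4, 2, 5, 4, 5, 4, 2, 4, 2, 5, 2, 5, 2, 4, 2, 4, 2] (sel (ones 170775) ip4 28) = true := by decide +kernel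

theorem rot4_28r : band (Rule.ok (2 * 5) EX RL ⟨4 :: [5, 4, 2, 5, 4, 5, 4, 2, 4, 2, 5, 2, 5, 2, 4, 2, 4, 2], [2, 6, 2, 6, 2], 8, true⟩) (lall (memL L) [5, 4, 2, 5, 4, 5, 4, 2, 4, 2, 5, 2, 5, 2, 4, 2, 4, 2]) = true := by decide +kernel

theorem rot4_29 : T.rot 4 [2, 5, 4, 5, 4, 2, 4, 2, 5, 2, 5, 2, 4, 2, 4, 2, 4, 5] (sel (ones 170775) ip4 29) = true := by decide +kernel

theorem rot4_29r : band (Rule.ok (2 * 5) EX RL ⟨4 :: [2, 5, 4, 5, 4, 2, 4, 2, 5, 2, 5, 2, 4, 2, 4, 2, 4, 5], [2, 6, 2, 6, 2, 6, 8], 8, true⟩) (lall (memL L) [2, 5, 4, 5, 4, 2, 4, 2, 5, 2, 5, 2, 4, 2, 4, 2, 4, 5]) = true := by decide +kernel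

theorem rot4_30 : T.rot 4 [5, 4, 2, 4, 2, 5, 2, 5, 2, 4, 2, 4, 2, 4, 5, 4, 2, 5] (sel (ones 170775) ip4 30) = true := by decide +kernel

theorem rot4_30r : band (Rule.ok (2 * 5) EX RL ⟨4 :: [5, 4, 2, 4, 2, 5, 2, 5, 2, 4, 2, 4, 2, 4, 5, 4, 2, 5], [8, 2, 8, 2, 6, 2, 6, 8, 6], 8, true⟩) (lall (memL L) [5, 4, 2, 4, 2, 5, 2, 5, 2, 4, 2, 4, 2, 4, 5, 4, 2, 5]) = true := by decide +kernel

theorem rot4_31 : T.rot 4 [2, 4, 2, 5, 2, 5, 2, 4, 2, 4, 2, 4, 5, 4, 2, 5, 4, 5] (sel (ones 170775) ip4 31) = true := by decide +kernel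

theorem rot4_31r : band (Rule.ok (2 * 5) EX RL ⟨4 :: [2, 4, 2, 5, 2, 5, 2, 4, 2, 4, 2, 4, 5, 4, 2, 5, 4, 5], [8, 2, 8, 2, 6, 2, 6], 8, true⟩) (lall (memL L) [2, 4, 2, 5, 2, 5, 2, 4, 2, 4, 2, 4, 5, 4, 2, 5, 4, 5]) = true := by decide +kernel

theorem rot4_32 : T.rot 4 [2, 5, 2, 5, 2, 4, 2, 4, 2, 4, 5, 4, 2, 5, 4, 5, 4, 2] (sel (ones 170775) ip4 32) = true := by decide +kernel

theorem rot4_32r : band (Rule.ok (2 * 5) EX RL ⟨4 :: [2, 5, 2, 5, 2, 4, 2, 4, 2, 4, 5, 4, 2, 5, 4, 5, 4, 2], [8, 2, 8, 2, 6], 8, true⟩) (lall (memL L) [2, 5, 2, 5, 2, 4, 2, 4, 2, 4, 5, 4, 2, 5, 4, 5, 4, 2]) = true := by decide +kernel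

theorem rot4_33 : T.rot 4 [2, 4, 5, 4, 5, 2, 4, 5, 4, 2, 4, 2, 4, 2, 5, 2, 5, 2] (sel (ones 170775) ip4 33) = true := by decide +kernel

theorem rot4_33r : band (Rule.ok (2 * 5) EX RL ⟨4 :: [2, 4, 5, 4, 5, 2, 4, 5, 4, 2, 4, 2, 4, 2, 5, 2, 5, 2], [8, 2, 8, 2], 8, false⟩) (lall (memL L) [2, 4, 5, 4, 5, 2, 4, 5, 4, 2, 4, 2, 4, 2, 5, 2, 5, 2]) = true := by decide +kernel

theorem rot4_34 : T.rot 4 [5, 4, 5, 2, 4, 5, 4, 2, 4, 2, 4, 2, 5, 2, 5, 2, 4, 2] (sel (ones 170775) ip4 34) = true := by decide +kernel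

theorem rot4_34r : band (Rule.ok (2 * 5) EX RL ⟨4 :: [5, 4, 5, 2, 4, 5, 4, 2, 4, 2, 4, 2, 5, 2, 5, 2, 4, 2], [8, 2, 8, 2, 6, 2], 8, false⟩) (lall (memL L) [5, 4, 5, 2, 4, 5, 4, 2, 4, 2, 4, 2, 5, 2, 5, 2, 4, 2]) = true := by decide +kernel

theorem rot4_35 : T.rot 4 [5, 2, 4, 5, 4, 2, 4, 2, 4, 2, 5, 2, 5, 2, 4, 2, 4, 5] (sel (ones 170775) ip4 35) = true := by decide +kernel

theorem rot4_35r : band (Rule.ok (2 * 5) EX RL ⟨4 :: [5, 2, 4, 5, 4, 2, 4, 2, 4, 2, 5, 2, 5, 2, 4, 2, 4, 5], [8, 2, 8, 2, 6, 2, 6, 8], 8, false⟩) (lall (memL L) [5, 2, 4, 5, 4, 2, 4, 2, 4, 2, 5, 2, 5, 2, 4, 2, 4, 5]) = true := by decide +kernel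

theorem rot4_36 : T.rot 4 [5, 4, 2, 4, 2, 4, 2, 5, 2, 5, 2, 4, 2, 4, 5, 4, 5, 2] (sel (ones 170775) ip4 36) = true := by decide +kernel

theorem rot4_36r : band (Rule.ok (2 * 5) EX RL ⟨4 :: [5, 4, 2, 4, 2, 4, 2, 5, 2, 5, 2, 4, 2, 4, 5, 4, 5, 2], [2, 6, 2, 6, 2, 6, 8, 6], 8, false⟩) (lall (memL L) [5, 4, 2, 4, 2, 4, 2, 5, 2, 5, 2, 4, 2, 4, 5, 4, 5, 2]) = true := by decide +kernel

theorem rot4_37 : T.rot 4 [2, 4, 2, 4, 2, 5, 2, 5, 2, 4, 2, 4, 5, 4, 5, 2, 4, 5] (sel (ones 170775) ip4 37) = true := by decide +kernel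

theorem rot4_37r : band (Rule.ok (2 * 5) EX RL ⟨4 :: [2, 4, 2, 4, 2, 5, 2, 5, 2, 4, 2, 4, 5, 4, 5, 2, 4, 5], [2, 6, 2, 6, 2, 6], 8, false⟩) (lall (memL L) [2, 4, 2, 4, 2, 5, 2, 5, 2, 4, 2, 4, 5, 4, 5, 2, 4, 5]) = true := by decide +kernel

theorem rot4_38 : T.rot 4 [2, 4, 2, 5, 2, 5, 2, 4, 2, 4, 5, 4, 5, 2, 4, 5, 4, 2] (sel (ones 170775) ip4 38) = true := by decide +kernel

theorem rot4_38r : band (Rule.ok (2 * 5) EX RL ⟨4 :: [2, 4, 2, 5, 2, 5, 2, 4, 2, 4, 5, 4, 5, 2, 4, 5, 4, 2], [2, 6, 2, 6], 8, false⟩) (lall (memL L) [2, 4, 2, 5, 2, 5, 2, 4, 2, 4, 5, 4, 5, 2, 4, 5, 4, 2]) = true := by decide +kernel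

theorem rot4_39 : T.rot 4 [2, 5, 2, 5, 2, 4, 2, 4, 5, 4, 5, 2, 4, 5, 4, 2, 4, 2] (sel (ones 170775) ip4 39) = true := by decide +kernel

theorem rot4_39r : band (Rule.ok (2 * 5) EX RL ⟨4 :: [2, 5, 2, 5, 2, 4, 2, 4, 5, 4, 5, 2, 4, 5, 4, 2, 4, 2], [2, 6], 8, false⟩) (lall (memL L) [2, 5, 2, 5, 2, 4, 2, 4, 5, 4, 5, 2, 4, 5, 4, 2, 4, 2]) = true := by decide +kernel

theorem rot4_40 : T.rot 4 [2, 4, 2, 4, 3, 5, 2, 3, 2, 5, 2, 3, 5, 2, 5, 3, 2, 3] (sel (ones 170775) ip4 40) = true := by decide +kernel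

theorem rot4_40r : band (Rule.ok (2 * 5) EX RL ⟨4 :: [2, 4, 2, 4, 3, 5, 2, 3, 2, 5, 2, 3, 5, 2, 5, 3, 2, 3], [], 12, true⟩) (lall (memL L) [2, 4, 2, 4, 3, 5, 2, 3, 2, 5, 2, 3, 5, 2, 5, 3, 2, 3]) = true := by decide +kernel

theorem rot4_41 : T.rot 4 [2, 4, 3, 5, 2, 3, 2, 5, 2, 3, 5, 2, 5, 3, 2, 3, 4, 2] (sel (ones 170775) ip4 41) = true := by decide +kernel

theorem rot4_41r : band (Rule.ok (2 * 5) EX RL ⟨4 :: [2, 4, 3, 5, 2, 3, 2, 5, 2, 3, 5, 2, 5, 3, 2, 3, 4, 2], [6, 2], 12, true⟩) (lall (memL L) [2, 4, 3, 5, 2, 3, 2, 5, 2, 3, 5, 2, 5, 3, 2, 3, 4, 2]) = true := by decide +kernel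

theorem rot4_42 : T.rot 4 [3, 5, 2, 3, 2, 5, 2, 3, 5, 2, 5, 3, 2, 3, 4, 2, 4, 2] (sel (ones 170775) ip4 42) = true := by decide +kernel

theorem rot4_42r : band (Rule.ok (2 * 5) EX RL ⟨4 :: [3, 5, 2, 3, 2, 5, 2, 3, 5, 2, 5, 3, 2, 3, 4, 2, 4, 2], [6, 2, 6, 2], 12, true⟩) (lall (memL L) [3, 5, 2, 3, 2, 5, 2, 3, 5, 2, 5, 3, 2, 3, 4, 2, 4, 2]) = true := by decide +kernel

theorem rot4_43 : T.rot 4 [2, 4, 2, 4, 3, 2, 3, 5, 2, 5, 3, 2, 5, 2, 3, 2, 5, 3] (sel (ones 170775) ip4 43) = true := by decide +kernel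

theorem rot4_43r : band (Rule.ok (2 * 5) EX RL ⟨4 :: [2, 4, 2, 4, 3, 2, 3, 5, 2, 5, 3, 2, 5, 2, 3, 2, 5, 3], [6, 2, 6, 2, 6], 12, false⟩) (lall (memL L) [2, 4, 2, 4, 3, 2, 3, 5, 2, 5, 3, 2, 5, 2, 3, 2, 5, 3]) = true := by decide +kernel

theorem rot4_44 : T.rot 4 [2, 4, 3, 2, 3, 5, 2, 5, 3, 2, 5, 2, 3, 2, 5, 3, 4, 2] (sel (ones 170775) ip4 44) = true := by decide +kernel

theorem rot4_44r : band (Rule.ok (2 * 5) EX RL ⟨4 :: [2, 4, 3, 2, 3, 5, 2, 5, 3, 2, 5, 2, 3, 2, 5, 3, 4, 2], [6, 2, 6], 12, false⟩) (lall (memL L) [2, 4, 3, 2, 3, 5, 2, 5, 3, 2, 5, 2, 3, 2, 5, 3, 4, 2]) = true := by decide +kernel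

theorem rot4_45 : T.rot 4 [3, 2, 3, 5, 2, 5, 3, 2, 5, 2, 3, 2, 5, 3, 4, 2, 4, 2] (sel (ones 170775) ip4 45) = true := by decide +kernel

theorem rot4_45r : band (Rule.ok (2 * 5) EX RL ⟨4 :: [3, 2, 3, 5, 2, 5, 3, 2, 5, 2, 3, 2, 5, 3, 4, 2, 4, 2], [6], 12, false⟩) (lall (memL L) [3, 2, 3, 5, 2, 5, 3, 2, 5, 2, 3, 2, 5, 3, 4, 2, 4, 2]) = true := by decide +kernel

theorem rot4_46 : T.rot 4 [2, 4, 1, 4, 2, 5, 2, 5, 4, 5, 2, 5, 4, 5, 4, 2, 4, 1] (sel (ones 170775) ip4 46) = true := by decide +kernel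

theorem rot4_46r : band (Rule.ok (2 * 5) EX RL ⟨4 :: [2, 4, 1, 4, 2, 5, 2, 5, 4, 5, 2, 5, 4, 5, 4, 2, 4, 1], [0], 21, true⟩) (lall (memL L) [2, 4, 1, 4, 2, 5, 2, 5, 4, 5, 2, 5, 4, 5, 4, 2, 4, 1]) = true := by decide +kernel

theorem rot4_47 : T.rot 4 [1, 4, 2, 5, 2, 5, 4, 5, 2, 5, 4, 5, 4, 2, 4, 1, 4, 2] (sel (ones 170775) ip4 47) = true := by decide +kernel

theorem rot4_47r : band (Rule.ok (2 * 5) EX RL ⟨4 :: [1, 4, 2, 5, 2, 5, 4, 5, 2, 5, 4, 5, 4, 2, 4, 1, 4, 2], [0, 6, 2], 21, true⟩) (lall (memL L) [1, 4, 2, 5, 2, 5, 4, 5, 2, 5, 4, 5, 4, 2, 4, 1, 4, 2]) = true := by decide +kernel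

theorem rot4_48 : T.rot 4 [2, 5, 2, 5, 4, 5, 2, 5, 4, 5, 4, 2, 4, 1, 4, 2, 4, 1] (sel (ones 170775) ip4 48) = true := by decide +kernel

theorem rot4_48r : band (Rule.ok (2 * 5) EX RL ⟨4 :: [2, 5, 2, 5, 4, 5, 2, 5, 4, 5, 4, 2, 4, 1, 4, 2, 4, 1], [0, 6, 2, 6, 0], 21, true⟩) (lall (memL L) [2, 5, 2, 5, 4, 5, 2, 5, 4, 5, 4, 2, 4, 1, 4, 2, 4, 1]) = true := by decide +kernel

theorem rot4_49 : T.rot 4 [5, 2, 5, 4, 5, 4, 2, 4, 1, 4, 2, 4, 1, 4, 2, 5, 2, 5] (sel (ones 170775) ip4 49) = true := by decide +kernel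

theorem rot4_49r : band (Rule.ok (2 * 5) EX RL ⟨4 :: [5, 2, 5, 4, 5, 4, 2, 4, 1, 4, 2, 4, 1, 4, 2, 5, 2, 5], [6, 2, 6, 8, 6, 8, 2, 8, 6], 21, true⟩) (lall (memL L) [5, 2, 5, 4, 5, 4, 2, 4, 1, 4, 2, 4, 1, 4, 2, 5, 2, 5]) = true := by decide +kernel

theorem rot4_50 : T.rot 4 [5, 4, 2, 4, 1, 4, 2, 4, 1, 4, 2, 5, 2, 5, 4, 5, 2, 5] (sel (ones 170775) ip4 50) = true := by decide +kernel

theorem rot4_50r : band (Rule.ok (2 * 5) EX RL ⟨4 :: [5, 4, 2, 4, 1, 4, 2, 4, 1, 4, 2, 5, 2, 5, 4, 5, 2, 5], [6, 2, 6, 8, 6], 21, true⟩) (lall (memL L) [5, 4, 2, 4, 1, 4, 2, 4, 1, 4, 2, 5, 2, 5, 4, 5, 2, 5]) = true := by decide +kernel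

theorem rot4_51 : T.rot 4 [2, 4, 1, 4, 2, 4, 1, 4, 2, 5, 2, 5, 4, 5, 2, 5, 4, 5] (sel (ones 170775) ip4 51) = true := by decide +kernel

theorem rot4_51r : band (Rule.ok (2 * 5) EX RL ⟨4 :: [2, 4, 1, 4, 2, 4, 1, 4, 2, 5, 2, 5, 4, 5, 2, 5, 4, 5], [6, 2, 6], 21, true⟩) (lall (memL L) [2, 4, 1, 4, 2, 4, 1, 4, 2, 5, 2, 5, 4, 5, 2, 5, 4, 5]) = true := by decide +kernel

theorem rot4_52 : T.rot 4 [1, 4, 2, 4, 1, 4, 2, 5, 2, 5, 4, 5, 2, 5, 4, 5, 4, 2] (sel (ones 170775) ip4 52) = true := by decide +kernel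

theorem rot4_52r : band (Rule.ok (2 * 5) EX RL ⟨4 :: [1, 4, 2, 4, 1, 4, 2, 5, 2, 5, 4, 5, 2, 5, 4, 5, 4, 2], [6], 21, true⟩) (lall (memL L) [1, 4, 2, 4, 1, 4, 2, 5, 2, 5, 4, 5, 2, 5, 4, 5, 4, 2]) = true := by decide +kernel

theorem rot4_53 : T.rot 4 [2, 4, 5, 4, 5, 2, 5, 4, 5, 2, 5, 2, 4, 1, 4, 2, 4, 1] (sel (ones 170775) ip4 53) = true := by decide +kernel

theorem rot4_53r : band (Rule.ok (2 * 5) EX RL ⟨4 :: [2, 4, 5, 4, 5, 2, 5, 4, 5, 2, 5, 2, 4, 1, 4, 2, 4, 1], [], 21, false⟩) (lall (memL L) [2, 4, 5, 4, 5, 2, 5, 4, 5, 2, 5, 2, 4, 1, 4, 2, 4, 1]) = true := by decide +kernel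

theorem rot4_54 : T.rot 4 [5, 4, 5, 2, 5, 4, 5, 2, 5, 2, 4, 1, 4, 2, 4, 1, 4, 2] (sel (ones 170775) ip4 54) = true := by decide +kernel

theorem rot4_54r : band (Rule.ok (2 * 5) EX RL ⟨4 :: [5, 4, 5, 2, 5, 4, 5, 2, 5, 2, 4, 1, 4, 2, 4, 1, 4, 2], [6, 2], 21, false⟩) (lall (memL L) [5, 4, 5, 2, 5, 4, 5, 2, 5, 2, 4, 1, 4, 2, 4, 1, 4, 2]) = true := by decide +kernel

end Cfsg.Agent.Spor.C3M
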