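import Cfsg.Agent.Spor.C3M.T

set_option autoImplicit false
set_option maxRecDepth 100000000
set_option Elab.async false

namespace Cfsg.Agent.Spor.C3M

theorem rot4_55 : T.rot 4 [5, 2, 5, 4, 5, 2, 5, 2, 4, 1, 4, 2, 4, 1, 4, 2, 4, 5] (sel (ones 170775) ip4 55) = true := by decide +kernel

theorem rot4_55r : band (Rule.ok (2 * 5) EX RL ⟨4 :: [5, 2, 5, 4, 5, 2, 5, 2, 4, 1, 4, 2, 4, 1, 4, 2, 4, 5], [6, 2, 6, 8], 21, false⟩) (lall (memL L) [5, 2, 5, 4, 5, 2, 5, 2, 4, 1, 4, 2, 4, 1, 4, 2, 4, 5]) = true := by decide +kernel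

theorem rot4_56 : T.rot 4 [5, 2, 5, 2, 4, 1, 4, 2, 4, 1, 4, 2, 4, 5, 4, 5, 2, 5] (sel (ones 170775) ip4 56) = true := by decide +kernel

theorem rot4_56r : band (Rule.ok (2 * 5) EX RL ⟨4 :: [5, 2, 5, 2, 4, 1, 4, 2, 4, 1, 4, 2, 4, 5, 4, 5, 2, 5], [6, 2, 6, 8, 6, 8, 2, 8], 21, false⟩) (lall (memL L) [5, 2, 5, 2, 4, 1, 4, 2, 4, 1, 4, 2, 4, 5, 4, 5, 2, 5]) = true := by decide +kernel

theorem rot4_57 : T.rot 4 [1, 4, 2, 4, 1, 4, 2, 4, 5, 4, 5, 2, 5, 4, 5, 2, 5, 2] (sel (ones 170775) ip4 57) = true := by decide +kernel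

theorem rot4_57r : band (Rule.ok (2 * 5) EX RL ⟨4 :: [1, 4, 2, 4, 1, 4, 2, 4, 5, 4, 5, 2, 5, 4, 5, 2, 5, 2], [0, 6, 2, 6, 0, 6], 21, false⟩) (lall (memL L) [1, 4, 2, 4, 1, 4, 2, 4, 5, 4, 5, 2, 5, 4, 5, 2, 5, 2]) = true := by decide +kernel

theorem rot4_58 : T.rot 4 [2, 4, 1, 4, 2, 4, 5, 4, 5, 2, 5, 4, 5, 2, 5, 2, 4, 1] (sel (ones 170775) ip4 58) = true := by decide +kernel

theorem rot4_58r : band (Rule.ok (2 * 5) EX RL ⟨4 :: [2, 4, 1, 4, 2, 4, 5, 4, 5, 2, 5, 4, 5, 2, 5, 2, 4, 1], [0, 6, 2, 6], 21, false⟩) (lall (memL L) [2, 4, 1, 4, 2, 4, 5, 4, 5, 2, 5, 4, 5, 2, 5, 2, 4, 1]) = true := by decide +kernel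

theorem rot4_59 : T.rot 4 [1, 4, 2, 4, 5, 4, 5, 2, 5, 4, 5, 2, 5, 2, 4, 1, 4, 2] (sel (ones 170775) ip4 59) = true := by decide +kernel

theorem rot4_59r : band (Rule.ok (2 * 5) EX RL ⟨4 :: [1, 4, 2, 4, 5, 4, 5, 2, 5, 4, 5, 2, 5, 2, 4, 1, 4, 2], [0, 6], 21, false⟩) (lall (memL L) [1, 4, 2, 4, 5, 4, 5, 2, 5, 4, 5, 2, 5, 2, 4, 1, 4, 2]) = true := by decide +kernel

theorem rot4_60 : T.rot 4 [3, 2, 3, 4, 2, 3, 4, 3, 4, 3, 2, 4, 3, 2, 3, 4, 2, 5, 2] (sel (ones 170775) ip4 60) = true := by decide +kernel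

theorem rot4_60r : band (Rule.ok (2 * 5) EX RL ⟨4 :: [3, 2, 3, 4, 2, 3, 4, 3, 4, 3, 2, 4, 3, 2, 3, 4, 2, 5, 2], [], 13, true⟩) (lall (memL L) [3, 2, 3, 4, 2, 3, 4, 3, 4, 3, 2, 4, 3, 2, 3, 4, 2, 5, 2]) = true := by decide +kernel

theorem rot4_61 : T.rot 4 [2, 3, 4, 3, 4, 3, 2, 4, 3, 2, 3, 4, 2, 5, 2, 4, 3, 2, 3] (sel (ones 170775) ip4 61) = true := by decide +kernel

theorem rot4_61r : band (Rule.ok (2 * 5) EX RL ⟨4 :: [2, 3, 4, 3, 4, 3, 2, 4, 3, 2, 3, 4, 2, 5, 2, 4, 3, 2, 3], [6, 4, 2, 4], 13, true⟩) (lall (memL L) [2, 3, 4, 3, 4, 3, 2, 4, 3, 2, 3, 4, 2, 5, 2, 4, 3, 2, 3]) = true := by decide +kernel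

theorem rot4_62 : T.rot 4 [3, 4, 3, 2, 4, 3, 2, 3, 4, 2, 5, 2, 4, 3, 2, 3, 4, 2, 3] (sel (ones 170775) ip4 62) = true := by decide +kernel

theorem rot4_62r : band (Rule.ok (2 * 5) EX RL ⟨4 :: [3, 4, 3, 2, 4, 3, 2, 3, 4, 2, 5, 2, 4, 3, 2, 3, 4, 2, 3], [6, 4, 2, 4, 6, 2, 4], 13, true⟩) (lall (memL L) [3, 4, 3, 2, 4, 3, 2, 3, 4, 2, 5, 2, 4, 3, 2, 3, 4, 2, 3]) = true := by decide +kernel

theorem rot4_63 : T.rot 4 [3, 2, 4, 3, 2, 3, 4, 2, 5, 2, 4, 3, 2, 3, 4, 2, 3, 4, 3] (sel (ones 170775) ip4 63) = true := by decide +kernel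

theorem rot4_63r : band (Rule.ok (2 * 5) EX RL ⟨4 :: [3, 2, 4, 3, 2, 3, 4, 2, 5, 2, 4, 3, 2, 3, 4, 2, 3, 4, 3], [6, 4, 2, 4, 6, 2, 4, 6], 13, false⟩) (lall (memL L) [3, 2, 4, 3, 2, 3, 4, 2, 5, 2, 4, 3, 2, 3, 4, 2, 3, 4, 3]) = true := by decide +kernel

theorem rot4_64 : T.rot 4 [3, 2, 3, 4, 2, 5, 2, 4, 3, 2, 3, 4, 2, 3, 4, 3, 4, 3, 2] (sel (ones 170775) ip4 64) = true := by decide +kernel

theorem rot4_64r : band (Rule.ok (2 * 5) EX RL ⟨4 :: [3, 2, 3, 4, 2, 5, 2, 4, 3, 2, 3, 4, 2, 3, 4, 3, 4, 3, 2], [6, 4, 2, 4, 6], 13, false⟩) (lall (memL L) [3, 2, 3, 4, 2, 5, 2, 4, 3, 2, 3, 4, 2, 3, 4, 3, 4, 3, 2]) = true := by decide +kernel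

theorem rot4_65 : T.rot 4 [2, 5, 2, 4, 3, 2, 3, 4, 2, 3, 4, 3, 4, 3, 2, 4, 3, 2, 3] (sel (ones 170775) ip4 65) = true := by decide +kernel

theorem rot4_65r : band (Rule.ok (2 * 5) EX RL ⟨4 :: [2, 5, 2, 4, 3, 2, 3, 4, 2, 3, 4, 3, 4, 3, 2, 4, 3, 2, 3], [6], 13, false⟩) (lall (memL L) [2, 5, 2, 4, 3, 2, 3, 4, 2, 3, 4, 3, 4, 3, 2, 4, 3, 2, 3]) = true := by decide +kernel

theorem cov4 : T.cover 4 [(sel (ones 170775) ip4 1), (sel (ones 170775) ip4 2), (sel (ones 170775) ip4 3), (sel (ones 170775) ip4 4), (sel (ones 170775) ip4 5), (sel (ones 170775) ip4 6), (sel (ones 170775) ip4 7), (sel (ones 170775) ip4 8), (sel (ones 170775) ip4 9), (sel (ones 170775) ip4 10), (sel (ones 170775) ip4 11), (sel (ones 170775) ip4 12), (sel (ones 170775) ip4 13), (sel (ones 170775) ip4 14), (sel (ones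 170775) ip4 15), (sel (ones 170775) ip4 16), (sel (ones 170775) ip4 17), (sel (ones 170775) ip4 18), (sel (ones 170775) ip4 19), (sel (ones 170775) ip4 20), (sel (ones 170775) ip4 21), (sel (ones 170775) ip4 22), (sel (ones 170775) ip4 23), (sel (ones 170775) ip4 24), (sel (ones 170775) ip4 25), (sel (ones 170775) ip4 26), (sel (ones 170775) ip4 27), (sel (ones 170775) ip4 28), (sel (ones 170775) ip4 29), (sel (ones 170775) ip4 30), (sel (ones 170775) ip4 31), (sel (ones 170775) ip4 32), (sel (ones 170775) ip4 33), (sel (ones 170775) ip4 34), (sel (ones 170775) ip4 35), (sel (ones 170775) ip4 36), (sel (ones 170775) ip4 37), (sel (ones 170775) ip4 38), (sel (ones 170775) ip4 39), (sel (ones 170775) ip4 40), (sel (ones 170775) ip4 41), (sel (ones 170775) ip4 42), (sel (ones 170775)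 ip4 43), (sel (ones 170775) ip4 44), (sel (ones 170775) ip4 45), (sel (ones 170775) ip4 46), (sel (ones 170775) ip4 47), (sel (ones 170775) ip4 48), (sel (ones 170775) ip4 49), (sel (ones 170775) ip4 50), (sel (ones 170775) ip4 51), (sel (ones 170775) ip4 52), (sel (ones 170775) ip4 53), (sel (ones 170775) ip4 54), (sel (ones 170775) ip4 55), (sel (ones 170775) ip4 56), (sel (ones 170775) ip4 57), (sel (ones 170775) ip4 58), (sel (ones 170775) ip4 59), (sel (ones 170775) ip4 60), (sel (ones 170775) ip4 61), (sel (ones 170775) ip4 62), (sel (ones 170775) ip4 63), (sel (ones 170775) ip4 64), (sel (ones 170775) ip4 65), 1] = true := by decide +kernel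

theorem tl4 : T.treeLt 18 4 = true := by decide +kernel

theorem rot5_1 : T.rot 5 [5] (sel (ones 170775) ip5 1) = true := by decide +kernel

theorem rot5_1r : band (Rule.ok (2 * 5) EX RL ⟨5 :: [5], [], 28, false⟩) (lall (memL L) [5]) = true := by decide +kernel

theorem rot5_2 : T.rot 5 [3, 5, 3, 4, 5, 4] (sel (ones 170775) ip5 2) = true := by decide +kernel

theorem rot5_2r : band (Rule.ok (2 * 5) EX RL ⟨5 :: [3, 5, 3, 4, 5, 4], [6], 11, true⟩) (lall (memL L) [3, 5, 3, 4, 5, 4]) = true := by decide +kernel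

theorem rot5_3 : T.rot 5 [3, 4, 5, 4, 5, 3] (sel (ones 170775) ip5 3) = true := by decide +kernel

theorem rot5_3r : band (Rule.ok (2 * 5) EX RL ⟨5 :: [3, 4, 5, 4, 5, 3], [6, 8, 4], 11, true⟩) (lall (memL L) [3, 4, 5, 4, 5, 3]) = true := by decide +kernel

theorem rot5_4 : T.rot 5 [4, 5, 3, 5, 3, 4] (sel (ones 170775) ip5 4) = true := by decide +kernel

theorem rot5_4r : band (Rule.ok (2 * 5) EX RL ⟨5 :: [4, 5, 3, 5, 3, 4], [8], 11, true⟩) (lall (memL L) [4, 5, 3, 5, 3, 4]) = true := by decide +kernel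

theorem rot5_5 : T.rot 5 [4, 3, 5, 3, 5, 4] (sel (ones 170775) ip5 5) = true := by decide +kernel

theorem rot5_5r : band (Rule.ok (2 * 5) EX RL ⟨5 :: [4, 3, 5, 3, 5, 4], [], 11, false⟩) (lall (memL L) [4, 3, 5, 3, 5, 4]) = true := by decide +kernel

theorem rot5_6 : T.rot 5 [3, 5, 4, 5, 4, 3] (sel (ones 170775) ip5 6) = true := by decide +kernel

theorem rot5_6r : band (Rule.ok (2 * 5) EX RL ⟨5 :: [3, 5, 4, 5, 4, 3], [8, 6, 4], 11, false⟩) (lall (memL L) [3, 5, 4, 5, 4, 3]) = true := by decide +kernel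

theorem rot5_7 : T.rot 5 [4, 5, 4, 3, 5, 3] (sel (ones 170775) ip5 7) = true := by decide +kernel

theorem rot5_7r : band (Rule.ok (2 * 5) EX RL ⟨5 :: [4, 5, 4, 3, 5, 3], [6, 8], 11, false⟩) (lall (memL L) [4, 5, 4, 3, 5, 3]) = true := by decide +kernel

theorem rot5_8 : T.rot 5 [3, 5, 3, 5, 3, 5, 3] (sel (ones 170775) ip5 8) = true := by decide +kernel

theorem rot5_8r : band (Rule.ok (2 * 5) EX RL ⟨5 :: [3, 5, 3, 5, 3, 5, 3], [], 2, true⟩) (lall (memL L) [3, 5, 3, 5, 3, 5, 3]) = true := by decide +kernel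

theorem rot5_9 : T.rot 5 [4, 5, 4, 5, 4, 5, 4] (sel (ones 170775) ip5 9) = true := by decide +kernel

theorem rot5_9r : band (Rule.ok (2 * 5) EX RL ⟨5 :: [4, 5, 4, 5, 4, 5, 4], [], 7, true⟩) (lall (memL L) [4, 5, 4, 5, 4, 5, 4]) = true := by decide +kernel

theorem rot5_10 : T.rot 5 [2, 5, 2, 5, 2, 5, 2, 5, 2, 5, 2] (sel (ones 170775) ip5 10) = true := by decide +kernel

theorem rot5_10r : band (Rule.ok (2 * 5) EX RL ⟨5 :: [2, 5, 2, 5, 2, 5, 2, 5, 2, 5, 2], [], 1, true⟩) (lall (memL L) [2, 5, 2, 5, 2, 5, 2, 5, 2, 5, 2]) = true := by decide +kernel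

theorem rot5_11 : T.rot 5 [1, 5, 1, 5, 1, 5, 1, 5, 1, 5, 1] (sel (ones 170775) ip5 11) = true := by decide +kernel

theorem rot5_11r : band (Rule.ok (2 * 5) EX RL ⟨5 :: [1, 5, 1, 5, 1, 5, 1, 5, 1, 5, 1], [], 15, true⟩) (lall (memL L) [1, 5, 1, 5, 1, 5, 1, 5, 1, 5, 1]) = true := by decide +kernel

theorem rot5_12 : T.rot 5 [1, 5, 2, 1, 2, 1, 5, 1, 5, 1, 2, 1, 2] (sel (ones 170775) ip5 12) = true := by decide +kernel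

theorem rot5_12r : band (Rule.ok (2 * 5) EX RL ⟨5 :: [1, 5, 2, 1, 2, 1, 5, 1, 5, 1, 2, 1, 2], [0, 2, 0, 2], 16, true⟩) (lall (memL L) [1, 5, 2, 1, 2, 1, 5, 1, 5, 1, 2, 1, 2]) = true := by decide +kernel

theorem rot5_13 : T.rot 5 [2, 1, 2, 1, 5, 1, 5, 1, 2, 1, 2, 5, 1] (sel (ones 170775) ip5 13) = true := by decide +kernel

theorem rot5_13r : band (Rule.ok (2 * 5) EX RL ⟨5 :: [2, 1, 2, 1, 5, 1, 5, 1, 2, 1, 2, 5, 1], [0, 2, 0, 2, 8], 16, false⟩) (lall (memL L) [2, 1, 2, 1, 5, 1, 5, 1, 2, 1, 2, 5, 1]) = true := by decide +kernel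

theorem rot5_14 : T.rot 5 [1, 5, 1, 2, 1, 2, 5, 1, 5, 2, 1, 2, 1] (sel (ones 170775) ip5 14) = true := by decide +kernel

theorem rot5_14r : band (Rule.ok (2 * 5) EX RL ⟨5 :: [1, 5, 1, 2, 1, 2, 5, 1, 5, 2, 1, 2, 1], [], 16, false⟩) (lall (memL L) [1, 5, 1, 2, 1, 2, 5, 1, 5, 2, 1, 2, 1]) = true := by decide +kernel

theorem rot5_15 : T.rot 5 [1, 2, 1, 2, 5, 1, 5, 2, 1, 2, 1, 5, 1] (sel (ones 170775) ip5 15) = true := by decide +kernel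

theorem rot5_15r : band (Rule.ok (2 * 5) EX RL ⟨5 :: [1, 2, 1, 2, 5, 1, 5, 2, 1, 2, 1, 5, 1], [8], 16, true⟩) (lall (memL L) [1, 2, 1, 2, 5, 1, 5, 2, 1, 2, 1, 5, 1]) = true := by decide +kernel

theorem rot5_16 : T.rot 5 [2, 3, 2, 3, 5, 3, 2, 3, 2, 5, 2, 3, 2, 3] (sel (ones 170775) ip5 16) = true := by decide +kernel

theorem rot5_16r : band (Rule.ok (2 * 5) EX RL ⟨5 :: [2, 3, 2, 3, 5, 3, 2, 3, 2, 5, 2, 3, 2, 3], [2, 4, 2, 4], 3, true⟩) (lall (memL L) [2, 3, 2, 3, 5, 3, 2, 3, 2, 5, 2, 3, 2, 3]) = true := by decide +kernel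

theorem rot5_17 : T.rot 5 [3, 2, 3, 2, 5, 2, 3, 2, 3, 5, 2, 3, 2, 3] (sel (ones 170775) ip5 17) = true := by decide +kernel

theorem rot5_17r : band (Rule.ok (2 * 5) EX RL ⟨5 :: [3, 2, 3, 2, 5, 2, 3, 2, 3, 5, 2, 3, 2, 3], [8, 2, 4, 2, 4, 8], 3, true⟩) (lall (memL L) [3, 2, 3, 2, 5, 2, 3, 2, 3, 5, 2, 3, 2, 3]) = true := by decide +kernel

theorem rot5_18 : T.rot 5 [2, 3, 2, 3, 5, 2, 3, 2, 3, 5, 3, 2, 3, 2] (sel (ones 170775) ip5 18) = true := by decide +kernel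

theorem rot5_18r : band (Rule.ok (2 * 5) EX RL ⟨5 :: [2, 3, 2, 3, 5, 2, 3, 2, 3, 5, 3, 2, 3, 2], [8], 3, true⟩) (lall (memL L) [2, 3, 2, 3, 5, 2, 3, 2, 3, 5, 3, 2, 3, 2]) = true := by decide +kernel

theorem rot5_19 : T.rot 5 [2, 3, 2, 3, 5, 3, 2, 3, 2, 5, 3, 2, 3, 2] (sel (ones 170775) ip5 19) = true := by decide +kernel

theorem rot5_19r : band (Rule.ok (2 * 5) EX RL ⟨5 :: [2, 3, 2, 3, 5, 3, 2, 3, 2, 5, 3, 2, 3, 2], [], 3, false⟩) (lall (memL L) [2, 3, 2, 3, 5, 3, 2, 3, 2, 5, 3, 2, 3, 2]) = true := by decide +kernel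

theorem rot5_20 : T.rot 5 [3, 2, 3, 2, 5, 3, 2, 3, 2, 5, 2, 3, 2, 3] (sel (ones 170775) ip5 20) = true := by decide +kernel

theorem rot5_20r : band (Rule.ok (2 * 5) EX RL ⟨5 :: [3, 2, 3, 2, 5, 3, 2, 3, 2, 5, 2, 3, 2, 3], [8, 2, 4, 2, 4], 3, false⟩) (lall (memL L) [3, 2, 3, 2, 5, 3, 2, 3, 2, 5, 2, 3, 2, 3]) = true := by decide +kernel

theorem rot5_21 : T.rot 5 [3, 2, 3, 2, 5, 2, 3, 2, 3, 5, 3, 2, 3, 2] (sel (ones 170775) ip5 21) = true := by decide +kernel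

theorem rot5_21r : band (Rule.ok (2 * 5) EX RL ⟨5 :: [3, 2, 3, 2, 5, 2, 3, 2, 3, 5, 3, 2, 3, 2], [2, 4, 2, 4, 8], 3, false⟩) (lall (memL L) [3, 2, 3, 2, 5, 2, 3, 2, 3, 5, 3, 2, 3, 2]) = true := by decide +kernel

theorem rot5_22 : T.rot 5 [2, 5, 2, 3, 1, 3, 2, 5, 2, 5, 2, 3, 1, 3, 2] (sel (ones 170775) ip5 22) = true := by decide +kernel

theorem rot5_22r : band (Rule.ok (2 * 5) EX RL ⟨5 :: [2, 5, 2, 3, 1, 3, 2, 5, 2, 5, 2, 3, 1, 3, 2], [4, 2], 26, false⟩) (lall (memL L) [2, 5, 2, 3, 1, 3, 2, 5, 2, 5, 2, 3, 1, 3, 2]) = true := by decide +kernel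

theorem rot5_23 : T.rot 5 [2, 3, 1, 3, 2, 5, 2, 5, 2, 3, 1, 3, 2, 5, 2] (sel (ones 170775) ip5 23) = true := by decide +kernel

theorem rot5_23r : band (Rule.ok (2 * 5) EX RL ⟨5 :: [2, 3, 1, 3, 2, 5, 2, 5, 2, 3, 1, 3, 2, 5, 2], [4, 2, 8], 26, true⟩) (lall (memL L) [2, 3, 1, 3, 2, 5, 2, 5, 2, 3, 1, 3, 2, 5, 2]) = true := by decide +kernel

theorem rot5_24 : T.rot 5 [1, 2, 4, 2, 5, 4, 5, 2, 4, 2, 4, 5, 2, 5, 1, 4] (sel (ones 170775) ip5 24) = true := by decide +kernel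

theorem rot5_24r : band (Rule.ok (2 * 5) EX RL ⟨5 :: [1, 2, 4, 2, 5, 4, 5, 2, 4, 2, 4, 5, 2, 5, 1, 4], [0, 6], 20, true⟩) (lall (memL L) [1, 2, 4, 2, 5, 4, 5, 2, 4, 2, 4, 5, 2, 5, 1, 4]) = true := by decide +kernel

theorem rot5_25 : T.rot 5 [4, 5, 2, 4, 2, 4, 5, 2, 5, 1, 4, 5, 1, 2, 4, 2] (sel (ones 170775) ip5 25) = true := by decide +kernel

theorem rot5_25r : band (Rule.ok (2 * 5) EX RL ⟨5 :: [4, 5, 2, 4, 2, 4, 5, 2, 5, 1, 4, 5, 1, 2, 4, 2], [0, 6, 8, 0, 2, 6, 2], 20, true⟩) (lall (memL L) [4, 5, 2, 4, 2, 4, 5, 2, 5, 1, 4, 5, 1, 2, 4, 2]) = true := by decide +kernel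

theorem rot5_26 : T.rot 5 [2, 4, 2, 4, 5, 2, 5, 1, 4, 5, 1, 2, 4, 2, 5, 4] (sel (ones 170775) ip5 26) = true := by decide +kernel

theorem rot5_26r : band (Rule.ok (2 * 5) EX RL ⟨5 :: [2, 4, 2, 4, 5, 2, 5, 1, 4, 5, 1, 2, 4, 2, 5, 4], [8, 2, 8, 6, 2, 6, 2, 8], 20, true⟩) (lall (memL L) [2, 4, 2, 4, 5, 2, 5, 1, 4, 5, 1, 2, 4, 2, 5, 4]) = true := by decide +kernel

theorem rot5_27 : T.rot 5 [2, 5, 1, 4, 5, 1, 2, 4, 2, 5, 4, 5, 2, 4, 2, 4] (sel (ones 170775) ip5 27) = true := by decide +kernel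

theorem rot5_27r : band (Rule.ok (2 * 5) EX RL ⟨5 :: [2, 5, 1, 4, 5, 1, 2, 4, 2, 5, 4, 5, 2, 4, 2, 4], [8, 2, 8], 20, true⟩) (lall (memL L) [2, 5, 1, 4, 5, 1, 2, 4, 2, 5, 4, 5, 2, 4, 2, 4]) = true := by decide +kernel

theorem rot5_28 : T.rot 5 [1, 4, 5, 1, 2, 4, 2, 5, 4, 5, 2, 4, 2, 4, 5, 2] (sel (ones 170775) ip5 28) = true := by decide +kernel

theorem rot5_28r : band (Rule.ok (2 * 5) EX RL ⟨5 :: [1, 4, 5, 1, 2, 4, 2, 5, 4, 5, 2, 4, 2, 4, 5, 2], [8], 20, true⟩) (lall (memL L) [1, 4, 5, 1, 2, 4, 2, 5, 4, 5, 2, 4, 2, 4, 5, 2]) = true := by decide +kernel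

theorem rot5_29 : T.rot 5 [2, 5, 4, 2, 4, 2, 5, 4, 5, 2, 4, 2, 1, 5, 4, 1] (sel (ones 170775) ip5 29) = true := by decide +kernel

theorem rot5_29r : band (Rule.ok (2 * 5) EX RL ⟨5 :: [2, 5, 4, 2, 4, 2, 5, 4, 5, 2, 4, 2, 1, 5, 4, 1], [], 20, false⟩) (lall (memL L) [2, 5, 4, 2, 4, 2, 5, 4, 5, 2, 4, 2, 1, 5, 4, 1]) = true := by decide +kernel

theorem rot5_30 : T.rot 5 [4, 2, 4, 2, 5, 4, 5, 2, 4, 2, 1, 5, 4, 1, 5, 2] (sel (ones 170775) ip5 30) = true := by decide +kernel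

theorem rot5_30r : band (Rule.ok (2 * 5) EX RL ⟨5 :: [4, 2, 4, 2, 5, 4, 5, 2, 4, 2, 1, 5, 4, 1, 5, 2], [8, 2], 20, false⟩) (lall (memL L) [4, 2, 4, 2, 5, 4, 5, 2, 4, 2, 1, 5, 4, 1, 5, 2]) = true := by decide +kernel

theorem rot5_31 : T.rot 5 [4, 5, 2, 4, 2, 1, 5, 4, 1, 5, 2, 5, 4, 2, 4, 2] (sel (ones 170775) ip5 31) = true := by decide +kernel

theorem rot5_31r : band (Rule.ok (2 * 5) EX RL ⟨5 :: [4, 5, 2, 4, 2, 1, 5, 4, 1, 5, 2, 5, 4, 2, 4, 2], [8, 2, 8, 6, 2, 6, 2], 20, false⟩) (lall (memL L) [4, 5, 2, 4, 2, 1, 5, 4, 1, 5, 2, 5, 4, 2, 4, 2]) = true := by decide +kernel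

theorem rot5_32 : T.rot 5 [2, 4, 2, 1, 5, 4, 1, 5, 2, 5, 4, 2, 4, 2, 5, 4] (sel (ones 170775) ip5 32) = true := by decide +kernel

theorem rot5_32r : band (Rule.ok (2 * 5) EX RL ⟨5 :: [2, 4, 2, 1, 5, 4, 1, 5, 2, 5, 4, 2, 4, 2, 5, 4], [0, 6, 8, 0, 2, 6, 2, 8], 20, false⟩) (lall (memL L) [2, 4, 2, 1, 5, 4, 1, 5, 2, 5, 4, 2, 4, 2, 5, 4]) = true := by decide +kernel

theorem rot5_33 : T.rot 5 [4, 1, 5, 2, 5, 4, 2, 4, 2, 5, 4, 5, 2, 4, 2, 1] (sel (ones 170775) ip5 33) = true := by decide +kernel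

theorem rot5_33r : band (Rule.ok (2 * 5) EX RL ⟨5 :: [4, 1, 5, 2, 5, 4, 2, 4, 2, 5, 4, 5, 2, 4, 2, 1], [0, 6, 8], 20, false⟩) (lall (memL L) [4, 1, 5, 2, 5, 4, 2, 4, 2, 5, 4, 5, 2, 4, 2, 1]) = true := by decide +kernel

theorem rot5_34 : T.rot 5 [2, 4, 2, 5, 2, 4, 2, 4, 5, 2, 4, 2, 5, 2, 4, 2, 4] (sel (ones 170775) ip5 34) = true := by decide +kernel

theorem rot5_34r : band (Rule.ok (2 * 5) EX RL ⟨5 :: [2, 4, 2, 5, 2, 4, 2, 4, 5, 2, 4, 2, 5, 2, 4, 2, 4], [2, 6, 2, 6], 9, true⟩) (lall (memL L) [2, 4, 2, 5, 2, 4, 2, 4, 5, 2, 4, 2, 5, 2, 4, 2, 4]) = true := by decide +kernel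

theorem rot5_35 : T.rot 5 [2, 4, 2, 4, 5, 2, 4, 2, 5, 2, 4, 2, 4, 5, 2, 4, 2] (sel (ones 170775) ip5 35) = true := by decide +kernel

theorem rot5_35r : band (Rule.ok (2 * 5) EX RL ⟨5 :: [2, 4, 2, 4, 5, 2, 4, 2, 5, 2, 4, 2, 4, 5, 2, 4, 2], [8], 9, true⟩) (lall (memL L) [2, 4, 2, 4, 5, 2, 4, 2, 5, 2, 4, 2, 4, 5, 2, 4, 2]) = true := by decide +kernel

theorem rot5_36 : T.rot 5 [2, 4, 2, 5, 4, 2, 4, 2, 5, 2, 4, 2, 5, 4, 2, 4, 2] (sel (ones 170775) ip5 36) = true := by decide +kernel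

theorem rot5_36r : band (Rule.ok (2 * 5) EX RL ⟨5 :: [2, 4, 2, 5, 4, 2, 4, 2, 5, 2, 4, 2, 5, 4, 2, 4, 2], [], 9, false⟩) (lall (memL L) [2, 4, 2, 5, 4, 2, 4, 2, 5, 2, 4, 2, 5, 4, 2, 4, 2]) = true := by decide +kernel

theorem rot5_37 : T.rot 5 [4, 2, 4, 2, 5, 2, 4, 2, 5, 4, 2, 4, 2, 5, 2, 4, 2] (sel (ones 170775) ip5 37) = true := by decide +kernel

theorem rot5_37r : band (Rule.ok (2 * 5) EX RL ⟨5 :: [4, 2, 4, 2, 5, 2, 4, 2, 5, 4, 2, 4, 2, 5, 2, 4, 2], [8, 2, 6, 2], 9, false⟩) (lall (memL L) [4, 2, 4, 2, 5, 2, 4, 2, 5, 4, 2, 4, 2, 5, 2, 4, 2]) = true := by decide +kernel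

theorem rot5_38 : T.rot 5 [1, 2, 5, 1, 2, 5, 1, 2, 5, 1, 2, 5, 1, 2, 5, 1, 2] (sel (ones 170775) ip5 38) = true := by decide +kernel

theorem rot5_38r : band (Rule.ok (2 * 5) EX RL ⟨5 :: [1, 2, 5, 1, 2, 5, 1, 2, 5, 1, 2, 5, 1, 2, 5, 1, 2], [8], 18, true⟩) (lall (memL L) [1, 2, 5, 1, 2, 5, 1, 2, 5, 1, 2, 5, 1, 2, 5, 1, 2]) = true := by decide +kernel

theorem rot5_39 : T.rot 5 [2, 1, 5, 2, 1, 5, 2, 1, 5, 2, 1, 5, 2, 1, 5, 2, 1] (sel (ones 170775) ip5 39) = true := by decide +kernel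

theorem rot5_39r : band (Rule.ok (2 * 5) EX RL ⟨5 :: [2, 1, 5, 2, 1, 5, 2, 1, 5, 2, 1, 5, 2, 1, 5, 2, 1], [], 18, false⟩) (lall (memL L) [2, 1, 5, 2, 1, 5, 2, 1, 5, 2, 1, 5, 2, 1, 5, 2, 1]) = true := by decide +kernel

theorem rot5_40 : T.rot 5 [3, 1, 3, 5, 2, 3, 5, 2, 3, 2, 5, 3, 2, 5, 3, 1, 3] (sel (ones 170775) ip5 40) = true := by decide +kernel

theorem rot5_40r : band (Rule.ok (2 * 5) EX RL ⟨5 :: [3, 1, 3, 5, 2, 3, 5, 2, 3, 2, 5, 3, 2, 5, 3, 1, 3], [0, 4], 23, true⟩) (lall (memL L) [3, 1, 3, 5, 2, 3, 5, 2, 3, 2, 5, 3, 2, 5, 3, 1, 3]) = true := by decide +kernel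

theorem rot5_41 : T.rot 5 [2, 3, 5, 2, 3, 2, 5, 3, 2, 5, 3, 1, 3, 5, 3, 1, 3] (sel (ones 170775) ip5 41) = true := by decide +kernel

theorem rot5_41r : band (Rule.ok (2 * 5) EX RL ⟨5 :: [2, 3, 5, 2, 3, 2, 5, 3, 2, 5, 3, 1, 3, 5, 3, 1, 3], [4], 23, false⟩) (lall (memL L) [2, 3, 5, 2, 3, 2, 5, 3, 2, 5, 3, 1, 3, 5, 3, 1, 3]) = true := by decide +kernel

theorem rot5_42 : T.rot 5 [2, 3, 2, 5, 3, 2, 5, 3, 1, 3, 5, 3, 1, 3, 5, 2, 3] (sel (ones 170775) ip5 42) = true := by decide +kernel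

theorem rot5_42r : band (Rule.ok (2 * 5) EX RL ⟨5 :: [2, 3, 2, 5, 3, 2, 5, 3, 1, 3, 5, 3, 1, 3, 5, 2, 3], [4, 8, 2, 4], 23, false⟩) (lall (memL L) [2, 3, 2, 5, 3, 2, 5, 3, 1, 3, 5, 3, 1, 3, 5, 2, 3]) = true := by decide +kernel

theorem rot5_43 : T.rot 5 [3, 2, 5, 3, 1, 3, 5, 3, 1, 3, 5, 2, 3, 5, 2, 3, 2] (sel (ones 170775) ip5 43) = true := by decide +kernel

theorem rot5_43r : band (Rule.ok (2 * 5) EX RL ⟨5 :: [3, 2, 5, 3, 1, 3, 5, 3, 1, 3, 5, 2, 3, 5, 2, 3, 2], [4, 8, 2, 4, 8], 23, true⟩) (lall (memL L) [3, 2, 5, 3, 1, 3, 5, 3, 1, 3, 5, 2, 3, 5, 2, 3, 2]) = true := by decide +kernel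

theorem rot5_44 : T.rot 5 [3, 1, 3, 5, 3, 1, 3, 5, 2, 3, 5, 2, 3, 2, 5, 3, 2] (sel (ones 170775) ip5 44) = true := by decide +kernel

theorem rot5_44r : band (Rule.ok (2 * 5) EX RL ⟨5 :: [3, 1, 3, 5, 3, 1, 3, 5, 2, 3, 5, 2, 3, 2, 5, 3, 2], [4, 8], 23, true⟩) (lall (memL L) [3, 1, 3, 5, 3, 1, 3, 5, 2, 3, 5, 2, 3, 2, 5, 3, 2]) = true := by decide +kernel

theorem rot5_45 : T.rot 5 [4, 2, 5, 4, 5, 4, 2, 4, 2, 5, 2, 5, 2, 4, 2, 4, 2, 4] (sel (ones 170775) ip5 45) = true := by decide +kernel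

theorem rot5_45r : band (Rule.ok (2 * 5) EX RL ⟨5 :: [4, 2, 5, 4, 5, 4, 2, 4, 2, 5, 2, 5, 2, 4, 2, 4, 2, 4], [2, 6, 2, 6, 2, 6], 8, true⟩) (lall (memL L) [4, 2, 5, 4, 5, 4, 2, 4, 2, 5, 2, 5, 2, 4, 2, 4, 2, 4]) = true := by decide +kernel

theorem rot5_46 : T.rot 5 [4, 5, 4, 2, 4, 2, 5, 2, 5, 2, 4, 2, 4, 2, 4, 5, 4, 2] (sel (ones 170775) ip5 46) = true := by decide +kernel

theorem rot5_46r : band (Rule.ok (2 * 5) EX RL ⟨5 :: [4, 5, 4, 2, 4, 2, 5, 2, 5, 2, 4, 2, 4, 2, 4, 5, 4, 2], [2, 6, 2, 6, 2, 6, 8, 6, 2], 8, true⟩) (lall (memL L) [4, 5, 4, 2, 4, 2, 5, 2, 5, 2, 4, 2, 4, 2, 4, 5, 4, 2]) = true := by decide +kernel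

theorem rot5_47 : T.rot 5 [4, 2, 4, 2, 5, 2, 5, 2, 4, 2, 4, 2, 4, 5, 4, 2, 5, 4] (sel (ones 170775) ip5 47) = true := by decide +kernel

theorem rot5_47r : band (Rule.ok (2 * 5) EX RL ⟨5 :: [4, 2, 4, 2, 5, 2, 5, 2, 4, 2, 4, 2, 4, 5, 4, 2, 5, 4], [8, 2, 8, 2, 6, 2, 6, 8], 8, true⟩) (lall (memL L) [4, 2, 4, 2, 5, 2, 5, 2, 4, 2, 4, 2, 4, 5, 4, 2, 5, 4]) = true := by decide +kernel

theorem rot5_48 : T.rot 5 [2, 5, 2, 4, 2, 4, 2, 4, 5, 4, 2, 5, 4, 5, 4, 2, 4, 2] (sel (ones 170775) ip5 48) = true := by decide +kernel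

theorem rot5_48r : band (Rule.ok (2 * 5) EX RL ⟨5 :: [2, 5, 2, 4, 2, 4, 2, 4, 5, 4, 2, 5, 4, 5, 4, 2, 4, 2], [8, 2, 8], 8, true⟩) (lall (memL L) [2, 5, 2, 4, 2, 4, 2, 4, 5, 4, 2, 5, 4, 5, 4, 2, 4, 2]) = true := by decide +kernel

theorem rot5_49 : T.rot 5 [2, 4, 2, 4, 2, 4, 5, 4, 2, 5, 4, 5, 4, 2, 4, 2, 5, 2] (sel (ones 170775) ip5 49) = true := by decide +kernel

theorem rot5_49r : band (Rule.ok (2 * 5) EX RL ⟨5 :: [2, 4, 2, 4, 2, 4, 5, 4, 2, 5, 4, 5, 4, 2, 4, 2, 5, 2], [8], 8, true⟩) (lall (memL L) [2, 4, 2, 4, 2, 4, 5, 4, 2, 5, 4, 5, 4, 2, 4, 2, 5, 2]) = true := by decide +kernel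

theorem rot5_50 : T.rot 5 [2, 5, 2, 4, 2, 4, 5, 4, 5, 2, 4, 5, 4, 2, 4, 2, 4, 2] (sel (ones 170775) ip5 50) = true := by decide +kernel

theorem rot5_50r : band (Rule.ok (2 * 5) EX RL ⟨5 :: [2, 5, 2, 4, 2, 4, 5, 4, 5, 2, 4, 5, 4, 2, 4, 2, 4, 2], [], 8, false⟩) (lall (memL L) [2, 5, 2, 4, 2, 4, 5, 4, 5, 2, 4, 5, 4, 2, 4, 2, 4, 2]) = true := by decide +kernel

theorem rot5_51 : T.rot 5 [2, 4, 2, 4, 5, 4, 5, 2, 4, 5, 4, 2, 4, 2, 4, 2, 5, 2] (sel (ones 170775) ip5 51) = true := by decide +kernel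

theorem rot5_51r : band (Rule.ok (2 * 5) EX RL ⟨5 :: [2, 4, 2, 4, 5, 4, 5, 2, 4, 5, 4, 2, 4, 2, 4, 2, 5, 2], [8, 2], 8, false⟩) (lall (memL L) [2, 4, 2, 4, 5, 4, 5, 2, 4, 5, 4, 2, 4, 2, 4, 2, 5, 2]) = true := by decide +kernel

theorem rot5_52 : T.rot 5 [4, 5, 2, 4, 5, 4, 2, 4, 2, 4, 2, 5, 2, 5, 2, 4, 2, 4] (sel (ones 170775) ip5 52) = true := by decide +kernel

theorem rot5_52r : band (Rule.ok (2 * 5) EX RL ⟨5 :: [4, 5, 2, 4, 5, 4, 2, 4, 2, 4, 2, 5, 2, 5, 2, 4, 2, 4], [8, 2, 8, 2, 6, 2, 6], 8, false⟩) (lall (memL L) [4, 5, 2, 4, 5, 4, 2, 4, 2, 4, 2, 5, 2, 5, 2, 4, 2, 4]) = true := by decide +kernel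

theorem rot5_53 : T.rot 5 [2, 4, 5, 4, 2, 4, 2, 4, 2, 5, 2, 5, 2, 4, 2, 4, 5, 4] (sel (ones 170775) ip5 53) = true := by decide +kernel

theorem rot5_53r : band (Rule.ok (2 * 5) EX RL ⟨5 :: [2, 4, 5, 4, 2, 4, 2, 4, 2, 5, 2, 5, 2, 4, 2, 4, 5, 4], [8, 2, 8, 2, 6, 2, 6, 8, 6], 8, false⟩) (lall (memL L) [2, 4, 5, 4, 2, 4, 2, 4, 2, 5, 2, 5, 2, 4, 2, 4, 5, 4]) = true := by decide +kernel

theorem rot5_54 : T.rot 5 [4, 2, 4, 2, 4, 2, 5, 2, 5, 2, 4, 2, 4, 5, 4, 5, 2, 4] (sel (ones 170775) ip5 54) = true := by decide +kernel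

theorem rot5_54r : band (Rule.ok (2 * 5) EX RL ⟨5 :: [4, 2, 4, 2, 4, 2, 5, 2, 5, 2, 4, 2, 4, 5, 4, 5, 2, 4], [2, 6, 2, 6, 2, 6, 8], 8, false⟩) (lall (memL L) [4, 2, 4, 2, 4, 2, 5, 2, 5, 2, 4, 2, 4, 5, 4, 5, 2, 4]) = true := by decide +kernel

theorem rot5_55 : T.rot 5 [2, 3, 2, 5, 2, 3, 5, 2, 5, 3, 2, 3, 4, 2, 4, 2, 4, 3] (sel (ones 170775) ip5 55) = true := by decide +kernel

theorem rot5_55r : band (Rule.ok (2 * 5) EX RL ⟨5 :: [2, 3, 2, 5, 2, 3, 5, 2, 5, 3, 2, 3, 4, 2, 4, 2, 4, 3], [6, 2, 6, 2, 6, 4], 12, true⟩) (lall (memL L) [2, 3, 2, 5, 2, 3, 5, 2, 5, 3, 2, 3, 4, 2, 4, 2, 4, 3]) = true := by decide +kernel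

theorem rot5_56 : T.rot 5 [2, 3, 5, 2, 5, 3, 2, 3, 4, 2, 4, 2, 4, 3, 5, 2, 3, 2] (sel (ones 170775) ip5 56) = true := by decide +kernel

theorem rot5_56r : band (Rule.ok (2 * 5) EX RL ⟨5 :: [2, 3, 5, 2, 5, 3, 2, 3, 4, 2, 4, 2, 4, 3, 5, 2, 3, 2], [4, 2, 4, 8, 2, 8, 4, 2, 8], 12, true⟩) (lall (memL L) [2, 3, 5, 2, 5, 3, 2, 3, 4, 2, 4, 2, 4, 3, 5, 2, 3, 2]) = true := by decide +kernel

theorem rot5_57 : T.rot 5 [2, 5, 3, 2, 3, 4, 2, 4, 2, 4, 3, 5, 2, 3, 2, 5, 2, 3] (sel (ones 170775) ip5 57) = true := by decide +kernel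

theorem rot5_57r : band (Rule.ok (2 * 5) EX RL ⟨5 :: [2, 5, 3, 2, 3, 4, 2, 4, 2, 4, 3, 5, 2, 3, 2, 5, 2, 3], [4, 2, 4, 8, 2, 8], 12, true⟩) (lall (memL L) [2, 5, 3, 2, 3, 4, 2, 4, 2, 4, 3, 5, 2, 3, 2, 5, 2, 3]) = true := by decide +kernel

theorem rot5_58 : T.rot 5 [3, 2, 3, 4, 2, 4, 2, 4, 3, 5, 2, 3, 2, 5, 2, 3, 5, 2] (sel (ones 170775) ip5 58) = true := by decide +kernel

theorem rot5_58r : band (Rule.ok (2 * 5) EX RL ⟨5 :: [3, 2, 3, 4, 2, 4, 2, 4, 3, 5, 2, 3, 2, 5, 2, 3, 5, 2], [4, 2, 4, 8], 12, true⟩) (lall (memL L) [3, 2, 3, 4, 2, 4, 2, 4, 3, 5, 2, 3, 2, 5, 2, 3, 5, 2]) = true := by decide +kernel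

theorem rot5_59 : T.rot 5 [2, 5, 3, 2, 5, 2, 3, 2, 5, 3, 4, 2, 4, 2, 4, 3, 2, 3] (sel (ones 170775) ip5 59) = true := by decide +kernel

theorem rot5_59r : band (Rule.ok (2 * 5) EX RL ⟨5 :: [2, 5, 3, 2, 5, 2, 3, 2, 5, 3, 4, 2, 4, 2, 4, 3, 2, 3], [4, 2, 4], 12, false⟩) (lall (memL L) [2, 5, 3, 2, 5, 2, 3, 2, 5, 3, 4, 2, 4, 2, 4, 3, 2, 3]) = true := by decide +kernel

theorem rot5_60 : T.rot 5 [3, 2, 5, 2, 3, 2, 5, 3, 4, 2, 4, 2, 4, 3, 2, 3, 5, 2] (sel (ones 170775) ip5 60) = true := by decide +kernel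

theorem rot5_60r : band (Rule.ok (2 * 5) EX RL ⟨5 :: [3, 2, 5, 2, 3, 2, 5, 3, 4, 2, 4, 2, 4, 3, 2, 3, 5, 2], [4, 2, 4, 8, 2], 12, false⟩) (lall (memL L) [3, 2, 5, 2, 3, 2, 5, 3, 4, 2, 4, 2, 4, 3, 2, 3, 5, 2]) = true := by decide +kernel

theorem rot5_61 : T.rot 5 [2, 3, 2, 5, 3, 4, 2, 4, 2, 4, 3, 2, 3, 5, 2, 5, 3, 2] (sel (ones 170775) ip5 61) = true := by decide +kernel

theorem rot5_61r : band (Rule.ok (2 * 5) EX RL ⟨5 :: [2, 3, 2, 5, 3, 4, 2, 4, 2, 4, 3, 2, 3, 5, 2, 5, 3, 2], [4, 2, 4, 8, 2, 8, 4, 2], 12, false⟩) (lall (memL L) [2, 3, 2, 5, 3, 4, 2, 4, 2, 4, 3, 2, 3, 5, 2, 5, 3, 2]) = true := by decide +kernel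

theorem rot5_62 : T.rot 5 [3, 4, 2, 4, 2, 4, 3, 2, 3, 5, 2, 5, 3, 2, 5, 2, 3, 2] (sel (ones 170775) ip5 62) = true := by decide +kernel

theorem rot5_62r : band (Rule.ok (2 * 5) EX RL ⟨5 :: [3, 4, 2, 4, 2, 4, 3, 2, 3, 5, 2, 5, 3, 2, 5, 2, 3, 2], [6, 2, 6, 2, 6, 4, 8], 12, false⟩) (lall (memL L) [3, 4, 2, 4, 2, 4, 3, 2, 3, 5, 2, 5, 3, 2, 5, 2, 3, 2]) = true := by decide +kernel

theorem rot5_63 : T.rot 5 [2, 5, 4, 5, 2, 5, 4, 5, 4, 2, 4, 1, 4, 2, 4, 1, 4, 2] (sel (ones 170775) ip5 63) = true := by decide +kernel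

theorem rot5_63r : band (Rule.ok (2 * 5) EX RL ⟨5 :: [2, 5, 4, 5, 2, 5, 4, 5, 4, 2, 4, 1, 4, 2, 4, 1, 4, 2], [0, 6, 2, 6, 0, 6, 2], 21, true⟩) (lall (memL L) [2, 5, 4, 5, 2, 5, 4, 5, 4, 2, 4, 1, 4, 2, 4, 1, 4, 2]) = true := by decide +kernel

theorem rot5_64 : T.rot 5 [4, 5, 2, 5, 4, 5, 4, 2, 4, 1, 4, 2, 4, 1, 4, 2, 5, 2] (sel (ones 170775) ip5 64) = true := by decide +kernel

theorem rot5_64r : band (Rule.ok (2 * 5) EX RL ⟨5 :: [4, 5, 2, 5, 4, 5, 4, 2, 4, 1, 4, 2, 4, 1, 4, 2, 5, 2], [0, 6, 2, 6, 0, 6, 2, 8, 2], 21, true⟩) (lall (memL L) [4, 5, 2, 5, 4, 5, 4, 2, 4, 1, 4, 2, 4, 1, 4, 2, 5, 2]) = true := by decide +kernel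

theorem rot5_65 : T.rot 5 [2, 5, 4, 5, 4, 2, 4, 1, 4, 2, 4, 1, 4, 2, 5, 2, 5, 4] (sel (ones 170775) ip5 65) = true := by decide +kernel

theorem rot5_65r : band (Rule.ok (2 * 5) EX RL ⟨5 :: [2, 5, 4, 5, 4, 2, 4, 1, 4, 2, 4, 1, 4, 2, 5, 2, 5, 4], [6, 2, 6, 8, 6, 8, 2, 8], 21, true⟩) (lall (memL L) [2, 5, 4, 5, 4, 2, 4, 1, 4, 2, 4, 1, 4, 2, 5, 2, 5, 4]) = true := by decide +kernel

theorem rot5_66 : T.rot 5 [4, 5, 4, 2, 4, 1, 4, 2, 4, 1, 4, 2, 5, 2, 5, 4, 5, 2] (sel (ones 170775) ip5 66) = true := by decide +kernel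

theorem rot5_66r : band (Rule.ok (2 * 5) EX RL ⟨5 :: [4, 5, 4, 2, 4, 1, 4, 2, 4, 1, 4, 2, 5, 2, 5, 4, 5, 2], [6, 2, 6, 8, 6, 8], 21, true⟩) (lall (memL L) [4, 5, 4, 2, 4, 1, 4, 2, 4, 1, 4, 2, 5, 2, 5, 4, 5, 2]) = true := by decide +kernel

theorem rot5_67 : T.rot 5 [4, 2, 4, 1, 4, 2, 4, 1, 4, 2, 5, 2, 5, 4, 5, 2, 5, 4] (sel (ones 170775) ip5 67) = true := by decide +kernel

theorem rot5_67r : band (Rule.ok (2 * 5) EX RL ⟨5 :: [4, 2, 4, 1, 4, 2, 4, 1, 4, 2, 5, 2, 5, 4, 5, 2, 5, 4], [6, 2, 6, 8], 21, true⟩) (lall (memL L) [4, 2, 4, 1, 4, 2, 4, 1, 4, 2, 5, 2, 5, 4, 5, 2, 5, 4]) = true := by decide +kernel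

theorem rot5_68 : T.rot 5 [4, 5, 2, 5, 4, 5, 2, 5, 2, 4, 1, 4, 2, 4, 1, 4, 2, 4] (sel (ones 170775) ip5 68) = true := by decide +kernel

theorem rot5_68r : band (Rule.ok (2 * 5) EX RL ⟨5 :: [4, 5, 2, 5, 4, 5, 2, 5, 2, 4, 1, 4, 2, 4, 1, 4, 2, 4], [6, 2, 6], 21, false⟩) (lall (memL L) [4, 5, 2, 5, 4, 5, 2, 5, 2, 4, 1, 4, 2, 4, 1, 4, 2, 4]) = true := by decide +kernel

theorem rot5_69 : T.rot 5 [2, 5, 4, 5, 2, 5, 2, 4, 1, 4, 2, 4, 1, 4, 2, 4, 5, 4] (sel (ones 170775) ip5 69) = true := by decide +kernel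

theorem rot5_69r : band (Rule.ok (2 * 5) EX RL ⟨5 :: [2, 5, 4, 5, 2, 5, 2, 4, 1, 4, 2, 4, 1, 4, 2, 4, 5, 4], [6, 2, 6, 8, 6], 21, false⟩) (lall (memL L) [2, 5, 4, 5, 2, 5, 2, 4, 1, 4, 2, 4, 1, 4, 2, 4, 5, 4]) = true := by decide +kernel

theorem rot5_70 : T.rot 5 [4, 5, 2, 5, 2, 4, 1, 4, 2, 4, 1, 4, 2, 4, 5, 4, 5, 2] (sel (ones 170775) ip5 70) = true := by decide +kernel

theorem rot5_70r : band (Rule.ok (2 * 5) EX RL ⟨5 :: [4, 5, 2, 5, 2, 4, 1, 4, 2, 4, 1, 4, 2, 4, 5, 4, 5, 2], [6, 2, 6, 8, 6, 8, 2], 21, false⟩) (lall (memL L) [4, 5, 2, 5, 2, 4, 1, 4, 2, 4, 1, 4, 2, 4, 5, 4, 5, 2]) = true := by decide +kernel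

theorem rot5_71 : T.rot 5 [2, 5, 2, 4, 1, 4, 2, 4, 1, 4, 2, 4, 5, 4, 5, 2, 5, 4] (sel (ones 170775) ip5 71) = true := by decide +kernel

theorem rot5_71r : band (Rule.ok (2 * 5) EX RL ⟨5 :: [2, 5, 2, 4, 1, 4, 2, 4, 1, 4, 2, 4, 5, 4, 5, 2, 5, 4], [6, 2, 6, 8, 6, 8, 2, 8, 6], 21, false⟩) (lall (memL L) [2, 5, 2, 4, 1, 4, 2, 4, 1, 4, 2, 4, 5, 4, 5, 2, 5, 4]) = true := by decide +kernel

theorem rot5_72 : T.rot 5 [2, 4, 1, 4, 2, 4, 1, 4, 2, 4, 5, 4, 5, 2, 5, 4, 5, 2] (sel (ones 170775) ip5 72) = true := by decide +kernel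

theorem rot5_72r : band (Rule.ok (2 * 5) EX RL ⟨5 :: [2, 4, 1, 4, 2, 4, 1, 4, 2, 4, 5, 4, 5, 2, 5, 4, 5, 2], [0, 6, 2, 6, 0, 6, 2, 8], 21, false⟩) (lall (memL L) [2, 4, 1, 4, 2, 4, 1, 4, 2, 4, 5, 4, 5, 2, 5, 4, 5, 2]) = true := by decide +kernel

theorem rot5_73 : T.rot 5 [2, 4, 3, 2, 3, 4, 2, 3, 4, 3, 4, 3, 2, 4, 3, 2, 3, 4, 2] (sel (ones 170775) ip5 73) = true := by decide +kernel

theorem rot5_73r : band (Rule.ok (2 * 5) EX RL ⟨5 :: [2, 4, 3, 2, 3, 4, 2, 3, 4, 3, 4, 3, 2, 4, 3, 2, 3, 4, 2], [2], 13, false⟩) (lall (memL L) [2, 4, 3, 2, 3, 4, 2, 3, 4, 3, 4, 3, 2, 4, 3, 2, 3, 4, 2]) = true := by decide +kernel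

theorem rot5_74 : T.rot 5 [2, 5, 1, 5, 2, 5, 3, 5, 2, 5, 2, 3, 5, 2, 3, 2, 5, 2, 1] (sel (ones 170775) ip5 74) = true := by decide +kernel

theorem rot5_74r : band (Rule.ok (2 * 5) EX RL ⟨5 :: [2, 5, 1, 5, 2, 5, 3, 5, 2, 5, 2, 3, 5, 2, 3, 2, 5, 2, 1], [0], 27, true⟩) (lall (memL L) [2, 5, 1, 5, 2, 5, 3, 5, 2, 5, 2, 3, 5, 2, 3, 2, 5, 2, 1]) = true := by decide +kernel

theorem rot5_75 : T.rot 5 [1, 5, 2, 5, 3, 5, 2, 5, 2, 3, 5, 2, 3, 2, 5, 2, 1, 5, 2] (sel (ones 170775) ip5 75) = true := by decide +kernel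

theorem rot5_75r : band (Rule.ok (2 * 5) EX RL ⟨5 :: [1, 5, 2, 5, 3, 5, 2, 5, 2, 3, 5, 2, 3, 2, 5, 2, 1, 5, 2], [0, 8, 2], 27, true⟩) (lall (memL L) [1, 5, 2, 5, 3, 5, 2, 5, 2, 3, 5, 2, 3, 2, 5, 2, 1, 5, 2]) = true := by decide +kernel

theorem rot5_76 : T.rot 5 [2, 5, 3, 5, 2, 5, 2, 3, 5, 2, 3, 2, 5, 2, 1, 5, 2, 5, 1] (sel (ones 170775) ip5 76) = true := by decide +kernel

theorem rot5_76r : band (Rule.ok (2 * 5) EX RL ⟨5 :: [2, 5, 3, 5, 2, 5, 2, 3, 5, 2, 3, 2, 5, 2, 1, 5, 2, 5, 1], [0, 8, 2, 8, 0], 27, true⟩) (lall (memL L) [2, 5, 3, 5, 2, 5, 2, 3, 5, 2, 3, 2, 5, 2, 1, 5, 2, 5, 1]) = true := by decide +kernel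

theorem rot5_77 : T.rot 5 [3, 5, 2, 5, 2, 3, 5, 2, 3, 2, 5, 2, 1, 5, 2, 5, 1, 5, 2] (sel (ones 170775) ip5 77) = true := by decide +kernel

theorem rot5_77r : band (Rule.ok (2 * 5) EX RL ⟨5 :: [3, 5, 2, 5, 2, 3, 5, 2, 3, 2, 5, 2, 1, 5, 2, 5, 1, 5, 2], [0, 8, 2, 8, 0, 8, 2], 27, true⟩) (lall (memL L) [3, 5, 2, 5, 2, 3, 5, 2, 3, 2, 5, 2, 1, 5, 2, 5, 1, 5, 2]) = true := by decide +kernel

theorem rot5_78 : T.rot 5 [2, 5, 2, 3, 5, 2, 3, 2, 5, 2, 1, 5, 2, 5, 1, 5, 2, 5, 3] (sel (ones 170775) ip5 78) = true := by decide +kernel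

theorem rot5_78r : band (Rule.ok (2 * 5) EX RL ⟨5 :: [2, 5, 2, 3, 5, 2, 3, 2, 5, 2, 1, 5, 2, 5, 1, 5, 2, 5, 3], [0, 8, 2, 8, 0, 8, 2, 8, 4], 27, true⟩) (lall (memL L) [2, 5, 2, 3, 5, 2, 3, 2, 5, 2, 1, 5, 2, 5, 1, 5, 2, 5, 3]) = true := by decide +kernel

theorem rot5_79 : T.rot 5 [2, 3, 5, 2, 3, 2, 5, 2, 1, 5, 2, 5, 1, 5, 2, 5, 3, 5, 2] (sel (ones 170775) ip5 79) = true := by decide +kernel

theorem rot5_79r : band (Rule.ok (2 * 5) EX RL ⟨5 :: [2, 3, 5, 2, 3, 2, 5, 2, 1, 5, 2, 5, 1, 5, 2, 5, 3, 5, 2], [2, 8, 2, 4, 2, 8, 4, 2, 8], 27, true⟩) (lall (memL L) [2, 3, 5, 2, 3, 2, 5, 2, 1, 5, 2, 5, 1, 5, 2, 5, 3, 5, 2]) = true := by decide +kernel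

theorem rot5_80 : T.rot 5 [2, 3, 2, 5, 2, 1, 5, 2, 5, 1, 5, 2, 5, 3, 5, 2, 5, 2, 3] (sel (ones 170775) ip5 80) = true := by decide +kernel

theorem rot5_80r : band (Rule.ok (2 * 5) EX RL ⟨5 :: [2, 3, 2, 5, 2, 1, 5, 2, 5, 1, 5, 2, 5, 3, 5, 2, 5, 2, 3], [2, 8, 2, 4, 2, 8], 27, true⟩) (lall (memL L) [2, 3, 2, 5, 2, 1, 5, 2, 5, 1, 5, 2, 5, 3, 5, 2, 5, 2, 3]) = true := by decide +kernel

theorem rot5_81 : T.rot 5 [2, 1, 5, 2, 5, 1, 5, 2, 5, 3, 5, 2, 5, 2, 3, 5, 2, 3, 2] (sel (ones 170775) ip5 81) = true := by decide +kernel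

theorem rot5_81r : band (Rule.ok (2 * 5) EX RL ⟨5 :: [2, 1, 5, 2, 5, 1, 5, 2, 5, 3, 5, 2, 5, 2, 3, 5, 2, 3, 2], [2, 8], 27, true⟩) (lall (memL L) [2, 1, 5, 2, 5, 1, 5, 2, 5, 3, 5, 2, 5, 2, 3, 5, 2, 3, 2]) = true := by decide +kernel

theorem rot5_82 : T.rot 5 [2, 3, 2, 5, 3, 2, 5, 2, 5, 3, 5, 2, 5, 1, 5, 2, 5, 1, 2] (sel (ones 170775) ip5 82) = true := by decide +kernel

theorem rot5_82r : band (Rule.ok (2 * 5) EX RL ⟨5 :: [2, 3, 2, 5, 3, 2, 5, 2, 5, 3, 5, 2, 5, 1, 5, 2, 5, 1, 2], [2], 27, false⟩) (lall (memL L) [2, 3, 2, 5, 3, 2, 5, 2, 5, 3, 5, 2, 5, 1, 5, 2, 5, 1, 2]) = true := by decide +kernel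

theorem rot5_83 : T.rot 5 [3, 2, 5, 2, 5, 3, 5, 2, 5, 1, 5, 2, 5, 1, 2, 5, 2, 3, 2] (sel (ones 170775) ip5 83) = true := by decide +kernel

theorem rot5_83r : band (Rule.ok (2 * 5) EX RL ⟨5 :: [3, 2, 5, 2, 5, 3, 5, 2, 5, 1, 5, 2, 5, 1, 2, 5, 2, 3, 2], [2, 8, 2, 4, 2], 27, false⟩) (lall (memL L) [3, 2, 5, 2, 5, 3, 5, 2, 5, 1, 5, 2, 5, 1, 2, 5, 2, 3, 2]) = true := by decide +kernel

theorem rot5_84 : T.rot 5 [2, 5, 3, 5, 2, 5, 1, 5, 2, 5, 1, 2, 5, 2, 3, 2, 5, 3, 2] (sel (ones 170775) ip5 84) = true := by decide +kernel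

theorem rot5_84r : band (Rule.ok (2 * 5) EX RL ⟨5 :: [2, 5, 3, 5, 2, 5, 1, 5, 2, 5, 1, 2, 5, 2, 3, 2, 5, 3, 2], [2, 8, 2, 4, 2, 8, 4, 2], 27, false⟩) (lall (memL L) [2, 5, 3, 5, 2, 5, 1, 5, 2, 5, 1, 2, 5, 2, 3, 2, 5, 3, 2]) = true := by decide +kernel

theorem rot5_85 : T.rot 5 [3, 5, 2, 5, 1, 5, 2, 5, 1, 2, 5, 2, 3, 2, 5, 3, 2, 5, 2] (sel (ones 170775) ip5 85) = true := by decide +kernel

theorem rot5_85r : band (Rule.ok (2 * 5) EX RL ⟨5 :: [3, 5, 2, 5, 1, 5, 2, 5, 1, 2, 5, 2, 3, 2, 5, 3, 2, 5, 2], [0, 8, 2, 8, 0, 8, 2, 8, 4, 8], 27, false⟩) (lall (memL L) [3, 5, 2, 5, 1, 5, 2, 5, 1, 2, 5, 2, 3, 2, 5, 3, 2, 5, 2]) = true := by decide +kernel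

theorem rot5_86 : T.rot 5 [2, 5, 1, 5, 2, 5, 1, 2, 5, 2, 3, 2, 5, 3, 2, 5, 2, 5, 3] (sel (ones 170775) ip5 86) = true := by decide +kernel

theorem rot5_86r : band (Rule.ok (2 * 5) EX RL ⟨5 :: [2, 5, 1, 5, 2, 5, 1, 2, 5, 2, 3, 2, 5, 3, 2, 5, 2, 5, 3], [0, 8, 2, 8, 0, 8, 2, 8], 27, false⟩) (lall (memL L) [2, 5, 1, 5, 2, 5, 1, 2, 5, 2, 3, 2, 5, 3, 2, 5, 2, 5, 3]) = true := by decide +kernel

theorem rot5_87 : T.rot 5 [1, 5, 2, 5, 1, 2, 5, 2, 3, 2, 5, 3, 2, 5, 2, 5, 3, 5, 2] (sel (ones 170775) ip5 87) = true := by decide +kernel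

theorem rot5_87r : band (Rule.ok (2 * 5) EX RL ⟨5 :: [1, 5, 2, 5, 1, 2, 5, 2, 3, 2, 5, 3, 2, 5, 2, 5, 3, 5, 2], [0, 8, 2, 8, 0, 8], 27, false⟩) (lall (memL L) [1, 5, 2, 5, 1, 2, 5, 2, 3, 2, 5, 3, 2, 5, 2, 5, 3, 5, 2]) = true := by decide +kernel

theorem rot5_88 : T.rot 5 [2, 5, 1, 2, 5, 2, 3, 2, 5, 3, 2, 5, 2, 5, 3, 5, 2, 5, 1] (sel (ones 170775) ip5 88) = true := by decide +kernel

theorem rot5_88r : band (Rule.ok (2 * 5) EX RL ⟨5 :: [2, 5, 1, 2, 5, 2, 3, 2, 5, 3, 2, 5, 2, 5, 3, 5, 2, 5, 1], [0, 8, 2, 8], 27, false⟩) (lall (memL L) [2, 5, 1, 2, 5, 2, 3, 2, 5, 3, 2, 5, 2, 5, 3, 5, 2, 5, 1]) = true := by decide +kernel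

theorem rot5_89 : T.rot 5 [1, 2, 5, 2, 3, 2, 5, 3, 2, 5, 2, 5, 3, 5, 2, 5, 1, 5, 2] (sel (ones 170775) ip5 89) = true := by decide +kernel

theorem rot5_89r : band (Rule.ok (2 * 5) EX RL ⟨5 :: [1, 2, 5, 2, 3, 2, 5, 3, 2, 5, 2, 5, 3, 5, 2, 5, 1, 5, 2], [0, 8], 27, false⟩) (lall (memL L) [1, 2, 5, 2, 3, 2, 5, 3, 2, 5, 2, 5, 3, 5, 2, 5, 1, 5, 2]) = true := by decide +kernel

theorem rot5_90 : T.rot 5 [2, 3, 5, 3, 5, 2, 5, 2, 3, 5, 3, 5, 2, 5, 3, 2, 5, 3, 5, 2, 3] (sel (ones 170775) ip5 90) = true := by decide +kernel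

theorem rot5_90r : band (Rule.ok (2 * 5) EX RL ⟨5 :: [2, 3, 5, 3, 5, 2, 5, 2, 3, 5, 3, 5, 2, 5, 3, 2, 5, 3, 5, 2, 3], [2, 4], 4, true⟩) (lall (memL L) [2, 3, 5, 3, 5, 2, 5, 2, 3, 5, 3, 5, 2, 5, 3, 2, 5, 3, 5, 2, 3]) = true := by decide +kernel

theorem rot5_91 : T.rot 5 [3, 5, 2, 5, 2, 3, 5, 3, 5, 2, 5, 3, 2, 5, 3, 5, 2, 3, 5, 2, 3] (sel (ones 170775) ip5 91) = true := by decide +kernel

theorem rot5_91r : band (Rule.ok (2 * 5) EX RL ⟨5 :: [3, 5, 2, 5, 2, 3, 5, 3, 5, 2, 5, 3, 2, 5, 3, 5, 2, 3, 5, 2, 3], [2, 4, 8, 2, 4], 4, true⟩) (lall (memL L) [3, 5, 2, 5, 2, 3, 5, 3, 5, 2, 5, 3, 2, 5, 3, 5, 2, 3, 5, 2, 3]) = true := by decide +kernel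

theorem rot5_92 : T.rot 5 [2, 5, 2, 3, 5, 3, 5, 2, 5, 3, 2, 5, 3, 5, 2, 3, 5, 2, 3, 5, 3] (sel (ones 170775) ip5 92) = true := by decide +kernel

theorem rot5_92r : band (Rule.ok (2 * 5) EX RL ⟨5 :: [2, 5, 2, 3, 5, 3, 5, 2, 5, 3, 2, 5, 3, 5, 2, 3, 5, 2, 3, 5, 3], [2, 4, 8, 2, 4, 8, 4], 4, true⟩) (lall (memL L) [2, 5, 2, 3, 5, 3, 5, 2, 5, 3, 2, 5, 3, 5, 2, 3, 5, 2, 3, 5, 3]) = true := by decide +kernel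

theorem rot5_93 : T.rot 5 [2, 3, 5, 3, 5, 2, 5, 3, 2, 5, 3, 5, 2, 3, 5, 2, 3, 5, 3, 5, 2] (sel (ones 170775) ip5 93) = true := by decide +kernel

theorem rot5_93r : band (Rule.ok (2 * 5) EX RL ⟨5 :: [2, 3, 5, 3, 5, 2, 5, 3, 2, 5, 3, 5, 2, 3, 5, 2, 3, 5, 3, 5, 2], [2, 4, 8, 2, 4, 8, 4, 8, 2], 4, true⟩) (lall (memL L) [2, 3, 5, 3, 5, 2, 5, 3, 2, 5, 3, 5, 2, 3, 5, 2, 3, 5, 3, 5, 2]) = true := by decide +kernel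

theorem rot5_94 : T.rot 5 [3, 5, 2, 5, 3, 2, 5, 3, 5, 2, 3, 5, 2, 3, 5, 3, 5, 2, 5, 2, 3] (sel (ones 170775) ip5 94) = true := by decide +kernel

theorem rot5_94r : band (Rule.ok (2 * 5) EX RL ⟨5 :: [3, 5, 2, 5, 3, 2, 5, 3, 5, 2, 3, 5, 2, 3, 5, 3, 5, 2, 5, 2, 3], [8, 4, 8, 2, 4, 8, 2, 8, 4, 8], 4, true⟩) (lall (memL L) [3, 5, 2, 5, 3, 2, 5, 3, 5, 2, 3, 5, 2, 3, 5, 3, 5, 2, 5, 2, 3]) = true := by decide +kernel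

theorem rot5_95 : T.rot 5 [2, 5, 3, 2, 5, 3, 5, 2, 3, 5, 2, 3, 5, 3, 5, 2, 5, 2, 3, 5, 3] (sel (ones 170775) ip5 95) = true := by decide +kernel

theorem rot5_95r : band (Rule.ok (2 * 5) EX RL ⟨5 :: [2, 5, 3, 2, 5, 3, 5, 2, 3, 5, 2, 3, 5, 3, 5, 2, 5, 2, 3, 5, 3], [8, 4, 8, 2, 4, 8, 2, 8], 4, true⟩) (lall (memL L) [2, 5, 3, 2, 5, 3, 5, 2, 3, 5, 2, 3, 5, 3, 5, 2, 5, 2, 3, 5, 3]) = true := by decide +kernel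

theorem rot5_96 : T.rot 5 [3, 2, 5, 3, 5, 2, 3, 5, 2, 3, 5, 3, 5, 2, 5, 2, 3, 5, 3, 5, 2] (sel (ones 170775) ip5 96) = true := by decide +kernel

theorem rot5_96r : band (Rule.ok (2 * 5) EX RL ⟨5 :: [3, 2, 5, 3, 5, 2, 3, 5, 2, 3, 5, 3, 5, 2, 5, 2, 3, 5, 3, 5, 2], [8, 4, 8, 2, 4, 8], 4, true⟩) (lall (memL L) [3, 2, 5, 3, 5, 2, 3, 5, 2, 3, 5, 3, 5, 2, 5, 2, 3, 5, 3, 5, 2]) = true := by decide +kernel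

theorem rot5_97 : T.rot 5 [3, 5, 2, 3, 5, 2, 3, 5, 3, 5, 2, 5, 2, 3, 5, 3, 5, 2, 5, 3, 2] (sel (ones 170775) ip5 97) = true := by decide +kernel

theorem rot5_97r : band (Rule.ok (2 * 5) EX RL ⟨5 :: [3, 5, 2, 3, 5, 2, 3, 5, 3, 5, 2, 5, 2, 3, 5, 3, 5, 2, 5, 3, 2], [8, 4, 8], 4, true⟩) (lall (memL L) [3, 5, 2, 3, 5, 2, 3, 5, 3, 5, 2, 5, 2, 3, 5, 3, 5, 2, 5, 3, 2]) = true := by decide +kernel

theorem rot5_98 : T.rot 5 [2, 3, 5, 2, 3, 5, 3, 5, 2, 5, 2, 3, 5, 3, 5, 2, 5, 3, 2, 5, 3] (sel (ones 170775) ip5 98) = true := by decide +kernel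

theorem rot5_98r : band (Rule.ok (2 * 5) EX RL ⟨5 :: [2, 3, 5, 2, 3, 5, 3, 5, 2, 5, 2, 3, 5, 3, 5, 2, 5, 3, 2, 5, 3], [8], 4, true⟩) (lall (memL L) [2, 3, 5, 2, 3, 5, 3, 5, 2, 5, 2, 3, 5, 3, 5, 2, 5, 3, 2, 5, 3]) = true := by decide +kernel

theorem rot5_99 : T.rot 5 [3, 5, 2, 3, 5, 2, 5, 3, 5, 3, 2, 5, 2, 5, 3, 5, 3, 2, 5, 3, 2] (sel (ones 170775) ip5 99) = true := by decide +kernel

theorem rot5_99r : band (Rule.ok (2 * 5) EX RL ⟨5 :: [3, 5, 2, 3, 5, 2, 5, 3, 5, 3, 2, 5, 2, 5, 3, 5, 3, 2, 5, 3, 2], [], 4, false⟩) (lall (memL L) [3, 5, 2, 3, 5, 2, 5, 3, 5, 3, 2, 5, 2, 5, 3, 5, 3, 2, 5, 3, 2]) = true := by decide +kernel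

theorem rot5_100 : T.rot 5 [2, 3, 5, 2, 5, 3, 5, 3, 2, 5, 2, 5, 3, 5, 3, 2, 5, 3, 2, 5, 3] (sel (ones 170775) ip5 100) = true := by decide +kernel

theorem rot5_100r : band (Rule.ok (2 * 5) EX RL ⟨5 :: [2, 3, 5, 2, 5, 3, 5, 3, 2, 5, 2, 5, 3, 5, 3, 2, 5, 3, 2, 5, 3], [8, 4], 4, false⟩) (lall (memL L) [2, 3, 5, 2, 5, 3, 5, 3, 2, 5, 2, 5, 3, 5, 3, 2, 5, 3, 2, 5, 3]) = true := by decide +kernel

theorem rot5_101 : T.rot 5 [2, 5, 3, 5, 3, 2, 5, 2, 5, 3, 5, 3, 2, 5, 3, 2, 5, 3, 5, 2, 3] (sel (ones 170775) ip5 101) = true := by decide +kernel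

theorem rot5_101r : band (Rule.ok (2 * 5) EX RL ⟨5 :: [2, 5, 3, 5, 3, 2, 5, 2, 5, 3, 5, 3, 2, 5, 3, 2, 5, 3, 5, 2, 3], [8, 4, 8, 2, 4], 4, false⟩) (lall (memL L) [2, 5, 3, 5, 3, 2, 5, 2, 5, 3, 5, 3, 2, 5, 3, 2, 5, 3, 5, 2, 3]) = true := by decide +kernel

theorem rot5_102 : T.rot 5 [3, 5, 3, 2, 5, 2, 5, 3, 5, 3, 2, 5, 3, 2, 5, 3, 5, 2, 3, 5, 2] (sel (ones 170775) ip5 102) = true := by decide +kernel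

theorem rot5_102r : band (Rule.ok (2 * 5) EX RL ⟨5 :: [3, 5, 3, 2, 5, 2, 5, 3, 5, 3, 2, 5, 3, 2, 5, 3, 5, 2, 3, 5, 2], [8, 4, 8, 2, 4, 8, 2], 4, false⟩) (lall (memL L) [3, 5, 3, 2, 5, 2, 5, 3, 5, 3, 2, 5, 3, 2, 5, 3, 5, 2, 3, 5, 2]) = true := by decide +kernel

theorem rot5_103 : T.rot 5 [3, 2, 5, 2, 5, 3, 5, 3, 2, 5, 3, 2, 5, 3, 5, 2, 3, 5, 2, 5, 3] (sel (ones 170775) ip5 103) = true := by decide +kernel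

theorem rot5_103r : band (Rule.ok (2 * 5) EX RL ⟨5 :: [3, 2, 5, 2, 5, 3, 5, 3, 2, 5, 3, 2, 5, 3, 5, 2, 3, 5, 2, 5, 3], [8, 4, 8, 2, 4, 8, 2, 8, 4], 4, false⟩) (lall (memL L) [3, 2, 5, 2, 5, 3, 5, 3, 2, 5, 3, 2, 5, 3, 5, 2, 3, 5, 2, 5, 3]) = true := by decide +kernel

theorem rot5_104 : T.rot 5 [2, 5, 3, 5, 3, 2, 5, 3, 2, 5, 3, 5, 2, 3, 5, 2, 5, 3, 5, 3, 2] (sel (ones 170775) ip5 104) = true := by decide +kernel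

theorem rot5_104r : band (Rule.ok (2 * 5) EX RL ⟨5 :: [2, 5, 3, 5, 3, 2, 5, 3, 2, 5, 3, 5, 2, 3, 5, 2, 5, 3, 5, 3, 2], [2, 4, 8, 2, 4, 8, 4, 8, 2, 8], 4, false⟩) (lall (memL L) [2, 5, 3, 5, 3, 2, 5, 3, 2, 5, 3, 5, 2, 3, 5, 2, 5, 3, 5, 3, 2]) = true := by decide +kernel

theorem rot5_105 : T.rot 5 [3, 5, 3, 2, 5, 3, 2, 5, 3, 5, 2, 3, 5, 2, 5, 3, 5, 3, 2, 5, 2] (sel (ones 170775) ip5 105) = true := by decide +kernel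

theorem rot5_105r : band (Rule.ok (2 * 5) EX RL ⟨5 :: [3, 5, 3, 2, 5, 3, 2, 5, 3, 5, 2, 3, 5, 2, 5, 3, 5, 3, 2, 5, 2], [2, 4, 8, 2, 4, 8, 4, 8], 4, false⟩) (lall (memL L) [3, 5, 3, 2, 5, 3, 2, 5, 3, 5, 2, 3, 5, 2, 5, 3, 5, 3, 2, 5, 2]) = true := by decide +kernel

theorem rot5_106 : T.rot 5 [3, 2, 5, 3, 2, 5, 3, 5, 2, 3, 5, 2, 5, 3, 5, 3, 2, 5, 2, 5, 3] (sel (ones 170775) ip5 106) = true := by decide +kernel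

theorem rot5_106r : band (Rule.ok (2 * 5) EX RL ⟨5 :: [3, 2, 5, 3, 2, 5, 3, 5, 2, 3, 5, 2, 5, 3, 5, 3, 2, 5, 2, 5, 3], [2, 4, 8, 2, 4, 8], 4, false⟩) (lall (memL L) [3, 2, 5, 3, 2, 5, 3, 5, 2, 3, 5, 2, 5, 3, 5, 3, 2, 5, 2, 5, 3]) = true := by decide +kernel

theorem rot5_107 : T.rot 5 [3, 2, 5, 3, 5, 2, 3, 5, 2, 5, 3, 5, 3, 2, 5, 2, 5, 3, 5, 3, 2] (sel (ones 170775) ip5 107) = true := by decide +kernel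

theorem rot5_107r : band (Rule.ok (2 * 5) EX RL ⟨5 :: [3, 2, 5, 3, 5, 2, 3, 5, 2, 5, 3, 5, 3, 2, 5, 2, 5, 3, 5, 3, 2], [2, 4, 8], 4, false⟩) (lall (memL L) [3, 2, 5, 3, 5, 2, 3, 5, 2, 5, 3, 5, 3, 2, 5, 2, 5, 3, 5, 3, 2]) = true := by decide +kernel

theorem rot5_108 : T.rot 5 [1, 2, 5, 2, 1, 5, 2, 5, 1, 5, 2, 5, 1, 2, 5, 1, 5, 2, 5, 1, 2, 1] (sel (ones 170775) ip5 108) = true := by decide +kernel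

theorem rot5_108r : band (Rule.ok (2 * 5) EX RL ⟨5 :: [1, 2, 5, 2, 1, 5, 2, 5, 1, 5, 2, 5, 1, 2, 5, 1, 5, 2, 5, 1, 2, 1], [0, 2, 0], 17, true⟩) (lall (memL L) [1, 2, 5, 2, 1, 5, 2, 5, 1, 5, 2, 5, 1, 2, 5, 1, 5, 2, 5, 1, 2, 1]) = true := by decide +kernel

theorem rot5_109 : T.rot 5 [2, 1, 5, 2, 5, 1, 5, 2, 5, 1, 2, 5, 1, 5, 2, 5, 1, 2, 1, 5, 1, 2] (sel (ones 170775) ip5 109) = true := by decide +kernel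

theorem rot5_109r : band (Rule.ok (2 * 5) EX RL ⟨5 :: [2, 1, 5, 2, 5, 1, 5, 2, 5, 1, 2, 5, 1, 5, 2, 5, 1, 2, 1, 5, 1, 2], [0, 2, 0, 8, 0, 2], 17, true⟩) (lall (memL L) [2, 1, 5, 2, 5, 1, 5, 2, 5, 1, 2, 5, 1, 5, 2, 5, 1, 2, 1, 5, 1, 2]) = true := by decide +kernel

theorem rot5_110 : T.rot 5 [2, 5, 1, 5, 2, 5, 1, 2, 5, 1, 5, 2, 5, 1, 2, 1, 5, 1, 2, 5, 2, 1] (sel (ones 170775) ip5 110) = true := by decide +kernel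

theorem rot5_110r : band (Rule.ok (2 * 5) EX RL ⟨5 :: [2, 5, 1, 5, 2, 5, 1, 2, 5, 1, 5, 2, 5, 1, 2, 1, 5, 1, 2, 5, 2, 1], [0, 2, 0, 8, 0, 2, 8, 2, 0], 17, true⟩) (lall (memL L) [2, 5, 1, 5, 2, 5, 1, 2, 5, 1, 5, 2, 5, 1, 2, 1, 5, 1, 2, 5, 2, 1]) = true := by decide +kernel

theorem rot5_111 : T.rot 5 [1, 5, 2, 5, 1, 2, 5, 1, 5, 2, 5, 1, 2, 1, 5, 1, 2, 5, 2, 1, 5, 2] (sel (ones 170775) ip5 111) = true := by decide +kernel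

theorem rot5_111r : band (Rule.ok (2 * 5) EX RL ⟨5 :: [1, 5, 2, 5, 1, 2, 5, 1, 5, 2, 5, 1, 2, 1, 5, 1, 2, 5, 2, 1, 5, 2], [0, 2, 0, 8, 0, 2, 8, 2, 0, 8, 2], 17, true⟩) (lall (memL L) [1, 5, 2, 5, 1, 2, 5, 1, 5, 2, 5, 1, 2, 1, 5, 1, 2, 5, 2, 1, 5, 2]) = true := by decide +kernel

theorem rot5_112 : T.rot 5 [2, 5, 1, 2, 5, 1, 5, 2, 5, 1, 2, 1, 5, 1, 2, 5, 2, 1, 5, 2, 5, 1] (sel (ones 170775) ip5 112) = true := by decide +kernel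

theorem rot5_112r : band (Rule.ok (2 * 5) EX RL ⟨5 :: [2, 5, 1, 2, 5, 1, 5, 2, 5, 1, 2, 1, 5, 1, 2, 5, 2, 1, 5, 2, 5, 1], [8, 2, 8, 0, 8, 2, 0, 8, 2, 8], 17, true⟩) (lall (memL L) [2, 5, 1, 2, 5, 1, 5, 2, 5, 1, 2, 1, 5, 1, 2, 5, 2, 1, 5, 2, 5, 1]) = true := by decide +kernel

theorem rot5_113 : T.rot 5 [1, 2, 5, 1, 5, 2, 5, 1, 2, 1, 5, 1, 2, 5, 2, 1, 5, 2, 5, 1, 5, 2] (sel (ones 170775) ip5 113) = true := by decide +kernel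

theorem rot5_113r : band (Rule.ok (2 * 5) EX RL ⟨5 :: [1, 2, 5, 1, 5, 2, 5, 1, 2, 1, 5, 1, 2, 5, 2, 1, 5, 2, 5, 1, 5, 2], [8, 2, 8, 0, 8, 2, 0, 8], 17, true⟩) (lall (memL L) [1, 2, 5, 1, 5, 2, 5, 1, 2, 1, 5, 1, 2, 5, 2, 1, 5, 2, 5, 1, 5, 2]) = true := by decide +kernel

theorem rot5_114 : T.rot 5 [1, 5, 2, 5, 1, 2, 1, 5, 1, 2, 5, 2, 1, 5, 2, 5, 1, 5, 2, 5, 1, 2] (sel (ones 170775) ip5 114) = true := by decide +kernel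

theorem rot5_114r : band (Rule.ok (2 * 5) EX RL ⟨5 :: [1, 5, 2, 5, 1, 2, 1, 5, 1, 2, 5, 2, 1, 5, 2, 5, 1, 5, 2, 5, 1, 2], [8, 2, 8, 0, 8], 17, true⟩) (lall (memL L) [1, 5, 2, 5, 1, 2, 1, 5, 1, 2, 5, 2, 1, 5, 2, 5, 1, 5, 2, 5, 1, 2]) = true := by decide +kernel

theorem rot5_115 : T.rot 5 [2, 5, 1, 2, 1, 5, 1, 2, 5, 2, 1, 5, 2, 5, 1, 5, 2, 5, 1, 2, 5, 1] (sel (ones 170775) ip5 115) = true := by decide +kernel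

theorem rot5_115r : band (Rule.ok (2 * 5) EX RL ⟨5 :: [2, 5, 1, 2, 1, 5, 1, 2, 5, 2, 1, 5, 2, 5, 1, 5, 2, 5, 1, 2, 5, 1], [8, 2, 8], 17, true⟩) (lall (memL L) [2, 5, 1, 2, 1, 5, 1, 2, 5, 2, 1, 5, 2, 5, 1, 5, 2, 5, 1, 2, 5, 1]) = true := by decide +kernel

theorem rot5_116 : T.rot 5 [1, 2, 1, 5, 1, 2, 5, 2, 1, 5, 2, 5, 1, 5, 2, 5, 1, 2, 5, 1, 5, 2] (sel (ones 170775) ip5 116) = true := by decide +kernel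

theorem rot5_116r : band (Rule.ok (2 * 5) EX RL ⟨5 :: [1, 2, 1, 5, 1, 2, 5, 2, 1, 5, 2, 5, 1, 5, 2, 5, 1, 2, 5, 1, 5, 2], [8], 17, true⟩) (lall (memL L) [1, 2, 1, 5, 1, 2, 5, 2, 1, 5, 2, 5, 1, 5, 2, 5, 1, 2, 5, 1, 5, 2]) = true := by decide +kernel

theorem rot5_117 : T.rot 5 [2, 5, 1, 5, 2, 1, 5, 2, 5, 1, 5, 2, 5, 1, 2, 5, 2, 1, 5, 1, 2, 1] (sel (ones 170775) ip5 117) = true := by decide +kernel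

theorem rot5_117r : band (Rule.ok (2 * 5) EX RL ⟨5 :: [2, 5, 1, 5, 2, 1, 5, 2, 5, 1, 5, 2, 5, 1, 2, 5, 2, 1, 5, 1, 2, 1], [], 17, false⟩) (lall (memL L) [2, 5, 1, 5, 2, 1, 5, 2, 5, 1, 5, 2, 5, 1, 2, 5, 2, 1, 5, 1, 2, 1]) = true := by decide +kernel

theorem rot5_118 : T.rot 5 [1, 5, 2, 1, 5, 2, 5, 1, 5, 2, 5, 1, 2, 5, 2, 1, 5, 1, 2, 1, 5, 2] (sel (ones 170775) ip5 118) = true := by decide +kernel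

theorem rot5_118r : band (Rule.ok (2 * 5) EX RL ⟨5 :: [1, 5, 2, 1, 5, 2, 5, 1, 5, 2, 5, 1, 2, 5, 2, 1, 5, 1, 2, 1, 5, 2], [8, 2], 17, false⟩) (lall (memL L) [1, 5, 2, 1, 5, 2, 5, 1, 5, 2, 5, 1, 2, 5, 2, 1, 5, 1, 2, 1, 5, 2]) = true := by decide +kernel

theorem rot5_119 : T.rot 5 [2, 1, 5, 2, 5, 1, 5, 2, 5, 1, 2, 5, 2, 1, 5, 1, 2, 1, 5, 2, 5, 1] (sel (ones 170775) ip5 119) = true := by decide +kernel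

theorem rot5_119r : band (Rule.ok (2 * 5) EX RL ⟨5 :: [2, 1, 5, 2, 5, 1, 5, 2, 5, 1, 2, 5, 2, 1, 5, 1, 2, 1, 5, 2, 5, 1], [8, 2, 8, 0], 17, false⟩) (lall (memL L) [2, 1, 5, 2, 5, 1, 5, 2, 5, 1, 2, 5, 2, 1, 5, 1, 2, 1, 5, 2, 5, 1]) = true := by decide +kernel

theorem rot5_120 : T.rot 5 [2, 5, 1, 5, 2, 5, 1, 2, 5, 2, 1, 5, 1, 2, 1, 5, 2, 5, 1, 5, 2, 1] (sel (ones 170775) ip5 120) = true := by decide +kernel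

theorem rot5_120r : band (Rule.ok (2 * 5) EX RL ⟨5 :: [2, 5, 1, 5, 2, 5, 1, 2, 5, 2, 1, 5, 1, 2, 1, 5, 2, 5, 1, 5, 2, 1], [8, 2, 8, 0, 8, 2, 0], 17, false⟩) (lall (memL L) [2, 5, 1, 5, 2, 5, 1, 2, 5, 2, 1, 5, 1, 2, 1, 5, 2, 5, 1, 5, 2, 1]) = true := by decide +kernel

theorem rot5_121 : T.rot 5 [1, 5, 2, 5, 1, 2, 5, 2, 1, 5, 1, 2, 1, 5, 2, 5, 1, 5, 2, 1, 5, 2] (sel (ones 170775) ip5 121) = true := by decide +kernel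

theorem rot5_121r : band (Rule.ok (2 * 5) EX RL ⟨5 :: [1, 5, 2, 5, 1, 2, 5, 2, 1, 5, 1, 2, 1, 5, 2, 5, 1, 5, 2, 1, 5, 2], [8, 2, 8, 0, 8, 2, 0, 8, 2], 17, false⟩) (lall (memL L) [1, 5, 2, 5, 1, 2, 5, 2, 1, 5, 1, 2, 1, 5, 2, 5, 1, 5, 2, 1, 5, 2]) = true := by decide +kernel

theorem rot5_122 : T.rot 5 [2, 5, 1, 2, 5, 2, 1, 5, 1, 2, 1, 5, 2, 5, 1, 5, 2, 1, 5, 2, 5, 1] (sel (ones 170775) ip5 122) = true := by decide +kernel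

theorem rot5_122r : band (Rule.ok (2 * 5) EX RL ⟨5 :: [2, 5, 1, 2, 5, 2, 1, 5, 1, 2, 1, 5, 2, 5, 1, 5, 2, 1, 5, 2, 5, 1], [8, 2, 8, 0, 8, 2, 0, 8, 2, 8, 0], 17, false⟩) (lall (memL L) [2, 5, 1, 2, 5, 2, 1, 5, 1, 2, 1, 5, 2, 5, 1, 5, 2, 1, 5, 2, 5, 1]) = true := by decide +kernel

theorem rot5_123 : T.rot 5 [1, 2, 5, 2, 1, 5, 1, 2, 1, 5, 2, 5, 1, 5, 2, 1, 5, 2, 5, 1, 5, 2] (sel (ones 170775) ip5 123) = true := by decide +kernel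

theorem rot5_123r : band (Rule.ok (2 * 5) EX RL ⟨5 :: [1, 2, 5, 2, 1, 5, 1, 2, 1, 5, 2, 5, 1, 5, 2, 1, 5, 2, 5, 1, 5, 2], [0, 2, 0, 8, 0, 2, 8, 2, 0, 8], 17, false⟩) (lall (memL L) [1, 2, 5, 2, 1, 5, 1, 2, 1, 5, 2, 5, 1, 5, 2, 1, 5, 2, 5, 1, 5, 2]) = true := by decide +kernel

theorem rot5_124 : T.rot 5 [2, 1, 5, 1, 2, 1, 5, 2, 5, 1, 5, 2, 1, 5, 2, 5, 1, 5, 2, 5, 1, 2] (sel (ones 170775) ip5 124) = true := by decide +kernel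

theorem rot5_124r : band (Rule.ok (2 * 5) EX RL ⟨5 :: [2, 1, 5, 1, 2, 1, 5, 2, 5, 1, 5, 2, 1, 5, 2, 5, 1, 5, 2, 5, 1, 2], [0, 2, 0, 8, 0, 2, 8], 17, false⟩) (lall (memL L) [2, 1, 5, 1, 2, 1, 5, 2, 5, 1, 5, 2, 1, 5, 2, 5, 1, 5, 2, 5, 1, 2]) = true := by decide +kernel

theorem rot5_125 : T.rot 5 [1, 2, 1, 5, 2, 5, 1, 5, 2, 1, 5, 2, 5, 1, 5, 2, 5, 1, 2, 5, 2, 1] (sel (ones 170775) ip5 125) = true := by decide +kernel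

theorem rot5_125r : band (Rule.ok (2 * 5) EX RL ⟨5 :: [1, 2, 1, 5, 2, 5, 1, 5, 2, 1, 5, 2, 5, 1, 5, 2, 5, 1, 2, 5, 2, 1], [0, 2, 0, 8], 17, false⟩) (lall (memL L) [1, 2, 1, 5, 2, 5, 1, 5, 2, 1, 5, 2, 5, 1, 5, 2, 5, 1, 2, 5, 2, 1]) = true := by decide +kernel

theorem rot5_126 : T.rot 5 [2, 5, 2, 3, 5, 2, 3, 5, 2, 3, 5, 2, 3, 5, 2, 3, 5, 3, 2, 3, 5, 2, 3, 2] (sel (ones 170775) ip5 126) = true := by decide +kernel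

theorem rot5_126r : band (Rule.ok (2 * 5) EX RL ⟨5 :: [2, 5, 2, 3, 5, 2, 3, 5, 2, 3, 5, 2, 3, 5, 2, 3, 5, 3, 2, 3, 5, 2, 3, 2], [2, 4, 2], 5, true⟩) (lall (memL L) [2, 5, 2, 3, 5, 2, 3, 5, 2, 3, 5, 2, 3, 5, 2, 3, 5, 3, 2, 3, 5, 2, 3, 2]) = true := by decide +kernel

theorem rot5_127 : T.rot 5 [2, 3, 5, 2, 3, 5, 2, 3, 5, 2, 3, 5, 2, 3, 5, 3, 2, 3, 5, 2, 3, 2, 5, 2] (sel (ones 170775) ip5 127) = true := by decide +kernel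

theorem rot5_127r : band (Rule.ok (2 * 5) EX RL ⟨5 :: [2, 3, 5, 2, 3, 5, 2, 3, 5, 2, 3, 5, 2, 3, 5, 3, 2, 3, 5, 2, 3, 2, 5, 2], [2, 4, 2, 8, 2], 5, true⟩) (lall (memL L) [2, 3, 5, 2, 3, 5, 2, 3, 5, 2, 3, 5, 2, 3, 5, 3, 2, 3, 5, 2, 3, 2, 5, 2]) = true := by decide +kernel

theorem rot5_128 : T.rot 5 [2, 3, 5, 2, 3, 5, 2, 3, 5, 2, 3, 5, 3, 2, 3, 5, 2, 3, 2, 5, 2, 5, 2, 3] (sel (ones 170775) ip5 128) = true := by decide +kernel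

theorem rot5_128r : band (Rule.ok (2 * 5) EX RL ⟨5 :: [2, 3, 5, 2, 3, 5, 2, 3, 5, 2, 3, 5, 3, 2, 3, 5, 2, 3, 2, 5, 2, 5, 2, 3], [2, 4, 2, 8, 2, 8, 2, 4], 5, true⟩) (lall (memL L) [2, 3, 5, 2, 3, 5, 2, 3, 5, 2, 3, 5, 3, 2, 3, 5, 2, 3, 2, 5, 2, 5, 2, 3]) = true := by decide +kernel

theorem rot5_129 : T.rot 5 [2, 3, 5, 2, 3, 5, 2, 3, 5, 3, 2, 3, 5, 2, 3, 2, 5, 2, 5, 2, 3, 5, 2, 3] (sel (ones 170775) ip5 129) = true := by decide +kernel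

theorem rot5_129r : band (Rule.ok (2 * 5) EX RL ⟨5 :: [2, 3, 5, 2, 3, 5, 2, 3, 5, 3, 2, 3, 5, 2, 3, 2, 5, 2, 5, 2, 3, 5, 2, 3], [2, 4, 2, 8, 2, 8, 2, 4, 8, 2, 4], 5, true⟩) (lall (memL L) [2, 3, 5, 2, 3, 5, 2, 3, 5, 3, 2, 3, 5, 2, 3, 2, 5, 2, 5, 2, 3, 5, 2, 3]) = true := by decide +kernel

theorem rot5_130 : T.rot 5 [2, 3, 5, 2, 3, 5, 3, 2, 3, 5, 2, 3, 2, 5, 2, 5, 2, 3, 5, 2, 3, 5, 2, 3] (sel (ones 170775) ip5 130) = true := by decide +kernel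

theorem rot5_130r : band (Rule.ok (2 * 5) EX RL ⟨5 :: [2, 3, 5, 2, 3, 5, 3, 2, 3, 5, 2, 3, 2, 5, 2, 5, 2, 3, 5, 2, 3, 5, 2, 3], [8, 4, 2, 4, 8, 4, 2, 8, 4, 2, 8], 5, true⟩) (lall (memL L) [2, 3, 5, 2, 3, 5, 3, 2, 3, 5, 2, 3, 2, 5, 2, 5, 2, 3, 5, 2, 3, 5, 2, 3]) = true := by decide +kernel

theorem rot5_131 : T.rot 5 [2, 3, 5, 3, 2, 3, 5, 2, 3, 2, 5, 2, 5, 2, 3, 5, 2, 3, 5, 2, 3, 5, 2, 3] (sel (ones 170775) ip5 131) = true := by decide +kernel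

theorem rot5_131r : band (Rule.ok (2 * 5) EX RL ⟨5 :: [2, 3, 5, 3, 2, 3, 5, 2, 3, 2, 5, 2, 5, 2, 3, 5, 2, 3, 5, 2, 3, 5, 2, 3], [8, 4, 2, 4, 8, 4, 2, 8], 5, true⟩) (lall (memL L) [2, 3, 5, 3, 2, 3, 5, 2, 3, 2, 5, 2, 5, 2, 3, 5, 2, 3, 5, 2, 3, 5, 2, 3]) = true := by decide +kernel

theorem rot5_132 : T.rot 5 [3, 2, 3, 5, 2, 3, 2, 5, 2, 5, 2, 3, 5, 2, 3, 5, 2, 3, 5, 2, 3, 5, 2, 3] (sel (ones 170775) ip5 132) = true := by decide +kernel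

theorem rot5_132r : band (Rule.ok (2 * 5) EX RL ⟨5 :: [3, 2, 3, 5, 2, 3, 2, 5, 2, 5, 2, 3, 5, 2, 3, 5, 2, 3, 5, 2, 3, 5, 2, 3], [8, 4, 2, 4, 8], 5, true⟩) (lall (memL L) [3, 2, 3, 5, 2, 3, 2, 5, 2, 5, 2, 3, 5, 2, 3, 5, 2, 3, 5, 2, 3, 5, 2, 3]) = true := by decide +kernel

theorem rot5_133 : T.rot 5 [2, 3, 2, 5, 2, 5, 2, 3, 5, 2, 3, 5, 2, 3, 5, 2, 3, 5, 2, 3, 5, 3, 2, 3] (sel (ones 170775) ip5 133) = true := by decide +kernel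

theorem rot5_133r : band (Rule.ok (2 * 5) EX RL ⟨5 :: [2, 3, 2, 5, 2, 5, 2, 3, 5, 2, 3, 5, 2, 3, 5, 2, 3, 5, 2, 3, 5, 3, 2, 3], [8], 5, true⟩) (lall (memL L) [2, 3, 2, 5, 2, 5, 2, 3, 5, 2, 3, 5, 2, 3, 5, 2, 3, 5, 2, 3, 5, 3, 2, 3]) = true := by decide +kernel

theorem rot5_134 : T.rot 5 [3, 2, 3, 5, 3, 2, 5, 3, 2, 5, 3, 2, 5, 3, 2, 5, 3, 2, 5, 2, 5, 2, 3, 2] (sel (ones 170775) ip5 134) = true := by decide +kernel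

theorem rot5_134r : band (Rule.ok (2 * 5) EX RL ⟨5 :: [3, 2, 3, 5, 3, 2, 5, 3, 2, 5, 3, 2, 5, 3, 2, 5, 3, 2, 5, 2, 5, 2, 3, 2], [], 5, false⟩) (lall (memL L) [3, 2, 3, 5, 3, 2, 5, 3, 2, 5, 3, 2, 5, 3, 2, 5, 3, 2, 5, 2, 5, 2, 3, 2]) = true := by decide +kernel

theorem rot5_135 : T.rot 5 [3, 2, 5, 3, 2, 5, 3, 2, 5, 3, 2, 5, 3, 2, 5, 2, 5, 2, 3, 2, 5, 3, 2, 3] (sel (ones 170775) ip5 135) = true := by decide +kernel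

theorem rot5_135r : band (Rule.ok (2 * 5) EX RL ⟨5 :: [3, 2, 5, 3, 2, 5, 3, 2, 5, 3, 2, 5, 3, 2, 5, 2, 5, 2, 3, 2, 5, 3, 2, 3], [8, 4, 2, 4], 5, false⟩) (lall (memL L) [3, 2, 5, 3, 2, 5, 3, 2, 5, 3, 2, 5, 3, 2, 5, 2, 5, 2, 3, 2, 5, 3, 2, 3]) = true := by decide +kernel

theorem rot5_136 : T.rot 5 [3, 2, 5, 3, 2, 5, 3, 2, 5, 3, 2, 5, 2, 5, 2, 3, 2, 5, 3, 2, 3, 5, 3, 2] (sel (ones 170775) ip5 136) = true := by decide +kernel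

theorem rot5_136r : band (Rule.ok (2 * 5) EX RL ⟨5 :: [3, 2, 5, 3, 2, 5, 3, 2, 5, 3, 2, 5, 2, 5, 2, 3, 2, 5, 3, 2, 3, 5, 3, 2], [8, 4, 2, 4, 8, 4, 2], 5, false⟩) (lall (memL L) [3, 2, 5, 3, 2, 5, 3, 2, 5, 3, 2, 5, 2, 5, 2, 3, 2, 5, 3, 2, 3, 5, 3, 2]) = true := by decide +kernel

theorem rot5_137 : T.rot 5 [3, 2, 5, 3, 2, 5, 3, 2, 5, 2, 5, 2, 3, 2, 5, 3, 2, 3, 5, 3, 2, 5, 3, 2] (sel (ones 170775) ip5 137) = true := by decide +kernel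

theorem rot5_137r : band (Rule.ok (2 * 5) EX RL ⟨5 :: [3, 2, 5, 3, 2, 5, 3, 2, 5, 2, 5, 2, 3, 2, 5, 3, 2, 3, 5, 3, 2, 5, 3, 2], [8, 4, 2, 4, 8, 4, 2, 8, 4, 2], 5, false⟩) (lall (memL L) [3, 2, 5, 3, 2, 5, 3, 2, 5, 2, 5, 2, 3, 2, 5, 3, 2, 3, 5, 3, 2, 5, 3, 2]) = true := by decide +kernel

theorem rot5_138 : T.rot 5 [3, 2, 5, 3, 2, 5, 2, 5, 2, 3, 2, 5, 3, 2, 3, 5, 3, 2, 5, 3, 2, 5, 3, 2] (sel (ones 170775) ip5 138) = true := by decide +kernel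

theorem rot5_138r : band (Rule.ok (2 * 5) EX RL ⟨5 :: [3, 2, 5, 3, 2, 5, 2, 5, 2, 3, 2, 5, 3, 2, 3, 5, 3, 2, 5, 3, 2, 5, 3, 2], [2, 4, 2, 8, 2, 8, 2, 4, 8, 2, 4, 8], 5, false⟩) (lall (memL L) [3, 2, 5, 3, 2, 5, 2, 5, 2, 3, 2, 5, 3, 2, 3, 5, 3, 2, 5, 3, 2, 5, 3, 2]) = true := by decide +kernel

theorem rot5_139 : T.rot 5 [3, 2, 5, 2, 5, 2, 3, 2, 5, 3, 2, 3, 5, 3, 2, 5, 3, 2, 5, 3, 2, 5, 3, 2] (sel (ones 170775) ip5 139) = true := by decide +kernel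

theorem rot5_139r : band (Rule.ok (2 * 5) EX RL ⟨5 :: [3, 2, 5, 2, 5, 2, 3, 2, 5, 3, 2, 3, 5, 3, 2, 5, 3, 2, 5, 3, 2, 5, 3, 2], [2, 4, 2, 8, 2, 8, 2, 4, 8], 5, false⟩) (lall (memL L) [3, 2, 5, 2, 5, 2, 3, 2, 5, 3, 2, 3, 5, 3, 2, 5, 3, 2, 5, 3, 2, 5, 3, 2]) = true := by decide +kernel

theorem rot5_140 : T.rot 5 [2, 5, 2, 3, 2, 5, 3, 2, 3, 5, 3, 2, 5, 3, 2, 5, 3, 2, 5, 3, 2, 5, 3, 2] (sel (ones 170775) ip5 140) = true := by decide +kernel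

theorem rot5_140r : band (Rule.ok (2 * 5) EX RL ⟨5 :: [2, 5, 2, 3, 2, 5, 3, 2, 3, 5, 3, 2, 5, 3, 2, 5, 3, 2, 5, 3, 2, 5, 3, 2], [2, 4, 2, 8, 2, 8], 5, false⟩) (lall (memL L) [2, 5, 2, 3, 2, 5, 3, 2, 3, 5, 3, 2, 5, 3, 2, 5, 3, 2, 5, 3, 2, 5, 3, 2]) = true := by decide +kernel

theorem rot5_141 : T.rot 5 [2, 3, 2, 5, 3, 2, 3, 5, 3, 2, 5, 3, 2, 5, 3, 2, 5, 3, 2, 5, 3, 2, 5, 2] (sel (ones 170775) ip5 141) = true := by decide +kernel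

theorem rot5_141r : band (Rule.ok (2 * 5) EX RL ⟨5 :: [2, 3, 2, 5, 3, 2, 3, 5, 3, 2, 5, 3, 2, 5, 3, 2, 5, 3, 2, 5, 3, 2, 5, 2], [2, 4, 2, 8], 5, false⟩) (lall (memL L) [2, 3, 2, 5, 3, 2, 3, 5, 3, 2, 5, 3, 2, 5, 3, 2, 5, 3, 2, 5, 3, 2, 5, 2]) = true := by decide +kernel

theorem rot5_142 : T.rot 5 [3, 2, 1, 3, 5, 1, 2, 5, 2, 3, 5, 3, 2, 3, 5, 3, 2, 5, 2, 3, 1, 3, 2, 3] (sel (ones 170775) ip5 142) = true := by decide +kernel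

theorem rot5_142r : band (Rule.ok (2 * 5) EX RL ⟨5 :: [3, 2, 1, 3, 5, 1, 2, 5, 2, 3, 5, 3, 2, 3, 5, 3, 2, 5, 2, 3, 1, 3, 2, 3], [0, 4, 2, 4], 25, true⟩) (lall (memL L) [3, 2, 1, 3, 5, 1, 2, 5, 2, 3, 5, 3, 2, 3, 5, 3, 2, 5, 2, 3, 1, 3, 2, 3]) = true := by decide +kernel

theorem rot5_143 : T.rot 5 [1, 2, 5, 2, 3, 5, 3, 2, 3, 5, 3, 2, 5, 2, 3, 1, 3, 2, 3, 5, 3, 2, 1, 3] (sel (ones 170775) ip5 143) = true := by decide +kernel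

theorem rot5_143r : band (Rule.ok (2 * 5) EX RL ⟨5 :: [1, 2, 5, 2, 3, 5, 3, 2, 3, 5, 3, 2, 5, 2, 3, 1, 3, 2, 3, 5, 3, 2, 1, 3], [0, 4, 2, 4, 8, 4, 2, 0, 4], 25, true⟩) (lall (memL L) [1, 2, 5, 2, 3, 5, 3, 2, 3, 5, 3, 2, 5, 2, 3, 1, 3, 2, 3, 5, 3, 2, 1, 3]) = true := by decide +kernel

theorem rot5_144 : T.rot 5 [2, 3, 5, 3, 2, 3, 5, 3, 2, 5, 2, 3, 1, 3, 2, 3, 5, 3, 2, 1, 3, 5, 1, 2] (sel (ones 170775) ip5 144) = true := by decide +kernel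

theorem rot5_144r : band (Rule.ok (2 * 5) EX RL ⟨5 :: [2, 3, 5, 3, 2, 3, 5, 3, 2, 5, 2, 3, 1, 3, 2, 3, 5, 3, 2, 1, 3, 5, 1, 2], [0, 4, 2, 4, 8, 4, 2, 0, 4, 8, 0, 2], 25, true⟩) (lall (memL L) [2, 3, 5, 3, 2, 3, 5, 3, 2, 5, 2, 3, 1, 3, 2, 3, 5, 3, 2, 1, 3, 5, 1, 2]) = true := by decide +kernel

theorem rot5_145 : T.rot 5 [3, 2, 3, 5, 3, 2, 5, 2, 3, 1, 3, 2, 3, 5, 3, 2, 1, 3, 5, 1, 2, 5, 2, 3] (sel (ones 170775) ip5 145) = true := by decide +kernel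

theorem rot5_145r : band (Rule.ok (2 * 5) EX RL ⟨5 :: [3, 2, 3, 5, 3, 2, 5, 2, 3, 1, 3, 2, 3, 5, 3, 2, 1, 3, 5, 1, 2, 5, 2, 3], [4, 2, 8, 2, 4, 8, 4, 2, 4, 8], 25, true⟩) (lall (memL L) [3, 2, 3, 5, 3, 2, 5, 2, 3, 1, 3, 2, 3, 5, 3, 2, 1, 3, 5, 1, 2, 5, 2, 3]) = true := by decide +kernel

theorem rot5_146 : T.rot 5 [3, 2, 5, 2, 3, 1, 3, 2, 3, 5, 3, 2, 1, 3, 5, 1, 2, 5, 2, 3, 5, 3, 2, 3] (sel (ones 170775) ip5 146) = true := by decide +kernel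

theorem rot5_146r : band (Rule.ok (2 * 5) EX RL ⟨5 :: [3, 2, 5, 2, 3, 1, 3, 2, 3, 5, 3, 2, 1, 3, 5, 1, 2, 5, 2, 3, 5, 3, 2, 3], [4, 2, 8, 2, 4, 8], 25, true⟩) (lall (memL L) [3, 2, 5, 2, 3, 1, 3, 2, 3, 5, 3, 2, 1, 3, 5, 1, 2, 5, 2, 3, 5, 3, 2, 3]) = true := by decide +kernel

theorem rot5_147 : T.rot 5 [2, 3, 1, 3, 2, 3, 5, 3, 2, 1, 3, 5, 1, 2, 5, 2, 3, 5, 3, 2, 3, 5, 3, 2] (sel (ones 170775) ip5 147) = true := by decide +kernel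

theorem rot5_147r : band (Rule.ok (2 * 5) EX RL ⟨5 :: [2, 3, 1, 3, 2, 3, 5, 3, 2, 1, 3, 5, 1, 2, 5, 2, 3, 5, 3, 2, 3, 5, 3, 2], [4, 2, 8], 25, true⟩) (lall (memL L) [2, 3, 1, 3, 2, 3, 5, 3, 2, 1, 3, 5, 1, 2, 5, 2, 3, 5, 3, 2, 3, 5, 3, 2]) = true := by decide +kernel

end Cfsg.Agent.Spor.C3M
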