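import Cfsg.Agent.Spor.C3M.T

set_option autoImplicit false
set_option maxRecDepth 100000000
set_option Elab.async false

namespace Cfsg.Agent.Spor.C3M

theorem rot5_148 : T.rot 5 [2, 3, 5, 3, 2, 3, 5, 3, 2, 5, 2, 1, 5, 3, 1, 2, 3, 5, 3, 2, 3, 1, 3, 2] (sel (ones 170775) ip5 148) = true := by decide +kernel

theorem rot5_148r : band (Rule.ok (2 * 5) EX RL ⟨5 :: [2, 3, 5, 3, 2, 3, 5, 3, 2, 5, 2, 1, 5, 3, 1, 2, 3, 5, 3, 2, 3, 1, 3, 2], [4, 2], 25, false⟩) (lall (memL L) [2, 3, 5, 3, 2, 3, 5, 3, 2, 5, 2, 1, 5, 3, 1, 2, 3, 5, 3, 2, 3, 1, 3, 2]) = true := by decide +kernel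

theorem rot5_149 : T.rot 5 [3, 2, 3, 5, 3, 2, 5, 2, 1, 5, 3, 1, 2, 3, 5, 3, 2, 3, 1, 3, 2, 5, 2, 3] (sel (ones 170775) ip5 149) = true := by decide +kernel

theorem rot5_149r : band (Rule.ok (2 * 5) EX RL ⟨5 :: [3, 2, 3, 5, 3, 2, 5, 2, 1, 5, 3, 1, 2, 3, 5, 3, 2, 3, 1, 3, 2, 5, 2, 3], [4, 2, 8, 2, 4], 25, false⟩) (lall (memL L) [3, 2, 3, 5, 3, 2, 5, 2, 1, 5, 3, 1, 2, 3, 5, 3, 2, 3, 1, 3, 2, 5, 2, 3]) = true := by decide +kernel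

theorem rot5_150 : T.rot 5 [3, 2, 5, 2, 1, 5, 3, 1, 2, 3, 5, 3, 2, 3, 1, 3, 2, 5, 2, 3, 5, 3, 2, 3] (sel (ones 170775) ip5 150) = true := by decide +kernel

theorem rot5_150r : band (Rule.ok (2 * 5) EX RL ⟨5 :: [3, 2, 5, 2, 1, 5, 3, 1, 2, 3, 5, 3, 2, 3, 1, 3, 2, 5, 2, 3, 5, 3, 2, 3], [4, 2, 8, 2, 4, 8, 4, 2, 4], 25, false⟩) (lall (memL L) [3, 2, 5, 2, 1, 5, 3, 1, 2, 3, 5, 3, 2, 3, 1, 3, 2, 5, 2, 3, 5, 3, 2, 3]) = true := by decide +kernel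

theorem rot5_151 : T.rot 5 [2, 1, 5, 3, 1, 2, 3, 5, 3, 2, 3, 1, 3, 2, 5, 2, 3, 5, 3, 2, 3, 5, 3, 2] (sel (ones 170775) ip5 151) = true := by decide +kernel

theorem rot5_151r : band (Rule.ok (2 * 5) EX RL ⟨5 :: [2, 1, 5, 3, 1, 2, 3, 5, 3, 2, 3, 1, 3, 2, 5, 2, 3, 5, 3, 2, 3, 5, 3, 2], [4, 2, 8, 2, 4, 8, 4, 2, 4, 8, 4, 2], 25, false⟩) (lall (memL L) [2, 1, 5, 3, 1, 2, 3, 5, 3, 2, 3, 1, 3, 2, 5, 2, 3, 5, 3, 2, 3, 5, 3, 2]) = true := by decide +kernel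

theorem rot5_152 : T.rot 5 [3, 1, 2, 3, 5, 3, 2, 3, 1, 3, 2, 5, 2, 3, 5, 3, 2, 3, 5, 3, 2, 5, 2, 1] (sel (ones 170775) ip5 152) = true := by decide +kernel

theorem rot5_152r : band (Rule.ok (2 * 5) EX RL ⟨5 :: [3, 1, 2, 3, 5, 3, 2, 3, 1, 3, 2, 5, 2, 3, 5, 3, 2, 3, 5, 3, 2, 5, 2, 1], [0, 4, 2, 4, 8, 4, 2, 0, 4, 8], 25, false⟩) (lall (memL L) [3, 1, 2, 3, 5, 3, 2, 3, 1, 3, 2, 5, 2, 3, 5, 3, 2, 3, 5, 3, 2, 5, 2, 1]) = true := by decide +kernel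

theorem rot5_153 : T.rot 5 [3, 2, 3, 1, 3, 2, 5, 2, 3, 5, 3, 2, 3, 5, 3, 2, 5, 2, 1, 5, 3, 1, 2, 3] (sel (ones 170775) ip5 153) = true := by decide +kernel

theorem rot5_153r : band (Rule.ok (2 * 5) EX RL ⟨5 :: [3, 2, 3, 1, 3, 2, 5, 2, 3, 5, 3, 2, 3, 5, 3, 2, 5, 2, 1, 5, 3, 1, 2, 3], [0, 4, 2, 4, 8], 25, false⟩) (lall (memL L) [3, 2, 3, 1, 3, 2, 5, 2, 3, 5, 3, 2, 3, 5, 3, 2, 5, 2, 1, 5, 3, 1, 2, 3]) = true := by decide +kernel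

theorem rot5_154 : T.rot 5 [2, 5, 1, 3, 5, 1, 5, 2, 5, 3, 2, 3, 5, 3, 2, 5, 3, 5, 3, 2, 3, 5, 1, 3, 2, 3] (sel (ones 170775) ip5 154) = true := by decide +kernel

theorem rot5_154r : band (Rule.ok (2 * 5) EX RL ⟨5 :: [2, 5, 1, 3, 5, 1, 5, 2, 5, 3, 2, 3, 5, 3, 2, 5, 3, 5, 3, 2, 3, 5, 1, 3, 2, 3], [0, 4, 2, 4], 24, true⟩) (lall (memL L) [2, 5, 1, 3, 5, 1, 5, 2, 5, 3, 2, 3, 5, 3, 2, 5, 3, 5, 3, 2, 3, 5, 1, 3, 2, 3]) = true := by decide +kernel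

theorem rot5_155 : T.rot 5 [1, 3, 5, 1, 5, 2, 5, 3, 2, 3, 5, 3, 2, 5, 3, 5, 3, 2, 3, 5, 1, 3, 2, 3, 5, 2] (sel (ones 170775) ip5 155) = true := by decide +kernel

theorem rot5_155r : band (Rule.ok (2 * 5) EX RL ⟨5 :: [1, 3, 5, 1, 5, 2, 5, 3, 2, 3, 5, 3, 2, 5, 3, 5, 3, 2, 3, 5, 1, 3, 2, 3, 5, 2], [0, 4, 2, 4, 8, 2], 24, true⟩) (lall (memL L) [1, 3, 5, 1, 5, 2, 5, 3, 2, 3, 5, 3, 2, 5, 3, 5, 3, 2, 3, 5, 1, 3, 2, 3, 5, 2]) = true := by decide +kernel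

theorem rot5_156 : T.rot 5 [1, 5, 2, 5, 3, 2, 3, 5, 3, 2, 5, 3, 5, 3, 2, 3, 5, 1, 3, 2, 3, 5, 2, 5, 1, 3] (sel (ones 170775) ip5 156) = true := by decide +kernel

theorem rot5_156r : band (Rule.ok (2 * 5) EX RL ⟨5 :: [1, 5, 2, 5, 3, 2, 3, 5, 3, 2, 5, 3, 5, 3, 2, 3, 5, 1, 3, 2, 3, 5, 2, 5, 1, 3], [0, 4, 2, 4, 8, 2, 8, 0, 4], 24, true⟩) (lall (memL L) [1, 5, 2, 5, 3, 2, 3, 5, 3, 2, 5, 3, 5, 3, 2, 3, 5, 1, 3, 2, 3, 5, 2, 5, 1, 3]) = true := by decide +kernel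

theorem rot5_157 : T.rot 5 [2, 5, 3, 2, 3, 5, 3, 2, 5, 3, 5, 3, 2, 3, 5, 1, 3, 2, 3, 5, 2, 5, 1, 3, 5, 1] (sel (ones 170775) ip5 157) = true := by decide +kernel

theorem rot5_157r : band (Rule.ok (2 * 5) EX RL ⟨5 :: [2, 5, 3, 2, 3, 5, 3, 2, 5, 3, 5, 3, 2, 3, 5, 1, 3, 2, 3, 5, 2, 5, 1, 3, 5, 1], [0, 4, 2, 4, 8, 2, 8, 0, 4, 8, 0], 24, true⟩) (lall (memL L) [2, 5, 3, 2, 3, 5, 3, 2, 5, 3, 5, 3, 2, 3, 5, 1, 3, 2, 3, 5, 2, 5, 1, 3, 5, 1]) = true := by decide +kernel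

theorem rot5_158 : T.rot 5 [3, 2, 3, 5, 3, 2, 5, 3, 5, 3, 2, 3, 5, 1, 3, 2, 3, 5, 2, 5, 1, 3, 5, 1, 5, 2] (sel (ones 170775) ip5 158) = true := by decide +kernel

theorem rot5_158r : band (Rule.ok (2 * 5) EX RL ⟨5 :: [3, 2, 3, 5, 3, 2, 5, 3, 5, 3, 2, 3, 5, 1, 3, 2, 3, 5, 2, 5, 1, 3, 5, 1, 5, 2], [0, 4, 2, 4, 8, 2, 8, 0, 4, 8, 0, 8, 2], 24, true⟩) (lall (memL L) [3, 2, 3, 5, 3, 2, 5, 3, 5, 3, 2, 3, 5, 1, 3, 2, 3, 5, 2, 5, 1, 3, 5, 1, 5, 2]) = true := by decide +kernel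

theorem rot5_159 : T.rot 5 [3, 2, 5, 3, 5, 3, 2, 3, 5, 1, 3, 2, 3, 5, 2, 5, 1, 3, 5, 1, 5, 2, 5, 3, 2, 3] (sel (ones 170775) ip5 159) = true := by decide +kernel

theorem rot5_159r : band (Rule.ok (2 * 5) EX RL ⟨5 :: [3, 2, 5, 3, 5, 3, 2, 3, 5, 1, 3, 2, 3, 5, 2, 5, 1, 3, 5, 1, 5, 2, 5, 3, 2, 3], [8, 4, 2, 4, 8, 4, 8, 2, 4, 8], 24, true⟩) (lall (memL L) [3, 2, 5, 3, 5, 3, 2, 3, 5, 1, 3, 2, 3, 5, 2, 5, 1, 3, 5, 1, 5, 2, 5, 3, 2, 3]) = true := by decide +kernel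

theorem rot5_160 : T.rot 5 [3, 5, 3, 2, 3, 5, 1, 3, 2, 3, 5, 2, 5, 1, 3, 5, 1, 5, 2, 5, 3, 2, 3, 5, 3, 2] (sel (ones 170775) ip5 160) = true := by decide +kernel

theorem rot5_160r : band (Rule.ok (2 * 5) EX RL ⟨5 :: [3, 5, 3, 2, 3, 5, 1, 3, 2, 3, 5, 2, 5, 1, 3, 5, 1, 5, 2, 5, 3, 2, 3, 5, 3, 2], [8, 4, 2, 4, 8, 4, 8], 24, true⟩) (lall (memL L) [3, 5, 3, 2, 3, 5, 1, 3, 2, 3, 5, 2, 5, 1, 3, 5, 1, 5, 2, 5, 3, 2, 3, 5, 3, 2]) = true := by decide +kernel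

theorem rot5_161 : T.rot 5 [3, 2, 3, 5, 1, 3, 2, 3, 5, 2, 5, 1, 3, 5, 1, 5, 2, 5, 3, 2, 3, 5, 3, 2, 5, 3] (sel (ones 170775) ip5 161) = true := by decide +kernel

theorem rot5_161r : band (Rule.ok (2 * 5) EX RL ⟨5 :: [3, 2, 3, 5, 1, 3, 2, 3, 5, 2, 5, 1, 3, 5, 1, 5, 2, 5, 3, 2, 3, 5, 3, 2, 5, 3], [8, 4, 2, 4, 8], 24, true⟩) (lall (memL L) [3, 2, 3, 5, 1, 3, 2, 3, 5, 2, 5, 1, 3, 5, 1, 5, 2, 5, 3, 2, 3, 5, 3, 2, 5, 3]) = true := by decide +kernel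

theorem rot5_162 : T.rot 5 [1, 3, 2, 3, 5, 2, 5, 1, 3, 5, 1, 5, 2, 5, 3, 2, 3, 5, 3, 2, 5, 3, 5, 3, 2, 3] (sel (ones 170775) ip5 162) = true := by decide +kernel

theorem rot5_162r : band (Rule.ok (2 * 5) EX RL ⟨5 :: [1, 3, 2, 3, 5, 2, 5, 1, 3, 5, 1, 5, 2, 5, 3, 2, 3, 5, 3, 2, 5, 3, 5, 3, 2, 3], [8], 24, true⟩) (lall (memL L) [1, 3, 2, 3, 5, 2, 5, 1, 3, 5, 1, 5, 2, 5, 3, 2, 3, 5, 3, 2, 5, 3, 5, 3, 2, 3]) = true := by decide +kernel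

theorem rot5_163 : T.rot 5 [3, 2, 3, 5, 3, 5, 2, 3, 5, 3, 2, 3, 5, 2, 5, 1, 5, 3, 1, 5, 2, 5, 3, 2, 3, 1] (sel (ones 170775) ip5 163) = true := by decide +kernel

theorem rot5_163r : band (Rule.ok (2 * 5) EX RL ⟨5 :: [3, 2, 3, 5, 3, 5, 2, 3, 5, 3, 2, 3, 5, 2, 5, 1, 5, 3, 1, 5, 2, 5, 3, 2, 3, 1], [], 24, false⟩) (lall (memL L) [3, 2, 3, 5, 3, 5, 2, 3, 5, 3, 2, 3, 5, 2, 5, 1, 5, 3, 1, 5, 2, 5, 3, 2, 3, 1]) = true := by decide +kernel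

theorem rot5_164 : T.rot 5 [3, 5, 2, 3, 5, 3, 2, 3, 5, 2, 5, 1, 5, 3, 1, 5, 2, 5, 3, 2, 3, 1, 5, 3, 2, 3] (sel (ones 170775) ip5 164) = true := by decide +kernel

theorem rot5_164r : band (Rule.ok (2 * 5) EX RL ⟨5 :: [3, 5, 2, 3, 5, 3, 2, 3, 5, 2, 5, 1, 5, 3, 1, 5, 2, 5, 3, 2, 3, 1, 5, 3, 2, 3], [8, 4, 2, 4], 24, false⟩) (lall (memL L) [3, 5, 2, 3, 5, 3, 2, 3, 5, 2, 5, 1, 5, 3, 1, 5, 2, 5, 3, 2, 3, 1, 5, 3, 2, 3]) = true := by decide +kernel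

theorem rot5_165 : T.rot 5 [2, 3, 5, 3, 2, 3, 5, 2, 5, 1, 5, 3, 1, 5, 2, 5, 3, 2, 3, 1, 5, 3, 2, 3, 5, 3] (sel (ones 170775) ip5 165) = true := by decide +kernel

theorem rot5_165r : band (Rule.ok (2 * 5) EX RL ⟨5 :: [2, 3, 5, 3, 2, 3, 5, 2, 5, 1, 5, 3, 1, 5, 2, 5, 3, 2, 3, 1, 5, 3, 2, 3, 5, 3], [8, 4, 2, 4, 8, 4], 24, false⟩) (lall (memL L) [2, 3, 5, 3, 2, 3, 5, 2, 5, 1, 5, 3, 1, 5, 2, 5, 3, 2, 3, 1, 5, 3, 2, 3, 5, 3]) = true := by decide +kernel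

theorem rot5_166 : T.rot 5 [3, 2, 3, 5, 2, 5, 1, 5, 3, 1, 5, 2, 5, 3, 2, 3, 1, 5, 3, 2, 3, 5, 3, 5, 2, 3] (sel (ones 170775) ip5 166) = true := by decide +kernel

theorem rot5_166r : band (Rule.ok (2 * 5) EX RL ⟨5 :: [3, 2, 3, 5, 2, 5, 1, 5, 3, 1, 5, 2, 5, 3, 2, 3, 1, 5, 3, 2, 3, 5, 3, 5, 2, 3], [8, 4, 2, 4, 8, 4, 8, 2, 4], 24, false⟩) (lall (memL L) [3, 2, 3, 5, 2, 5, 1, 5, 3, 1, 5, 2, 5, 3, 2, 3, 1, 5, 3, 2, 3, 5, 3, 5, 2, 3]) = true := by decide +kernel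

theorem rot5_167 : T.rot 5 [2, 5, 1, 5, 3, 1, 5, 2, 5, 3, 2, 3, 1, 5, 3, 2, 3, 5, 3, 5, 2, 3, 5, 3, 2, 3] (sel (ones 170775) ip5 167) = true := by decide +kernel

theorem rot5_167r : band (Rule.ok (2 * 5) EX RL ⟨5 :: [2, 5, 1, 5, 3, 1, 5, 2, 5, 3, 2, 3, 1, 5, 3, 2, 3, 5, 3, 5, 2, 3, 5, 3, 2, 3], [8, 4, 2, 4, 8, 4, 8, 2, 4, 8, 4, 2, 4], 24, false⟩) (lall (memL L) [2, 5, 1, 5, 3, 1, 5, 2, 5, 3, 2, 3, 1, 5, 3, 2, 3, 5, 3, 5, 2, 3, 5, 3, 2, 3]) = true := by decide +kernel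

theorem rot5_168 : T.rot 5 [1, 5, 3, 1, 5, 2, 5, 3, 2, 3, 1, 5, 3, 2, 3, 5, 3, 5, 2, 3, 5, 3, 2, 3, 5, 2] (sel (ones 170775) ip5 168) = true := by decide +kernel

theorem rot5_168r : band (Rule.ok (2 * 5) EX RL ⟨5 :: [1, 5, 3, 1, 5, 2, 5, 3, 2, 3, 1, 5, 3, 2, 3, 5, 3, 5, 2, 3, 5, 3, 2, 3, 5, 2], [0, 4, 2, 4, 8, 2, 8, 0, 4, 8, 0, 8], 24, false⟩) (lall (memL L) [1, 5, 3, 1, 5, 2, 5, 3, 2, 3, 1, 5, 3, 2, 3, 5, 3, 5, 2, 3, 5, 3, 2, 3, 5, 2]) = true := by decide +kernel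

theorem rot5_169 : T.rot 5 [3, 1, 5, 2, 5, 3, 2, 3, 1, 5, 3, 2, 3, 5, 3, 5, 2, 3, 5, 3, 2, 3, 5, 2, 5, 1] (sel (ones 170775) ip5 169) = true := by decide +kernel

theorem rot5_169r : band (Rule.ok (2 * 5) EX RL ⟨5 :: [3, 1, 5, 2, 5, 3, 2, 3, 1, 5, 3, 2, 3, 5, 3, 5, 2, 3, 5, 3, 2, 3, 5, 2, 5, 1], [0, 4, 2, 4, 8, 2, 8, 0, 4, 8], 24, false⟩) (lall (memL L) [3, 1, 5, 2, 5, 3, 2, 3, 1, 5, 3, 2, 3, 5, 3, 5, 2, 3, 5, 3, 2, 3, 5, 2, 5, 1]) = true := by decide +kernel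

theorem rot5_170 : T.rot 5 [2, 5, 3, 2, 3, 1, 5, 3, 2, 3, 5, 3, 5, 2, 3, 5, 3, 2, 3, 5, 2, 5, 1, 5, 3, 1] (sel (ones 170775) ip5 170) = true := by decide +kernel

theorem rot5_170r : band (Rule.ok (2 * 5) EX RL ⟨5 :: [2, 5, 3, 2, 3, 1, 5, 3, 2, 3, 5, 3, 5, 2, 3, 5, 3, 2, 3, 5, 2, 5, 1, 5, 3, 1], [0, 4, 2, 4, 8, 2, 8], 24, false⟩) (lall (memL L) [2, 5, 3, 2, 3, 1, 5, 3, 2, 3, 5, 3, 5, 2, 3, 5, 3, 2, 3, 5, 2, 5, 1, 5, 3, 1]) = true := by decide +kernel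

theorem rot5_171 : T.rot 5 [3, 2, 3, 1, 5, 3, 2, 3, 5, 3, 5, 2, 3, 5, 3, 2, 3, 5, 2, 5, 1, 5, 3, 1, 5, 2] (sel (ones 170775) ip5 171) = true := by decide +kernel

theorem rot5_171r : band (Rule.ok (2 * 5) EX RL ⟨5 :: [3, 2, 3, 1, 5, 3, 2, 3, 5, 3, 5, 2, 3, 5, 3, 2, 3, 5, 2, 5, 1, 5, 3, 1, 5, 2], [0, 4, 2, 4, 8], 24, false⟩) (lall (memL L) [3, 2, 3, 1, 5, 3, 2, 3, 5, 3, 5, 2, 3, 5, 3, 2, 3, 5, 2, 5, 1, 5, 3, 1, 5, 2]) = true := by decide +kernel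

theorem cov5 : T.cover 5 [(sel (ones 170775) ip5 1), (sel (ones 170775) ip5 2), (sel (ones 170775) ip5 3), (sel (ones 170775) ip5 4), (sel (ones 170775) ip5 5), (sel (ones 170775) ip5 6), (sel (ones 170775) ip5 7), (sel (ones 170775) ip5 8), (sel (ones 170775) ip5 9), (sel (ones 170775) ip5 10), (sel (ones 170775) ip5 11), (sel (ones 170775) ip5 12), (sel (ones 170775) ip5 13), (sel (ones 170775) ip5 14), (sel (ones 170775) ip5 15), (sel (ones 170775) ip5 16), (sel (ones 170775) ip5 17), (sel (ones 170775) ip5 18), (sel (ones 170775) ip5 19), (sel (ones 170775) ip5 20), (sel (ones 170775) ip5 21), (sel (ones 170775) ip5 22), (sel (ones 170775) ip5 23), (sel (ones 170775) ip5 24), (sel (ones 170775) ip5 25), (sel (ones 170775) ip5 26), (sel (ones 170775) ip5 27), (sel (ones 170775) ip5 28), (sel (ones 170775) ip5 29), (sel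 (ones 170775) ip5 30), (sel (ones 170775) ip5 31), (sel (ones 170775) ip5 32), (sel (ones 170775) ip5 33), (sel (ones 170775) ip5 34), (sel (ones 170775) ip5 35), (sel (ones 170775) ip5 36), (sel (ones 170775) ip5 37), (sel (ones 170775) ip5 38), (sel (ones 170775) ip5 39), (sel (ones 170775) ip5 40), (sel (ones 170775) ip5 41), (sel (ones 170775) ip5 42), (sel (ones 170775) ip5 43), (sel (ones 170775) ip5 44), (sel (ones 170775) ip5 45), (sel (ones 170775) ip5 46), (sel (ones 170775) ip5 47), (sel (ones 170775) ip5 48), (sel (ones 170775) ip5 49), (sel (ones 170775) ip5 50), (sel (ones 170775) ip5 51), (sel (ones 170775) ip5 52), (sel (ones 170775) ip5 53), (sel (ones 170775) ip5 54), (sel (ones 170775) ip5 55), (sel (ones 170775) ip5 56), (sel (ones 170775) ip5 57), (sel (ones 170775) ip5 58), (sel (ones 170775) ip5 59),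 (sel (ones 170775) ip5 60), (sel (ones 170775) ip5 61), (sel (ones 170775) ip5 62), (sel (ones 170775) ip5 63), (sel (ones 170775) ip5 64), (sel (ones 170775) ip5 65), (sel (ones 170775) ip5 66), (sel (ones 170775) ip5 67), (sel (ones 170775) ip5 68), (sel (ones 170775) ip5 69), (sel (ones 170775) ip5 70), (sel (ones 170775) ip5 71), (sel (ones 170775) ip5 72), (sel (ones 170775) ip5 73), (sel (ones 170775) ip5 74), (sel (ones 170775) ip5 75), (sel (ones 170775) ip5 76), (sel (ones 170775) ip5 77), (sel (ones 170775) ip5 78), (sel (ones 170775) ip5 79), (sel (ones 170775) ip5 80), (sel (ones 170775) ip5 81), (sel (ones 170775) ip5 82), (sel (ones 170775) ip5 83), (sel (ones 170775) ip5 84), (sel (ones 170775) ip5 85), (sel (ones 170775) ip5 86), (sel (ones 170775) ip5 87), (sel (ones 170775) ip5 88), (sel (ones 170775) ip5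 89), (sel (ones 170775) ip5 90), (sel (ones 170775) ip5 91), (sel (ones 170775) ip5 92), (sel (ones 170775) ip5 93), (sel (ones 170775) ip5 94), (sel (ones 170775) ip5 95), (sel (ones 170775) ip5 96), (sel (ones 170775) ip5 97), (sel (ones 170775) ip5 98), (sel (ones 170775) ip5 99), (sel (ones 170775) ip5 100), (sel (ones 170775) ip5 101), (sel (ones 170775) ip5 102), (sel (ones 170775) ip5 103), (sel (ones 170775) ip5 104), (sel (ones 170775) ip5 105), (sel (ones 170775) ip5 106), (sel (ones 170775) ip5 107), (sel (ones 170775) ip5 108), (sel (ones 170775) ip5 109), (sel (ones 170775) ip5 110), (sel (ones 170775) ip5 111), (sel (ones 170775) ip5 112), (sel (ones 170775) ip5 113), (sel (ones 170775) ip5 114), (sel (ones 170775) ip5 115), (sel (ones 170775) ip5 116), (sel (ones 170775) ip5 117), (sel (ones 170775) ip5 118),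 (sel (ones 170775) ip5 119), (sel (ones 170775) ip5 120), (sel (ones 170775) ip5 121), (sel (ones 170775) ip5 122), (sel (ones 170775) ip5 123), (sel (ones 170775) ip5 124), (sel (ones 170775) ip5 125), (sel (ones 170775) ip5 126), (sel (ones 170775) ip5 127), (sel (ones 170775) ip5 128), (sel (ones 170775) ip5 129), (sel (ones 170775) ip5 130), (sel (ones 170775) ip5 131), (sel (ones 170775) ip5 132), (sel (ones 170775) ip5 133), (sel (ones 170775) ip5 134), (sel (ones 170775) ip5 135), (sel (ones 170775) ip5 136), (sel (ones 170775) ip5 137), (sel (ones 170775) ip5 138), (sel (ones 170775) ip5 139), (sel (ones 170775) ip5 140), (sel (ones 170775) ip5 141), (sel (ones 170775) ip5 142), (sel (ones 170775) ip5 143), (sel (ones 170775) ip5 144), (sel (ones 170775) ip5 145), (sel (ones 170775) ip5 146), (sel (ones 170775) ip5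 147), (sel (ones 170775) ip5 148), (sel (ones 170775) ip5 149), (sel (ones 170775) ip5 150), (sel (ones 170775) ip5 151), (sel (ones 170775) ip5 152), (sel (ones 170775) ip5 153), (sel (ones 170775) ip5 154), (sel (ones 170775) ip5 155), (sel (ones 170775) ip5 156), (sel (ones 170775) ip5 157), (sel (ones 170775) ip5 158), (sel (ones 170775) ip5 159), (sel (ones 170775) ip5 160), (sel (ones 170775) ip5 161), (sel (ones 170775) ip5 162), (sel (ones 170775) ip5 163), (sel (ones 170775) ip5 164), (sel (ones 170775) ip5 165), (sel (ones 170775) ip5 166), (sel (ones 170775) ip5 167), (sel (ones 170775) ip5 168), (sel (ones 170775) ip5 169), (sel (ones 170775) ip5 170), (sel (ones 170775) ip5 171), 1] = true := by decide +kernel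

theorem tl5 : T.treeLt 18 5 = true := by decide +kernel

end Cfsg.Agent.Spor.C3M
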