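import Cfsg.Agent.Spor.Cert
import Cfsg.Agent.Spor.C3M.C0
import Cfsg.Agent.Spor.C3M.C1
import Cfsg.Agent.Spor.C3M.C2
import Cfsg.Agent.Spor.C3M.C3
import Cfsg.Agent.Spor.C3M.C4

set_option autoImplicit false
set_option maxRecDepth 100000000
set_option Elab.async false
set_option linter.unusedSectionVars false

namespace Cfsg.Agent.Spor.C3M

theorem hT : T.Ok 18 := T.ok_of 18 (show AllP (fun n => Net.okb 18 n = true) [n0, n1, n2, n3, n4] from AllP.cons ok0 (AllP.cons ok1 (AllP.cons ok2 (AllP.cons ok3 (AllP.cons ok4 (AllP.nil))))))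

noncomputable def fP : ℕ → Equiv.Perm ℕ := T.fP gs

theorem hsq : ∀ j < 5, j < 5 → T.fP gs j * T.fP gs j = 1 :=
  Tab.sq (show AllP (fun z => evA T.τ [z, z] = 1) [1, 2, 3, 4, 5] from AllP.cons (hT.one rel0) (AllP.cons (hT.one rel1) (AllP.cons (hT.one rel2) (AllP.cons (hT.one rel3) (AllP.cons (hT.one rel4) (AllP.nil)))))) 5 rfl

theorem hiv : IvOk (2 * 5) (atm 5 (T.fP gs)) := ivOk_atm hsq

theorem pz1 : PZ T (atm 5 (T.fP gs)) EX 1 := PZ.of_atom (y := 2 * 0) (by decide +kernel) (atm_two_mul _ (by decide))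
theorem pz2 : PZ T (atm 5 (T.fP gs)) EX 2 := PZ.of_atom (y := 2 * 1) (by decide +kernel) (atm_two_mul _ (by decide))
theorem pz3 : PZ T (atm 5 (T.fP gs)) EX 3 := PZ.of_atom (y := 2 * 2) (by decide +kernel) (atm_two_mul _ (by decide))
theorem pz4 : PZ T (atm 5 (T.fP gs)) EX 4 := PZ.of_atom (y := 2 * 3) (by decide +kernel) (atm_two_mul _ (by decide))
theorem pz5 : PZ T (atm 5 (T.fP gs)) EX 5 := PZ.of_atom (y := 2 * 4) (by decide +kernel) (atm_two_mul _ (by decide))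
theorem hPZ : AllP (PZ T (atm 5 (T.fP gs)) EX) L :=
  show AllP (PZ T (atm 5 (T.fP gs)) EX) [1, 2, 3, 4, 5] from AllP.cons pz1 (AllP.cons pz2 (AllP.cons pz3 (AllP.cons pz4 (AllP.cons pz5 (AllP.nil)))))

theorem hrel : ∀ l ∈ RL, ev (atm 5 (T.fP gs)) l = 1 :=
  relAll_sound hiv (W := [[3, 2, 3, 2, 3, 2, 3, 2], [5, 2, 5, 2, 5, 2, 5, 2, 5, 2, 5, 2], [5, 3, 5, 3, 5, 3, 5, 3], [2, 3, 2, 3, 5, 2, 3, 2, 3, 5, 3, 2, 3, 2, 5], [2, 3, 5, 2, 3, 5, 3, 5, 2, 5, 2, 3, 5, 3, 5, 2, 5, 3, 2, 5, 3, 5], [2, 3, 2, 5, 2, 5, 2, 3, 5, 2, 3, 5, 2, 3, 5, 2, 3, 5, 2, 3, 5, 3, 2, 3, 5], [4, 2, 4, 2, 4, 2, 4, 2, 4, 2, 4, 2], [5, 4, 5, 4, 5, 4, 5, 4], [2, 4, 2, 4, 2, 4, 5, 4, 2, 5, 4, 5, 4, 2, 4, 2, 5, 2, 5], [2, 4, 2, 4, 5, 2, 4, 2, 5, 2, 4, 2, 4, 5, 2, 4, 2, 5], [4, 3, 4, 3, 4, 3, 4, 3, 4, 3, 4, 3], [4, 5, 3, 5, 3, 4, 5], [4, 2, 4, 2, 4, 3, 5, 2, 3, 2, 5, 2, 3, 5, 2, 5, 3, 2, 3], [4, 3, 2, 3, 4,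 2, 3, 4, 3, 4, 3, 2, 4, 3, 2, 3, 4, 2, 5, 2], [2, 1, 2, 1, 2, 1, 2, 1], [5, 1, 5, 1, 5, 1, 5, 1, 5, 1, 5, 1], [1, 2, 1, 2, 5, 1, 5, 2, 1, 2, 1, 5, 1, 5], [1, 2, 1, 5, 1, 2, 5, 2, 1, 5, 2, 5, 1, 5, 2, 5, 1, 2, 5, 1, 5, 2, 5], [1, 2, 5, 1, 2, 5, 1, 2, 5, 1, 2, 5, 1, 2, 5, 1, 2, 5], [4, 1, 4, 1, 4, 1], [1, 4, 5, 1, 2, 4, 2, 5, 4, 5, 2, 4, 2, 4, 5, 2, 5], [1, 4, 2, 4, 1, 4, 2, 5, 2, 5, 4, 5, 2, 5, 4, 5, 4, 2, 4], [3, 1, 3, 1, 3, 1, 3, 1, 3, 1, 3, 1], [1, 3, 5, 3, 1, 3, 5, 2, 3, 5, 2, 3, 2, 5, 3, 2, 5, 3], [1, 3, 2, 3, 5, 2, 5, 1, 3, 5, 1, 5, 2, 5, 3, 2, 3, 5, 3, 2, 5, 3, 5, 3, 2, 3, 5], [1, 3, 2, 3, 5, 3, 2, 1, 3, 5, 1, 2, 5, 2, 3, 5, 3, 2, 3, 5, 3, 2, 5, 2, 3], [1, 3, 2, 5, 2, 5, 2, 3, 1, 3, 2, 5, 2, 5, 2, 3], [1, 5, 2, 5, 1, 5, 2, 5, 3, 5, 2, 5, 2, 3, 5, 2, 3, 2, 5, 2]]) (rules := [⟨[3, 2, 3, 2, 3, 2, 3, 2], [], 0, true⟩, ⟨[5, 2, 5, 2, 5, 2, 5, 2, 5, 2, 5, 2], [], 1, true⟩,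 ⟨[5, 3, 5, 3, 5, 3, 5, 3], [], 2, true⟩, ⟨[2, 3, 2, 3, 5, 2, 3, 2, 3, 5, 3, 2, 3, 2, 5], [], 3, true⟩, ⟨[2, 3, 5, 2, 3, 5, 3, 5, 2, 5, 2, 3, 5, 3, 5, 2, 5, 3, 2, 5, 3, 5], [], 4, true⟩, ⟨[2, 3, 2, 5, 2, 5, 2, 3, 5, 2, 3, 5, 2, 3, 5, 2, 3, 5, 2, 3, 5, 3, 2, 3, 5], [], 5, true⟩, ⟨[4, 2, 4, 2, 4, 2, 4, 2, 4, 2, 4, 2], [], 6, true⟩, ⟨[5, 4, 5, 4, 5, 4, 5, 4], [], 7, true⟩, ⟨[2, 4, 2, 4, 2, 4, 5, 4, 2, 5, 4, 5, 4, 2, 4, 2, 5, 2, 5], [], 8, true⟩, ⟨[2, 4, 2, 4, 5, 2, 4, 2, 5, 2, 4, 2, 4, 5, 2, 4, 2, 5], [], 9, true⟩, ⟨[4, 3, 4, 3, 4, 3, 4, 3, 4, 3, 4, 3], [], 10, true⟩, ⟨[4, 5, 3, 5, 3, 4, 5], [], 11, true⟩, ⟨[4, 2, 4, 2, 4, 3, 5, 2, 3, 2, 5, 2, 3, 5, 2, 5, 3, 2, 3], [], 12, true⟩, ⟨[4, 3, 2, 3, 4, 2, 3, 4, 3, 4, 3, 2, 4, 3, 2, 3, 4, 2, 5, 2], [], 13, true⟩, ⟨[2, 1, 2, 1, 2, 1, 2, 1], [], 14, true⟩, ⟨[5, 1, 5, 1, 5, 1, 5, 1, 5, 1, 5, 1], [], 15, true⟩, ⟨[1, 2, 1, 2, 5, 1, 5,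 2, 1, 2, 1, 5, 1, 5], [], 16, true⟩, ⟨[1, 2, 1, 5, 1, 2, 5, 2, 1, 5, 2, 5, 1, 5, 2, 5, 1, 2, 5, 1, 5, 2, 5], [], 17, true⟩, ⟨[1, 2, 5, 1, 2, 5, 1, 2, 5, 1, 2, 5, 1, 2, 5, 1, 2, 5], [], 18, true⟩, ⟨[4, 1, 4, 1, 4, 1], [], 19, true⟩, ⟨[1, 4, 5, 1, 2, 4, 2, 5, 4, 5, 2, 4, 2, 4, 5, 2, 5], [], 20, true⟩, ⟨[1, 4, 2, 4, 1, 4, 2, 5, 2, 5, 4, 5, 2, 5, 4, 5, 4, 2, 4], [], 21, true⟩, ⟨[3, 1, 3, 1, 3, 1, 3, 1, 3, 1, 3, 1], [], 22, true⟩, ⟨[1, 3, 5, 3, 1, 3, 5, 2, 3, 5, 2, 3, 2, 5, 3, 2, 5, 3], [], 23, true⟩, ⟨[1, 3, 2, 3, 5, 2, 5, 1, 3, 5, 1, 5, 2, 5, 3, 2, 3, 5, 3, 2, 5, 3, 5, 3, 2, 3, 5], [], 24, true⟩, ⟨[1, 3, 2, 3, 5, 3, 2, 1, 3, 5, 1, 2, 5, 2, 3, 5, 3, 2, 3, 5, 3, 2, 5, 2, 3], [], 25, true⟩, ⟨[1, 3, 2, 5, 2, 5, 2, 3, 1, 3, 2, 5, 2, 5, 2, 3], [], 26, true⟩, ⟨[1, 5, 2, 5, 1, 5, 2, 5, 3, 5, 2, 5, 2, 3, 5, 2, 3, 2, 5, 2], [], 27, true⟩]) hPZ (AllP.cons (hT.one rel5) (AllP.cons (hT.one_of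 (PlaneFix.trans (hT.rel rel6_0) (hT.rel rel6_14))) (AllP.cons (hT.one rel7) (AllP.cons (hT.one_of (PlaneFix.trans (hT.rel rel8_0) (hT.rel rel8_11))) (AllP.cons (hT.one_of (PlaneFix.trans (PlaneFix.trans (hT.rel rel9_0) (hT.rel rel9_7)) (hT.rel rel9_14))) (AllP.cons (hT.one_of (PlaneFix.trans (PlaneFix.trans (hT.rel rel10_0) (hT.rel rel10_6)) (hT.rel rel10_12))) (AllP.cons (hT.one_of (PlaneFix.trans (hT.rel rel11_0) (hT.rel rel11_14))) (AllP.cons (hT.one rel12) (AllP.cons (hT.one_of (PlaneFix.trans (hT.rel rel13_0) (hT.rel rel13_9))) (AllP.cons (hT.one_of (PlaneFix.trans (hT.rel rel14_0) (hT.rel rel14_9))) (AllP.cons (hT.one_of (PlaneFix.trans (hT.rel rel15_0) (hT.rel rel15_14))) (AllP.cons (hT.one rel16) (AllP.cons (hT.one_of (PlaneFix.trans (hT.rel rel17_0) (hT.rel rel17_9))) (AllP.cons (hT.one_of (PlaneFix.trans (PlaneFix.trans (hT.rel rel18_0) (hT.rel rel18_8)) (hT.rel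 rel18_16))) (AllP.cons (hT.one rel19) (AllP.cons (hT.one_of (PlaneFix.trans (hT.rel rel20_0) (hT.rel rel20_14))) (AllP.cons (hT.one_of (PlaneFix.trans (hT.rel rel21_0) (hT.rel rel21_12))) (AllP.cons (hT.one_of (PlaneFix.trans (PlaneFix.trans (hT.rel rel22_0) (hT.rel rel22_7)) (hT.rel rel22_14))) (AllP.cons (hT.one_of (PlaneFix.trans (hT.rel rel23_0) (hT.rel rel23_9))) (AllP.cons (hT.one rel24) (AllP.cons (hT.one_of (PlaneFix.trans (hT.rel rel25_0) (hT.rel rel25_10))) (AllP.cons (hT.one_of (PlaneFix.trans (hT.rel rel26_0) (hT.rel rel26_9))) (AllP.cons (hT.one_of (PlaneFix.trans (hT.rel rel27_0) (hT.rel rel27_14))) (AllP.cons (hT.one_of (PlaneFix.trans (hT.rel rel28_0) (hT.rel rel28_9))) (AllP.cons (hT.one_of (PlaneFix.trans (PlaneFix.trans (hT.rel rel29_0) (hT.rel rel29_6)) (hT.rel rel29_12))) (AllP.cons (hT.one_of (PlaneFix.trans (PlaneFix.trans (hT.rel rel30_0) (hT.rel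 rel30_6)) (hT.rel rel30_12))) (AllP.cons (hT.one_of (PlaneFix.trans (hT.rel rel31_0) (hT.rel rel31_10))) (AllP.cons (hT.one_of (PlaneFix.trans (PlaneFix.trans (hT.rel rel32_0) (hT.rel rel32_8)) (hT.rel rel32_16))) (AllP.nil))))))))))))))))))))))))))))) (by decide +kernel)

section
variable {G : Type} [Group G] {a : ℕ → G} (hi : IvOk (2 * 5) a) (hR : ∀ r ∈ RL, ev a r = 1)
  {H : Subgroup G} (hb : ∀ z ∈ base, letV a EX z ∈ H)
include hi hR hb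

theorem let1 : LetOk H (letV a EX) T L 1 :=
  LetOk.of hT tl1 cov1 (AllP.cons (Just.rot hT hi hR rot1_1 rot1_1r) (AllP.cons (Just.rot hT hi hR rot1_2 rot1_2r) (AllP.cons (Just.rot hT hi hR rot1_3 rot1_3r) (AllP.cons (Just.rot hT hi hR rot1_4 rot1_4r) (AllP.cons (Just.rot hT hi hR rot1_5 rot1_5r) (AllP.cons (Just.rot hT hi hR rot1_6 rot1_6r) (AllP.cons (Just.rot hT hi hR rot1_7 rot1_7r) (AllP.cons (Just.rot hT hi hR rot1_8 rot1_8r) (AllP.cons (Just.rot hT hi hR rot1_9 rot1_9r) (AllP.cons (Just.rot hT hi hR rot1_10 rot1_10r) (AllP.cons (Just.rot hT hi hR rot1_11 rot1_11r) (AllP.cons (Just.rot hT hi hR rot1_12 rot1_12r) (AllP.cons (Just.rot hT hi hR rot1_13 rot1_13r) (AllP.cons (Just.rot hT hi hR rot1_14 rot1_14r) (AllP.cons (Just.rot hT hi hR rot1_15 rot1_15r) (AllP.cons (Just.rot hT hi hR rot1_16 rot1_16r) (AllP.cons (Just.rot hT hi hR rot1_17 rot1_17r) (AllP.cons (Just.rot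 hT hi hR rot1_18 rot1_18r) (AllP.cons (Just.rot hT hi hR rot1_19 rot1_19r) (AllP.cons (Just.rot hT hi hR rot1_20 rot1_20r) (AllP.cons (Just.rot hT hi hR rot1_21 rot1_21r) (AllP.cons (Just.rot hT hi hR rot1_22 rot1_22r) (AllP.cons (Just.rot hT hi hR rot1_23 rot1_23r) (AllP.cons (Just.rot hT hi hR rot1_24 rot1_24r) (AllP.cons (Just.rot hT hi hR rot1_25 rot1_25r) (AllP.cons (Just.rot hT hi hR rot1_26 rot1_26r) (AllP.cons (Just.rot hT hi hR rot1_27 rot1_27r) (AllP.cons (Just.rot hT hi hR rot1_28 rot1_28r) (AllP.cons (Just.rot hT hi hR rot1_29 rot1_29r) (AllP.cons (Just.rot hT hi hR rot1_30 rot1_30r) (AllP.cons (Just.rot hT hi hR rot1_31 rot1_31r) (AllP.cons (Just.rot hT hi hR rot1_32 rot1_32r) (AllP.cons (Just.rot hT hi hR rot1_33 rot1_33r) (AllP.cons (Just.rot hT hi hR rot1_34 rot1_34r) (AllP.cons (Just.rot hT hi hR rot1_35 rot1_35r) (AllP.cons (Just.rot hT hi hR rot1_36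 rot1_36r) (AllP.cons (Just.rot hT hi hR rot1_37 rot1_37r) (AllP.cons (Just.rot hT hi hR rot1_38 rot1_38r) (AllP.cons (Just.rot hT hi hR rot1_39 rot1_39r) (AllP.cons (Just.rot hT hi hR rot1_40 rot1_40r) (AllP.cons (Just.rot hT hi hR rot1_41 rot1_41r) (AllP.cons (Just.rot hT hi hR rot1_42 rot1_42r) (AllP.cons (Just.rot hT hi hR rot1_43 rot1_43r) (AllP.cons (Just.rot hT hi hR rot1_44 rot1_44r) (AllP.cons (Just.rot hT hi hR rot1_45 rot1_45r) (AllP.cons (Just.rot hT hi hR rot1_46 rot1_46r) (AllP.cons (Just.rot hT hi hR rot1_47 rot1_47r) (AllP.cons (Just.rot hT hi hR rot1_48 rot1_48r) (AllP.cons (Just.rot hT hi hR rot1_49 rot1_49r) (AllP.cons (Just.rot hT hi hR rot1_50 rot1_50r) (AllP.cons (Just.rot hT hi hR rot1_51 rot1_51r) (AllP.cons (Just.rot hT hi hR rot1_52 rot1_52r) (AllP.cons (Just.rot hT hi hR rot1_53 rot1_53r) (AllP.cons (Just.rot hT hi hR rot1_54 rot1_54r) (AllP.nil)))))))))))))))))))))))))))))))))))))))))))))))))))))))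
theorem let2 : LetOk H (letV a EX) T L 2 :=
  LetOk.of hT tl2 cov2 (AllP.cons (Just.rot hT hi hR rot2_1 rot2_1r) (AllP.cons (Just.rot hT hi hR rot2_2 rot2_2r) (AllP.cons (Just.rot hT hi hR rot2_3 rot2_3r) (AllP.cons (Just.rot hT hi hR rot2_4 rot2_4r) (AllP.cons (Just.rot hT hi hR rot2_5 rot2_5r) (AllP.cons (Just.rot hT hi hR rot2_6 rot2_6r) (AllP.cons (Just.rot hT hi hR rot2_7 rot2_7r) (AllP.cons (Just.rot hT hi hR rot2_8 rot2_8r) (AllP.cons (Just.rot hT hi hR rot2_9 rot2_9r) (AllP.cons (Just.rot hT hi hR rot2_10 rot2_10r) (AllP.cons (Just.rot hT hi hR rot2_11 rot2_11r) (AllP.cons (Just.rot hT hi hR rot2_12 rot2_12r) (AllP.cons (Just.rot hT hi hR rot2_13 rot2_13r) (AllP.cons (Just.rot hT hi hR rot2_14 rot2_14r) (AllP.cons (Just.rot hT hi hR rot2_15 rot2_15r) (AllP.cons (Just.rot hT hi hR rot2_16 rot2_16r) (AllP.cons (Just.rot hT hi hR rot2_17 rot2_17r) (AllP.cons (Just.rot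 hT hi hR rot2_18 rot2_18r) (AllP.cons (Just.rot hT hi hR rot2_19 rot2_19r) (AllP.cons (Just.rot hT hi hR rot2_20 rot2_20r) (AllP.cons (Just.rot hT hi hR rot2_21 rot2_21r) (AllP.cons (Just.rot hT hi hR rot2_22 rot2_22r) (AllP.cons (Just.rot hT hi hR rot2_23 rot2_23r) (AllP.cons (Just.rot hT hi hR rot2_24 rot2_24r) (AllP.cons (Just.rot hT hi hR rot2_25 rot2_25r) (AllP.cons (Just.rot hT hi hR rot2_26 rot2_26r) (AllP.cons (Just.rot hT hi hR rot2_27 rot2_27r) (AllP.cons (Just.rot hT hi hR rot2_28 rot2_28r) (AllP.cons (Just.rot hT hi hR rot2_29 rot2_29r) (AllP.cons (Just.rot hT hi hR rot2_30 rot2_30r) (AllP.cons (Just.rot hT hi hR rot2_31 rot2_31r) (AllP.cons (Just.rot hT hi hR rot2_32 rot2_32r) (AllP.cons (Just.rot hT hi hR rot2_33 rot2_33r) (AllP.cons (Just.rot hT hi hR rot2_34 rot2_34r) (AllP.cons (Just.rot hT hi hR rot2_35 rot2_35r) (AllP.cons (Just.rot hT hi hR rot2_36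 rot2_36r) (AllP.cons (Just.rot hT hi hR rot2_37 rot2_37r) (AllP.cons (Just.rot hT hi hR rot2_38 rot2_38r) (AllP.cons (Just.rot hT hi hR rot2_39 rot2_39r) (AllP.cons (Just.rot hT hi hR rot2_40 rot2_40r) (AllP.cons (Just.rot hT hi hR rot2_41 rot2_41r) (AllP.cons (Just.rot hT hi hR rot2_42 rot2_42r) (AllP.cons (Just.rot hT hi hR rot2_43 rot2_43r) (AllP.cons (Just.rot hT hi hR rot2_44 rot2_44r) (AllP.cons (Just.rot hT hi hR rot2_45 rot2_45r) (AllP.cons (Just.rot hT hi hR rot2_46 rot2_46r) (AllP.cons (Just.rot hT hi hR rot2_47 rot2_47r) (AllP.cons (Just.rot hT hi hR rot2_48 rot2_48r) (AllP.cons (Just.rot hT hi hR rot2_49 rot2_49r) (AllP.cons (Just.rot hT hi hR rot2_50 rot2_50r) (AllP.cons (Just.rot hT hi hR rot2_51 rot2_51r) (AllP.cons (Just.rot hT hi hR rot2_52 rot2_52r) (AllP.cons (Just.rot hT hi hR rot2_53 rot2_53r) (AllP.cons (Just.rot hT hi hR rot2_54 rot2_54r) (AllP.cons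 (Just.rot hT hi hR rot2_55 rot2_55r) (AllP.cons (Just.rot hT hi hR rot2_56 rot2_56r) (AllP.cons (Just.rot hT hi hR rot2_57 rot2_57r) (AllP.cons (Just.rot hT hi hR rot2_58 rot2_58r) (AllP.cons (Just.rot hT hi hR rot2_59 rot2_59r) (AllP.cons (Just.rot hT hi hR rot2_60 rot2_60r) (AllP.cons (Just.rot hT hi hR rot2_61 rot2_61r) (AllP.cons (Just.rot hT hi hR rot2_62 rot2_62r) (AllP.cons (Just.rot hT hi hR rot2_63 rot2_63r) (AllP.cons (Just.rot hT hi hR rot2_64 rot2_64r) (AllP.cons (Just.rot hT hi hR rot2_65 rot2_65r) (AllP.cons (Just.rot hT hi hR rot2_66 rot2_66r) (AllP.cons (Just.rot hT hi hR rot2_67 rot2_67r) (AllP.cons (Just.rot hT hi hR rot2_68 rot2_68r) (AllP.cons (Just.rot hT hi hR rot2_69 rot2_69r) (AllP.cons (Just.rot hT hi hR rot2_70 rot2_70r) (AllP.cons (Just.rot hT hi hR rot2_71 rot2_71r) (AllP.cons (Just.rot hT hi hR rot2_72 rot2_72r) (AllP.cons (Just.rot hT hi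 hR rot2_73 rot2_73r) (AllP.cons (Just.rot hT hi hR rot2_74 rot2_74r) (AllP.cons (Just.rot hT hi hR rot2_75 rot2_75r) (AllP.cons (Just.rot hT hi hR rot2_76 rot2_76r) (AllP.cons (Just.rot hT hi hR rot2_77 rot2_77r) (AllP.cons (Just.rot hT hi hR rot2_78 rot2_78r) (AllP.cons (Just.rot hT hi hR rot2_79 rot2_79r) (AllP.cons (Just.rot hT hi hR rot2_80 rot2_80r) (AllP.cons (Just.rot hT hi hR rot2_81 rot2_81r) (AllP.cons (Just.rot hT hi hR rot2_82 rot2_82r) (AllP.cons (Just.rot hT hi hR rot2_83 rot2_83r) (AllP.cons (Just.rot hT hi hR rot2_84 rot2_84r) (AllP.cons (Just.rot hT hi hR rot2_85 rot2_85r) (AllP.cons (Just.rot hT hi hR rot2_86 rot2_86r) (AllP.cons (Just.rot hT hi hR rot2_87 rot2_87r) (AllP.cons (Just.rot hT hi hR rot2_88 rot2_88r) (AllP.cons (Just.rot hT hi hR rot2_89 rot2_89r) (AllP.cons (Just.rot hT hi hR rot2_90 rot2_90r) (AllP.cons (Just.rot hT hi hR rot2_91 rot2_91r)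 (AllP.cons (Just.rot hT hi hR rot2_92 rot2_92r) (AllP.cons (Just.rot hT hi hR rot2_93 rot2_93r) (AllP.cons (Just.rot hT hi hR rot2_94 rot2_94r) (AllP.cons (Just.rot hT hi hR rot2_95 rot2_95r) (AllP.cons (Just.rot hT hi hR rot2_96 rot2_96r) (AllP.cons (Just.rot hT hi hR rot2_97 rot2_97r) (AllP.cons (Just.rot hT hi hR rot2_98 rot2_98r) (AllP.cons (Just.rot hT hi hR rot2_99 rot2_99r) (AllP.cons (Just.rot hT hi hR rot2_100 rot2_100r) (AllP.cons (Just.rot hT hi hR rot2_101 rot2_101r) (AllP.cons (Just.rot hT hi hR rot2_102 rot2_102r) (AllP.cons (Just.rot hT hi hR rot2_103 rot2_103r) (AllP.cons (Just.rot hT hi hR rot2_104 rot2_104r) (AllP.cons (Just.rot hT hi hR rot2_105 rot2_105r) (AllP.cons (Just.rot hT hi hR rot2_106 rot2_106r) (AllP.cons (Just.rot hT hi hR rot2_107 rot2_107r) (AllP.cons (Just.rot hT hi hR rot2_108 rot2_108r) (AllP.cons (Just.rot hT hi hR rot2_109 rot2_109r)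 (AllP.cons (Just.rot hT hi hR rot2_110 rot2_110r) (AllP.cons (Just.rot hT hi hR rot2_111 rot2_111r) (AllP.cons (Just.rot hT hi hR rot2_112 rot2_112r) (AllP.cons (Just.rot hT hi hR rot2_113 rot2_113r) (AllP.cons (Just.rot hT hi hR rot2_114 rot2_114r) (AllP.cons (Just.rot hT hi hR rot2_115 rot2_115r) (AllP.cons (Just.rot hT hi hR rot2_116 rot2_116r) (AllP.cons (Just.rot hT hi hR rot2_117 rot2_117r) (AllP.cons (Just.rot hT hi hR rot2_118 rot2_118r) (AllP.cons (Just.rot hT hi hR rot2_119 rot2_119r) (AllP.cons (Just.rot hT hi hR rot2_120 rot2_120r) (AllP.cons (Just.rot hT hi hR rot2_121 rot2_121r) (AllP.cons (Just.rot hT hi hR rot2_122 rot2_122r) (AllP.cons (Just.rot hT hi hR rot2_123 rot2_123r) (AllP.cons (Just.rot hT hi hR rot2_124 rot2_124r) (AllP.cons (Just.rot hT hi hR rot2_125 rot2_125r) (AllP.cons (Just.rot hT hi hR rot2_126 rot2_126r) (AllP.cons (Just.rot hT hi hR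 rot2_127 rot2_127r) (AllP.cons (Just.rot hT hi hR rot2_128 rot2_128r) (AllP.cons (Just.rot hT hi hR rot2_129 rot2_129r) (AllP.cons (Just.rot hT hi hR rot2_130 rot2_130r) (AllP.cons (Just.rot hT hi hR rot2_131 rot2_131r) (AllP.cons (Just.rot hT hi hR rot2_132 rot2_132r) (AllP.cons (Just.rot hT hi hR rot2_133 rot2_133r) (AllP.cons (Just.rot hT hi hR rot2_134 rot2_134r) (AllP.cons (Just.rot hT hi hR rot2_135 rot2_135r) (AllP.cons (Just.rot hT hi hR rot2_136 rot2_136r) (AllP.cons (Just.rot hT hi hR rot2_137 rot2_137r) (AllP.cons (Just.rot hT hi hR rot2_138 rot2_138r) (AllP.cons (Just.rot hT hi hR rot2_139 rot2_139r) (AllP.cons (Just.rot hT hi hR rot2_140 rot2_140r) (AllP.cons (Just.rot hT hi hR rot2_141 rot2_141r) (AllP.cons (Just.rot hT hi hR rot2_142 rot2_142r) (AllP.cons (Just.rot hT hi hR rot2_143 rot2_143r) (AllP.cons (Just.rot hT hi hR rot2_144 rot2_144r) (AllP.cons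 (Just.rot hT hi hR rot2_145 rot2_145r) (AllP.cons (Just.rot hT hi hR rot2_146 rot2_146r) (AllP.cons (Just.rot hT hi hR rot2_147 rot2_147r) (AllP.cons (Just.rot hT hi hR rot2_148 rot2_148r) (AllP.cons (Just.rot hT hi hR rot2_149 rot2_149r) (AllP.cons (Just.rot hT hi hR rot2_150 rot2_150r) (AllP.cons (Just.rot hT hi hR rot2_151 rot2_151r) (AllP.cons (Just.rot hT hi hR rot2_152 rot2_152r) (AllP.cons (Just.rot hT hi hR rot2_153 rot2_153r) (AllP.cons (Just.rot hT hi hR rot2_154 rot2_154r) (AllP.cons (Just.rot hT hi hR rot2_155 rot2_155r) (AllP.cons (Just.rot hT hi hR rot2_156 rot2_156r) (AllP.cons (Just.rot hT hi hR rot2_157 rot2_157r) (AllP.cons (Just.rot hT hi hR rot2_158 rot2_158r) (AllP.cons (Just.rot hT hi hR rot2_159 rot2_159r) (AllP.cons (Just.rot hT hi hR rot2_160 rot2_160r) (AllP.cons (Just.rot hT hi hR rot2_161 rot2_161r) (AllP.cons (Just.rot hT hi hR rot2_162 rot2_162r)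 (AllP.cons (Just.rot hT hi hR rot2_163 rot2_163r) (AllP.cons (Just.rot hT hi hR rot2_164 rot2_164r) (AllP.cons (Just.rot hT hi hR rot2_165 rot2_165r) (AllP.cons (Just.rot hT hi hR rot2_166 rot2_166r) (AllP.cons (Just.rot hT hi hR rot2_167 rot2_167r) (AllP.cons (Just.rot hT hi hR rot2_168 rot2_168r) (AllP.cons (Just.rot hT hi hR rot2_169 rot2_169r) (AllP.cons (Just.rot hT hi hR rot2_170 rot2_170r) (AllP.cons (Just.rot hT hi hR rot2_171 rot2_171r) (AllP.cons (Just.rot hT hi hR rot2_172 rot2_172r) (AllP.cons (Just.rot hT hi hR rot2_173 rot2_173r) (AllP.cons (Just.rot hT hi hR rot2_174 rot2_174r) (AllP.cons (Just.rot hT hi hR rot2_175 rot2_175r) (AllP.cons (Just.rot hT hi hR rot2_176 rot2_176r) (AllP.cons (Just.base (hb 2 (by decide))) (AllP.nil))))))))))))))))))))))))))))))))))))))))))))))))))))))))))))))))))))))))))))))))))))))))))))))))))))))))))))))))))))))))))))))))))))))))))))))))))))))))))))))))))))))))))))))))))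
theorem let3 : LetOk H (letV a EX) T L 3 :=
  LetOk.of hT tl3 cov3 (AllP.cons (Just.rot hT hi hR rot3_1 rot3_1r) (AllP.cons (Just.rot hT hi hR rot3_2 rot3_2r) (AllP.cons (Just.rot hT hi hR rot3_3 rot3_3r) (AllP.cons (Just.rot hT hi hR rot3_4 rot3_4r) (AllP.cons (Just.rot hT hi hR rot3_5 rot3_5r) (AllP.cons (Just.rot hT hi hR rot3_6 rot3_6r) (AllP.cons (Just.rot hT hi hR rot3_7 rot3_7r) (AllP.cons (Just.rot hT hi hR rot3_8 rot3_8r) (AllP.cons (Just.rot hT hi hR rot3_9 rot3_9r) (AllP.cons (Just.rot hT hi hR rot3_10 rot3_10r) (AllP.cons (Just.rot hT hi hR rot3_11 rot3_11r) (AllP.cons (Just.rot hT hi hR rot3_12 rot3_12r) (AllP.cons (Just.rot hT hi hR rot3_13 rot3_13r) (AllP.cons (Just.rot hT hi hR rot3_14 rot3_14r) (AllP.cons (Just.rot hT hi hR rot3_15 rot3_15r) (AllP.cons (Just.rot hT hi hR rot3_16 rot3_16r) (AllP.cons (Just.rot hT hi hR rot3_17 rot3_17r) (AllP.cons (Just.rot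 hT hi hR rot3_18 rot3_18r) (AllP.cons (Just.rot hT hi hR rot3_19 rot3_19r) (AllP.cons (Just.rot hT hi hR rot3_20 rot3_20r) (AllP.cons (Just.rot hT hi hR rot3_21 rot3_21r) (AllP.cons (Just.rot hT hi hR rot3_22 rot3_22r) (AllP.cons (Just.rot hT hi hR rot3_23 rot3_23r) (AllP.cons (Just.rot hT hi hR rot3_24 rot3_24r) (AllP.cons (Just.rot hT hi hR rot3_25 rot3_25r) (AllP.cons (Just.rot hT hi hR rot3_26 rot3_26r) (AllP.cons (Just.rot hT hi hR rot3_27 rot3_27r) (AllP.cons (Just.rot hT hi hR rot3_28 rot3_28r) (AllP.cons (Just.rot hT hi hR rot3_29 rot3_29r) (AllP.cons (Just.rot hT hi hR rot3_30 rot3_30r) (AllP.cons (Just.rot hT hi hR rot3_31 rot3_31r) (AllP.cons (Just.rot hT hi hR rot3_32 rot3_32r) (AllP.cons (Just.rot hT hi hR rot3_33 rot3_33r) (AllP.cons (Just.rot hT hi hR rot3_34 rot3_34r) (AllP.cons (Just.rot hT hi hR rot3_35 rot3_35r) (AllP.cons (Just.rot hT hi hR rot3_36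 rot3_36r) (AllP.cons (Just.rot hT hi hR rot3_37 rot3_37r) (AllP.cons (Just.rot hT hi hR rot3_38 rot3_38r) (AllP.cons (Just.rot hT hi hR rot3_39 rot3_39r) (AllP.cons (Just.rot hT hi hR rot3_40 rot3_40r) (AllP.cons (Just.rot hT hi hR rot3_41 rot3_41r) (AllP.cons (Just.rot hT hi hR rot3_42 rot3_42r) (AllP.cons (Just.rot hT hi hR rot3_43 rot3_43r) (AllP.cons (Just.rot hT hi hR rot3_44 rot3_44r) (AllP.cons (Just.rot hT hi hR rot3_45 rot3_45r) (AllP.cons (Just.rot hT hi hR rot3_46 rot3_46r) (AllP.cons (Just.rot hT hi hR rot3_47 rot3_47r) (AllP.cons (Just.rot hT hi hR rot3_48 rot3_48r) (AllP.cons (Just.rot hT hi hR rot3_49 rot3_49r) (AllP.cons (Just.rot hT hi hR rot3_50 rot3_50r) (AllP.cons (Just.rot hT hi hR rot3_51 rot3_51r) (AllP.cons (Just.rot hT hi hR rot3_52 rot3_52r) (AllP.cons (Just.rot hT hi hR rot3_53 rot3_53r) (AllP.cons (Just.rot hT hi hR rot3_54 rot3_54r) (AllP.cons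 (Just.rot hT hi hR rot3_55 rot3_55r) (AllP.cons (Just.rot hT hi hR rot3_56 rot3_56r) (AllP.cons (Just.rot hT hi hR rot3_57 rot3_57r) (AllP.cons (Just.rot hT hi hR rot3_58 rot3_58r) (AllP.cons (Just.rot hT hi hR rot3_59 rot3_59r) (AllP.cons (Just.rot hT hi hR rot3_60 rot3_60r) (AllP.cons (Just.rot hT hi hR rot3_61 rot3_61r) (AllP.cons (Just.rot hT hi hR rot3_62 rot3_62r) (AllP.cons (Just.rot hT hi hR rot3_63 rot3_63r) (AllP.cons (Just.rot hT hi hR rot3_64 rot3_64r) (AllP.cons (Just.rot hT hi hR rot3_65 rot3_65r) (AllP.cons (Just.rot hT hi hR rot3_66 rot3_66r) (AllP.cons (Just.rot hT hi hR rot3_67 rot3_67r) (AllP.cons (Just.rot hT hi hR rot3_68 rot3_68r) (AllP.cons (Just.rot hT hi hR rot3_69 rot3_69r) (AllP.cons (Just.rot hT hi hR rot3_70 rot3_70r) (AllP.cons (Just.rot hT hi hR rot3_71 rot3_71r) (AllP.cons (Just.rot hT hi hR rot3_72 rot3_72r) (AllP.cons (Just.rot hT hi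 hR rot3_73 rot3_73r) (AllP.cons (Just.rot hT hi hR rot3_74 rot3_74r) (AllP.cons (Just.rot hT hi hR rot3_75 rot3_75r) (AllP.cons (Just.rot hT hi hR rot3_76 rot3_76r) (AllP.cons (Just.rot hT hi hR rot3_77 rot3_77r) (AllP.cons (Just.rot hT hi hR rot3_78 rot3_78r) (AllP.cons (Just.rot hT hi hR rot3_79 rot3_79r) (AllP.cons (Just.rot hT hi hR rot3_80 rot3_80r) (AllP.cons (Just.rot hT hi hR rot3_81 rot3_81r) (AllP.cons (Just.rot hT hi hR rot3_82 rot3_82r) (AllP.cons (Just.rot hT hi hR rot3_83 rot3_83r) (AllP.cons (Just.rot hT hi hR rot3_84 rot3_84r) (AllP.cons (Just.rot hT hi hR rot3_85 rot3_85r) (AllP.cons (Just.rot hT hi hR rot3_86 rot3_86r) (AllP.cons (Just.rot hT hi hR rot3_87 rot3_87r) (AllP.cons (Just.rot hT hi hR rot3_88 rot3_88r) (AllP.cons (Just.rot hT hi hR rot3_89 rot3_89r) (AllP.cons (Just.rot hT hi hR rot3_90 rot3_90r) (AllP.cons (Just.rot hT hi hR rot3_91 rot3_91r)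 (AllP.cons (Just.rot hT hi hR rot3_92 rot3_92r) (AllP.cons (Just.rot hT hi hR rot3_93 rot3_93r) (AllP.cons (Just.rot hT hi hR rot3_94 rot3_94r) (AllP.cons (Just.rot hT hi hR rot3_95 rot3_95r) (AllP.cons (Just.rot hT hi hR rot3_96 rot3_96r) (AllP.cons (Just.rot hT hi hR rot3_97 rot3_97r) (AllP.cons (Just.rot hT hi hR rot3_98 rot3_98r) (AllP.cons (Just.rot hT hi hR rot3_99 rot3_99r) (AllP.cons (Just.rot hT hi hR rot3_100 rot3_100r) (AllP.cons (Just.rot hT hi hR rot3_101 rot3_101r) (AllP.cons (Just.rot hT hi hR rot3_102 rot3_102r) (AllP.cons (Just.rot hT hi hR rot3_103 rot3_103r) (AllP.cons (Just.rot hT hi hR rot3_104 rot3_104r) (AllP.cons (Just.rot hT hi hR rot3_105 rot3_105r) (AllP.cons (Just.rot hT hi hR rot3_106 rot3_106r) (AllP.cons (Just.rot hT hi hR rot3_107 rot3_107r) (AllP.cons (Just.rot hT hi hR rot3_108 rot3_108r) (AllP.cons (Just.rot hT hi hR rot3_109 rot3_109r)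 (AllP.cons (Just.rot hT hi hR rot3_110 rot3_110r) (AllP.cons (Just.rot hT hi hR rot3_111 rot3_111r) (AllP.cons (Just.rot hT hi hR rot3_112 rot3_112r) (AllP.cons (Just.rot hT hi hR rot3_113 rot3_113r) (AllP.cons (Just.rot hT hi hR rot3_114 rot3_114r) (AllP.cons (Just.rot hT hi hR rot3_115 rot3_115r) (AllP.cons (Just.rot hT hi hR rot3_116 rot3_116r) (AllP.cons (Just.rot hT hi hR rot3_117 rot3_117r) (AllP.cons (Just.rot hT hi hR rot3_118 rot3_118r) (AllP.cons (Just.rot hT hi hR rot3_119 rot3_119r) (AllP.cons (Just.base (hb 3 (by decide))) (AllP.nil)))))))))))))))))))))))))))))))))))))))))))))))))))))))))))))))))))))))))))))))))))))))))))))))))))))))))))))))))))))))))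
theorem let4 : LetOk H (letV a EX) T L 4 :=
  LetOk.of hT tl4 cov4 (AllP.cons (Just.rot hT hi hR rot4_1 rot4_1r) (AllP.cons (Just.rot hT hi hR rot4_2 rot4_2r) (AllP.cons (Just.rot hT hi hR rot4_3 rot4_3r) (AllP.cons (Just.rot hT hi hR rot4_4 rot4_4r) (AllP.cons (Just.rot hT hi hR rot4_5 rot4_5r) (AllP.cons (Just.rot hT hi hR rot4_6 rot4_6r) (AllP.cons (Just.rot hT hi hR rot4_7 rot4_7r) (AllP.cons (Just.rot hT hi hR rot4_8 rot4_8r) (AllP.cons (Just.rot hT hi hR rot4_9 rot4_9r) (AllP.cons (Just.rot hT hi hR rot4_10 rot4_10r) (AllP.cons (Just.rot hT hi hR rot4_11 rot4_11r) (AllP.cons (Just.rot hT hi hR rot4_12 rot4_12r) (AllP.cons (Just.rot hT hi hR rot4_13 rot4_13r) (AllP.cons (Just.rot hT hi hR rot4_14 rot4_14r) (AllP.cons (Just.rot hT hi hR rot4_15 rot4_15r) (AllP.cons (Just.rot hT hi hR rot4_16 rot4_16r) (AllP.cons (Just.rot hT hi hR rot4_17 rot4_17r) (AllP.cons (Just.rot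 hT hi hR rot4_18 rot4_18r) (AllP.cons (Just.rot hT hi hR rot4_19 rot4_19r) (AllP.cons (Just.rot hT hi hR rot4_20 rot4_20r) (AllP.cons (Just.rot hT hi hR rot4_21 rot4_21r) (AllP.cons (Just.rot hT hi hR rot4_22 rot4_22r) (AllP.cons (Just.rot hT hi hR rot4_23 rot4_23r) (AllP.cons (Just.rot hT hi hR rot4_24 rot4_24r) (AllP.cons (Just.rot hT hi hR rot4_25 rot4_25r) (AllP.cons (Just.rot hT hi hR rot4_26 rot4_26r) (AllP.cons (Just.rot hT hi hR rot4_27 rot4_27r) (AllP.cons (Just.rot hT hi hR rot4_28 rot4_28r) (AllP.cons (Just.rot hT hi hR rot4_29 rot4_29r) (AllP.cons (Just.rot hT hi hR rot4_30 rot4_30r) (AllP.cons (Just.rot hT hi hR rot4_31 rot4_31r) (AllP.cons (Just.rot hT hi hR rot4_32 rot4_32r) (AllP.cons (Just.rot hT hi hR rot4_33 rot4_33r) (AllP.cons (Just.rot hT hi hR rot4_34 rot4_34r) (AllP.cons (Just.rot hT hi hR rot4_35 rot4_35r) (AllP.cons (Just.rot hT hi hR rot4_36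 rot4_36r) (AllP.cons (Just.rot hT hi hR rot4_37 rot4_37r) (AllP.cons (Just.rot hT hi hR rot4_38 rot4_38r) (AllP.cons (Just.rot hT hi hR rot4_39 rot4_39r) (AllP.cons (Just.rot hT hi hR rot4_40 rot4_40r) (AllP.cons (Just.rot hT hi hR rot4_41 rot4_41r) (AllP.cons (Just.rot hT hi hR rot4_42 rot4_42r) (AllP.cons (Just.rot hT hi hR rot4_43 rot4_43r) (AllP.cons (Just.rot hT hi hR rot4_44 rot4_44r) (AllP.cons (Just.rot hT hi hR rot4_45 rot4_45r) (AllP.cons (Just.rot hT hi hR rot4_46 rot4_46r) (AllP.cons (Just.rot hT hi hR rot4_47 rot4_47r) (AllP.cons (Just.rot hT hi hR rot4_48 rot4_48r) (AllP.cons (Just.rot hT hi hR rot4_49 rot4_49r) (AllP.cons (Just.rot hT hi hR rot4_50 rot4_50r) (AllP.cons (Just.rot hT hi hR rot4_51 rot4_51r) (AllP.cons (Just.rot hT hi hR rot4_52 rot4_52r) (AllP.cons (Just.rot hT hi hR rot4_53 rot4_53r) (AllP.cons (Just.rot hT hi hR rot4_54 rot4_54r) (AllP.cons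 (Just.rot hT hi hR rot4_55 rot4_55r) (AllP.cons (Just.rot hT hi hR rot4_56 rot4_56r) (AllP.cons (Just.rot hT hi hR rot4_57 rot4_57r) (AllP.cons (Just.rot hT hi hR rot4_58 rot4_58r) (AllP.cons (Just.rot hT hi hR rot4_59 rot4_59r) (AllP.cons (Just.rot hT hi hR rot4_60 rot4_60r) (AllP.cons (Just.rot hT hi hR rot4_61 rot4_61r) (AllP.cons (Just.rot hT hi hR rot4_62 rot4_62r) (AllP.cons (Just.rot hT hi hR rot4_63 rot4_63r) (AllP.cons (Just.rot hT hi hR rot4_64 rot4_64r) (AllP.cons (Just.rot hT hi hR rot4_65 rot4_65r) (AllP.cons (Just.base (hb 4 (by decide))) (AllP.nil)))))))))))))))))))))))))))))))))))))))))))))))))))))))))))))))))))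
theorem let5 : LetOk H (letV a EX) T L 5 :=
  LetOk.of hT tl5 cov5 (AllP.cons (Just.rot hT hi hR rot5_1 rot5_1r) (AllP.cons (Just.rot hT hi hR rot5_2 rot5_2r) (AllP.cons (Just.rot hT hi hR rot5_3 rot5_3r) (AllP.cons (Just.rot hT hi hR rot5_4 rot5_4r) (AllP.cons (Just.rot hT hi hR rot5_5 rot5_5r) (AllP.cons (Just.rot hT hi hR rot5_6 rot5_6r) (AllP.cons (Just.rot hT hi hR rot5_7 rot5_7r) (AllP.cons (Just.rot hT hi hR rot5_8 rot5_8r) (AllP.cons (Just.rot hT hi hR rot5_9 rot5_9r) (AllP.cons (Just.rot hT hi hR rot5_10 rot5_10r) (AllP.cons (Just.rot hT hi hR rot5_11 rot5_11r) (AllP.cons (Just.rot hT hi hR rot5_12 rot5_12r) (AllP.cons (Just.rot hT hi hR rot5_13 rot5_13r) (AllP.cons (Just.rot hT hi hR rot5_14 rot5_14r) (AllP.cons (Just.rot hT hi hR rot5_15 rot5_15r) (AllP.cons (Just.rot hT hi hR rot5_16 rot5_16r) (AllP.cons (Just.rot hT hi hR rot5_17 rot5_17r) (AllP.cons (Just.rot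 hT hi hR rot5_18 rot5_18r) (AllP.cons (Just.rot hT hi hR rot5_19 rot5_19r) (AllP.cons (Just.rot hT hi hR rot5_20 rot5_20r) (AllP.cons (Just.rot hT hi hR rot5_21 rot5_21r) (AllP.cons (Just.rot hT hi hR rot5_22 rot5_22r) (AllP.cons (Just.rot hT hi hR rot5_23 rot5_23r) (AllP.cons (Just.rot hT hi hR rot5_24 rot5_24r) (AllP.cons (Just.rot hT hi hR rot5_25 rot5_25r) (AllP.cons (Just.rot hT hi hR rot5_26 rot5_26r) (AllP.cons (Just.rot hT hi hR rot5_27 rot5_27r) (AllP.cons (Just.rot hT hi hR rot5_28 rot5_28r) (AllP.cons (Just.rot hT hi hR rot5_29 rot5_29r) (AllP.cons (Just.rot hT hi hR rot5_30 rot5_30r) (AllP.cons (Just.rot hT hi hR rot5_31 rot5_31r) (AllP.cons (Just.rot hT hi hR rot5_32 rot5_32r) (AllP.cons (Just.rot hT hi hR rot5_33 rot5_33r) (AllP.cons (Just.rot hT hi hR rot5_34 rot5_34r) (AllP.cons (Just.rot hT hi hR rot5_35 rot5_35r) (AllP.cons (Just.rot hT hi hR rot5_36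 rot5_36r) (AllP.cons (Just.rot hT hi hR rot5_37 rot5_37r) (AllP.cons (Just.rot hT hi hR rot5_38 rot5_38r) (AllP.cons (Just.rot hT hi hR rot5_39 rot5_39r) (AllP.cons (Just.rot hT hi hR rot5_40 rot5_40r) (AllP.cons (Just.rot hT hi hR rot5_41 rot5_41r) (AllP.cons (Just.rot hT hi hR rot5_42 rot5_42r) (AllP.cons (Just.rot hT hi hR rot5_43 rot5_43r) (AllP.cons (Just.rot hT hi hR rot5_44 rot5_44r) (AllP.cons (Just.rot hT hi hR rot5_45 rot5_45r) (AllP.cons (Just.rot hT hi hR rot5_46 rot5_46r) (AllP.cons (Just.rot hT hi hR rot5_47 rot5_47r) (AllP.cons (Just.rot hT hi hR rot5_48 rot5_48r) (AllP.cons (Just.rot hT hi hR rot5_49 rot5_49r) (AllP.cons (Just.rot hT hi hR rot5_50 rot5_50r) (AllP.cons (Just.rot hT hi hR rot5_51 rot5_51r) (AllP.cons (Just.rot hT hi hR rot5_52 rot5_52r) (AllP.cons (Just.rot hT hi hR rot5_53 rot5_53r) (AllP.cons (Just.rot hT hi hR rot5_54 rot5_54r) (AllP.cons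 (Just.rot hT hi hR rot5_55 rot5_55r) (AllP.cons (Just.rot hT hi hR rot5_56 rot5_56r) (AllP.cons (Just.rot hT hi hR rot5_57 rot5_57r) (AllP.cons (Just.rot hT hi hR rot5_58 rot5_58r) (AllP.cons (Just.rot hT hi hR rot5_59 rot5_59r) (AllP.cons (Just.rot hT hi hR rot5_60 rot5_60r) (AllP.cons (Just.rot hT hi hR rot5_61 rot5_61r) (AllP.cons (Just.rot hT hi hR rot5_62 rot5_62r) (AllP.cons (Just.rot hT hi hR rot5_63 rot5_63r) (AllP.cons (Just.rot hT hi hR rot5_64 rot5_64r) (AllP.cons (Just.rot hT hi hR rot5_65 rot5_65r) (AllP.cons (Just.rot hT hi hR rot5_66 rot5_66r) (AllP.cons (Just.rot hT hi hR rot5_67 rot5_67r) (AllP.cons (Just.rot hT hi hR rot5_68 rot5_68r) (AllP.cons (Just.rot hT hi hR rot5_69 rot5_69r) (AllP.cons (Just.rot hT hi hR rot5_70 rot5_70r) (AllP.cons (Just.rot hT hi hR rot5_71 rot5_71r) (AllP.cons (Just.rot hT hi hR rot5_72 rot5_72r) (AllP.cons (Just.rot hT hi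 hR rot5_73 rot5_73r) (AllP.cons (Just.rot hT hi hR rot5_74 rot5_74r) (AllP.cons (Just.rot hT hi hR rot5_75 rot5_75r) (AllP.cons (Just.rot hT hi hR rot5_76 rot5_76r) (AllP.cons (Just.rot hT hi hR rot5_77 rot5_77r) (AllP.cons (Just.rot hT hi hR rot5_78 rot5_78r) (AllP.cons (Just.rot hT hi hR rot5_79 rot5_79r) (AllP.cons (Just.rot hT hi hR rot5_80 rot5_80r) (AllP.cons (Just.rot hT hi hR rot5_81 rot5_81r) (AllP.cons (Just.rot hT hi hR rot5_82 rot5_82r) (AllP.cons (Just.rot hT hi hR rot5_83 rot5_83r) (AllP.cons (Just.rot hT hi hR rot5_84 rot5_84r) (AllP.cons (Just.rot hT hi hR rot5_85 rot5_85r) (AllP.cons (Just.rot hT hi hR rot5_86 rot5_86r) (AllP.cons (Just.rot hT hi hR rot5_87 rot5_87r) (AllP.cons (Just.rot hT hi hR rot5_88 rot5_88r) (AllP.cons (Just.rot hT hi hR rot5_89 rot5_89r) (AllP.cons (Just.rot hT hi hR rot5_90 rot5_90r) (AllP.cons (Just.rot hT hi hR rot5_91 rot5_91r)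 (AllP.cons (Just.rot hT hi hR rot5_92 rot5_92r) (AllP.cons (Just.rot hT hi hR rot5_93 rot5_93r) (AllP.cons (Just.rot hT hi hR rot5_94 rot5_94r) (AllP.cons (Just.rot hT hi hR rot5_95 rot5_95r) (AllP.cons (Just.rot hT hi hR rot5_96 rot5_96r) (AllP.cons (Just.rot hT hi hR rot5_97 rot5_97r) (AllP.cons (Just.rot hT hi hR rot5_98 rot5_98r) (AllP.cons (Just.rot hT hi hR rot5_99 rot5_99r) (AllP.cons (Just.rot hT hi hR rot5_100 rot5_100r) (AllP.cons (Just.rot hT hi hR rot5_101 rot5_101r) (AllP.cons (Just.rot hT hi hR rot5_102 rot5_102r) (AllP.cons (Just.rot hT hi hR rot5_103 rot5_103r) (AllP.cons (Just.rot hT hi hR rot5_104 rot5_104r) (AllP.cons (Just.rot hT hi hR rot5_105 rot5_105r) (AllP.cons (Just.rot hT hi hR rot5_106 rot5_106r) (AllP.cons (Just.rot hT hi hR rot5_107 rot5_107r) (AllP.cons (Just.rot hT hi hR rot5_108 rot5_108r) (AllP.cons (Just.rot hT hi hR rot5_109 rot5_109r)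 (AllP.cons (Just.rot hT hi hR rot5_110 rot5_110r) (AllP.cons (Just.rot hT hi hR rot5_111 rot5_111r) (AllP.cons (Just.rot hT hi hR rot5_112 rot5_112r) (AllP.cons (Just.rot hT hi hR rot5_113 rot5_113r) (AllP.cons (Just.rot hT hi hR rot5_114 rot5_114r) (AllP.cons (Just.rot hT hi hR rot5_115 rot5_115r) (AllP.cons (Just.rot hT hi hR rot5_116 rot5_116r) (AllP.cons (Just.rot hT hi hR rot5_117 rot5_117r) (AllP.cons (Just.rot hT hi hR rot5_118 rot5_118r) (AllP.cons (Just.rot hT hi hR rot5_119 rot5_119r) (AllP.cons (Just.rot hT hi hR rot5_120 rot5_120r) (AllP.cons (Just.rot hT hi hR rot5_121 rot5_121r) (AllP.cons (Just.rot hT hi hR rot5_122 rot5_122r) (AllP.cons (Just.rot hT hi hR rot5_123 rot5_123r) (AllP.cons (Just.rot hT hi hR rot5_124 rot5_124r) (AllP.cons (Just.rot hT hi hR rot5_125 rot5_125r) (AllP.cons (Just.rot hT hi hR rot5_126 rot5_126r) (AllP.cons (Just.rot hT hi hR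 rot5_127 rot5_127r) (AllP.cons (Just.rot hT hi hR rot5_128 rot5_128r) (AllP.cons (Just.rot hT hi hR rot5_129 rot5_129r) (AllP.cons (Just.rot hT hi hR rot5_130 rot5_130r) (AllP.cons (Just.rot hT hi hR rot5_131 rot5_131r) (AllP.cons (Just.rot hT hi hR rot5_132 rot5_132r) (AllP.cons (Just.rot hT hi hR rot5_133 rot5_133r) (AllP.cons (Just.rot hT hi hR rot5_134 rot5_134r) (AllP.cons (Just.rot hT hi hR rot5_135 rot5_135r) (AllP.cons (Just.rot hT hi hR rot5_136 rot5_136r) (AllP.cons (Just.rot hT hi hR rot5_137 rot5_137r) (AllP.cons (Just.rot hT hi hR rot5_138 rot5_138r) (AllP.cons (Just.rot hT hi hR rot5_139 rot5_139r) (AllP.cons (Just.rot hT hi hR rot5_140 rot5_140r) (AllP.cons (Just.rot hT hi hR rot5_141 rot5_141r) (AllP.cons (Just.rot hT hi hR rot5_142 rot5_142r) (AllP.cons (Just.rot hT hi hR rot5_143 rot5_143r) (AllP.cons (Just.rot hT hi hR rot5_144 rot5_144r) (AllP.cons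 (Just.rot hT hi hR rot5_145 rot5_145r) (AllP.cons (Just.rot hT hi hR rot5_146 rot5_146r) (AllP.cons (Just.rot hT hi hR rot5_147 rot5_147r) (AllP.cons (Just.rot hT hi hR rot5_148 rot5_148r) (AllP.cons (Just.rot hT hi hR rot5_149 rot5_149r) (AllP.cons (Just.rot hT hi hR rot5_150 rot5_150r) (AllP.cons (Just.rot hT hi hR rot5_151 rot5_151r) (AllP.cons (Just.rot hT hi hR rot5_152 rot5_152r) (AllP.cons (Just.rot hT hi hR rot5_153 rot5_153r) (AllP.cons (Just.rot hT hi hR rot5_154 rot5_154r) (AllP.cons (Just.rot hT hi hR rot5_155 rot5_155r) (AllP.cons (Just.rot hT hi hR rot5_156 rot5_156r) (AllP.cons (Just.rot hT hi hR rot5_157 rot5_157r) (AllP.cons (Just.rot hT hi hR rot5_158 rot5_158r) (AllP.cons (Just.rot hT hi hR rot5_159 rot5_159r) (AllP.cons (Just.rot hT hi hR rot5_160 rot5_160r) (AllP.cons (Just.rot hT hi hR rot5_161 rot5_161r) (AllP.cons (Just.rot hT hi hR rot5_162 rot5_162r)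 (AllP.cons (Just.rot hT hi hR rot5_163 rot5_163r) (AllP.cons (Just.rot hT hi hR rot5_164 rot5_164r) (AllP.cons (Just.rot hT hi hR rot5_165 rot5_165r) (AllP.cons (Just.rot hT hi hR rot5_166 rot5_166r) (AllP.cons (Just.rot hT hi hR rot5_167 rot5_167r) (AllP.cons (Just.rot hT hi hR rot5_168 rot5_168r) (AllP.cons (Just.rot hT hi hR rot5_169 rot5_169r) (AllP.cons (Just.rot hT hi hR rot5_170 rot5_170r) (AllP.cons (Just.rot hT hi hR rot5_171 rot5_171r) (AllP.cons (Just.base (hb 5 (by decide))) (AllP.nil)))))))))))))))))))))))))))))))))))))))))))))))))))))))))))))))))))))))))))))))))))))))))))))))))))))))))))))))))))))))))))))))))))))))))))))))))))))))))))))))))))))))))))))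
theorem hlet : AllP (LetOk H (letV a EX) T L) L :=
  show AllP (LetOk H (letV a EX) T L) [1, 2, 3, 4, 5] from AllP.cons (let1 hi hR hb) (AllP.cons (let2 hi hR hb) (AllP.cons (let3 hi hR hb) (AllP.cons (let4 hi hR hb) (AllP.cons (let5 hi hR hb) (AllP.nil)))))
end

theorem cert : Cert 5 5 RL BW fP 170775 :=
  Cert.of hT ⟨hsq, hrel⟩ hPZ (fun _ _ _ hi hR _ hb => hlet hi hR hb) hcov hg (by decide +kernel)

end Cfsg.Agent.Spor.C3M
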