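import Cfsg.Agent.Spor.C3M.D0
import Cfsg.Agent.Spor.C3M.D1
import Cfsg.Agent.Spor.C3M.D2

set_option autoImplicit false
set_option maxRecDepth 100000000
set_option Elab.async false
noncomputable section

namespace Cfsg.Agent.Spor.C3M

def NT : List Net := [n0, n1, n2, n3, n4]
def LT : List Let := [⟨0, false, 0, 0, []⟩, l1, l2, l3, l4, l5]
def T : Tab := ⟨NT, LT⟩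
def EX : List (List Nat) := [[], [0], [2], [4], [6], [8]]
def RL : List (List Nat) := [[2, 4, 2, 4, 2, 4, 2, 4], [2, 8, 2, 8, 2, 8, 2, 8, 2, 8, 2, 8], [4, 8, 4, 8, 4, 8, 4, 8], [8, 2, 4, 2, 4, 8, 4, 2, 4, 2, 8, 4, 2, 4, 2], [8, 4, 8, 2, 4, 8, 2, 8, 4, 8, 4, 2, 8, 2, 8, 4, 8, 4, 2, 8, 4, 2], [8, 4, 2, 4, 8, 4, 2, 8, 4, 2, 8, 4, 2, 8, 4, 2, 8, 4, 2, 8, 2, 8, 2, 4, 2], [2, 6, 2, 6, 2, 6, 2, 6, 2, 6, 2, 6], [6, 8, 6, 8, 6, 8, 6, 8], [8, 2, 8, 2, 6, 2, 6, 8, 6, 8, 2, 6, 8, 6, 2, 6, 2, 6, 2], [8, 2, 6, 2, 8, 6, 2, 6, 2, 8, 2, 6, 2, 8, 6, 2, 6, 2], [4, 6, 4, 6, 4, 6, 4, 6, 4, 6, 4, 6], [8, 6, 4, 8, 4, 8, 6], [4, 2, 4, 8, 2, 8, 4, 2, 8, 2, 4, 2, 8, 4, 6, 2, 6, 2, 6], [2, 8, 2, 6, 4, 2, 4, 6, 2, 4, 6, 4, 6, 4, 2, 6, 4,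 2, 4, 6], [0, 2, 0, 2, 0, 2, 0, 2], [0, 8, 0, 8, 0, 8, 0, 8, 0, 8, 0, 8], [8, 0, 8, 0, 2, 0, 2, 8, 0, 8, 2, 0, 2, 0], [8, 2, 8, 0, 8, 2, 0, 8, 2, 8, 0, 8, 2, 8, 0, 2, 8, 2, 0, 8, 0, 2, 0], [8, 2, 0, 8, 2, 0, 8, 2, 0, 8, 2, 0, 8, 2, 0, 8, 2, 0], [0, 6, 0, 6, 0, 6], [8, 2, 8, 6, 2, 6, 2, 8, 6, 8, 2, 6, 2, 0, 8, 6, 0], [6, 2, 6, 8, 6, 8, 2, 8, 6, 8, 2, 8, 2, 6, 0, 6, 2, 6, 0], [0, 4, 0, 4, 0, 4, 0, 4, 0, 4, 0, 4], [4, 8, 2, 4, 8, 2, 4, 2, 8, 4, 2, 8, 4, 0, 4, 8, 4, 0], [8, 4, 2, 4, 8, 4, 8, 2, 4, 8, 4, 2, 4, 8, 2, 8, 0, 8, 4, 0, 8, 2, 8, 4, 2, 4, 0], [4, 2, 8, 2, 4, 8, 4, 2, 4, 8, 4, 2, 8, 2, 0, 8, 4, 0, 2, 4, 8, 4, 2, 4, 0], [4, 2, 8, 2, 8, 2, 4, 0, 4, 2, 8, 2, 8, 2, 4, 0], [2, 8, 2, 4, 2, 8, 4, 2, 8, 2, 8, 4, 8,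 2, 8, 0, 8, 2, 8, 0]]
def XL : List (List Nat) := []
def BW : List (List Nat) := [[2], [4], [6], [8]]
def IV : Nat := 0x50403020100
def L : List Nat := [1, 2, 3, 4, 5]
def gs : List Nat := [1, 2, 3, 4, 5]
def base : List Nat := [2, 3, 4, 5]

end Cfsg.Agent.Spor.C3M
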